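import Groth.Agent.Flat2D.FibDimAlg
import Groth.Agent.FlatA.DimFin
import Mathlib.RingTheory.TensorProduct.Finite
import Mathlib.RingTheory.TensorProduct.Quotient
import Mathlib.RingTheory.Jacobson.Ring
import Mathlib.RingTheory.Ideal.MinimalPrime.Noetherian

/-!
# Bad loci for twisted translations

If `D` is a finite type `k`-algebra of dimension `< r`, then the set of `g` with `x = ξ + t^N g` for a point of
`Spec D` (with coordinates `x`, `t`, `t` invertible) and `ξ` over a given closed point of affine `r`-space lies in a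
hypersurface.
-/

set_option autoImplicit false
universe u v w

open TensorProduct

namespace K837.BadLocus

theorem exists_ne_zero_aeval_eq_zero {k : Type u} {C : Type v} [Field k] [CommRing C] [Algebra k C]
    [Algebra.FiniteType k C] {r : ℕ} (hdim : ringKrullDim C < r) (y : Fin r → C) :
    ∃ h : MvPolynomial (Fin r) k, h ≠ 0 ∧ MvPolynomial.aeval y h = 0 := by
  classical
  have hex : ∀ Q : PrimeSpectrum C, ∃ g : MvPolynomial (Fin r) k, g ≠ 0 ∧
      MvPolynomial.aeval y g ∈ Q.asIdeal := by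
    intro Q
    by_contra hcon
    push Not at hcon
    have := Groth.Agent.Flat2D.FibDimAlg.le_ringKrullDim_of_algebraicIndependent Q y
      (fun g hg => by by_contra h; exact hcon g h hg)
    exact absurd hdim (not_lt.mpr this)
  choose g hg hgQ using hex
  have : IsNoetherianRing C := Algebra.FiniteType.isNoetherianRing k C
  have hfin : (minimalPrimes C).Finite := minimalPrimes.finite_of_isNoetherianRing C
  have hfin' : {Q : PrimeSpectrum C | Q.asIdeal ∈ minimalPrimes C}.Finite := by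
    refine Set.Finite.of_finite_image (f := PrimeSpectrum.asIdeal) (hfin.subset ?_) ?_
    · rintro _ ⟨Q, hQ, rfl⟩; exact hQ
    · intro a _ b _ h; exact PrimeSpectrum.ext h
  set F := hfin'.toFinset with hF
  have hnil : IsNilpotent (MvPolynomial.aeval y (∏ Q ∈ F, g Q)) := by
    have hrad : nilradical C = sInf (minimalPrimes C) := (Ideal.sInf_minimalPrimes (I := (⊥ : Ideal C))).symm
    rw [← mem_nilradical, hrad, Ideal.mem_sInf]
    intro p hp
    have hp' : p.IsPrime := Ideal.IsMinimalPrime.isPrime hp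
    rw [map_prod]
    have hmem : (⟨p, hp'⟩ : PrimeSpectrum C) ∈ F := by
      rw [hF, Set.Finite.mem_toFinset]; exact hp
    rw [← Finset.mul_prod_erase _ _ hmem]
    exact Ideal.mul_mem_right _ _ (hgQ ⟨p, hp'⟩)
  obtain ⟨n, hn⟩ := hnil
  refine ⟨(∏ Q ∈ F, g Q) ^ n, pow_ne_zero _ (Finset.prod_ne_zero_iff.mpr fun Q _ => hg Q), ?_⟩
  rw [map_pow, hn]

theorem exists_bad_aux {k : Type u} {C : Type v} [Field k] [CommRing C] [Algebra k C]
    [Algebra.FiniteType k C] {r : ℕ} (hdim : ringKrullDim C < r) (y : Fin r → C) :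
    ∃ h : MvPolynomial (Fin r) k, h ≠ 0 ∧ ∀ (L : Type w) [Field L] [Algebra k L] (θ : C →ₐ[k] L)
      (g : Fin r → L), (∀ i, θ (y i) = g i) → MvPolynomial.aeval g h = 0 := by
  obtain ⟨h, hh, hy⟩ := exists_ne_zero_aeval_eq_zero (k := k) hdim y
  refine ⟨h, hh, fun L _ _ θ g hθ => ?_⟩
  have h5 := congrArg θ hy
  rw [map_zero, MvPolynomial.comp_aeval_apply] at h5
  simpa only [hθ] using h5

theorem finite_quotient {k : Type u} [Field k] {r : ℕ} (P : Ideal (MvPolynomial (Fin r) k)) (hP : P.IsMaximal) :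
    Module.Finite k (MvPolynomial (Fin r) k ⧸ P) := by
  let _ : Field (MvPolynomial (Fin r) k ⧸ P) := Ideal.Quotient.field P
  exact finite_of_finite_type_of_isJacobsonRing k (MvPolynomial (Fin r) k ⧸ P)

theorem exists_bad {k : Type u} [Field k] {D : Type v} [CommRing D] [Algebra k D]
    [Algebra.FiniteType k D] {r : ℕ} (hdim : ringKrullDim D < r) (x : Fin r → D) (t : D)
    (ht : IsUnit t) (N : ℕ) (P : Ideal (MvPolynomial (Fin r) k)) (hP : P.IsMaximal) :
    ∃ h : MvPolynomial (Fin r) k, h ≠ 0 ∧ ∀ (L : Type w) [Field L] [Algebra k L] (ψ : D →ₐ[k] L)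
      (ξ : Fin r → L) (g : Fin r → L), (∀ p ∈ P, MvPolynomial.aeval ξ p = 0) →
      (∀ i, ψ (x i) = ξ i + ψ t ^ N * g i) → MvPolynomial.aeval g h = 0 := by
  have := finite_quotient P hP
  have hDC : Algebra.FiniteType D (D ⊗[k] (MvPolynomial (Fin r) k ⧸ P)) := inferInstance
  have hFT : Algebra.FiniteType k (D ⊗[k] (MvPolynomial (Fin r) k ⧸ P)) :=
    Algebra.FiniteType.trans ‹Algebra.FiniteType k D› hDC
  have hdimC := (Groth.Agent.FlatA.DimFin.ringKrullDim_le_of_isIntegral D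
    (D ⊗[k] (MvPolynomial (Fin r) k ⧸ P))).trans_lt hdim
  obtain ⟨t', ht'⟩ := ht.exists_left_inv
  let y : Fin r → D ⊗[k] (MvPolynomial (Fin r) k ⧸ P) := fun i =>
    (x i ⊗ₜ 1 - 1 ⊗ₜ (Ideal.Quotient.mk P (MvPolynomial.X i))) * ((t' ^ N) ⊗ₜ 1)
  obtain ⟨h, hh, hy⟩ := exists_bad_aux.{u, _, w} (k := k) hdimC y
  refine ⟨h, hh, fun L _ _ ψ ξ g hξ hx => ?_⟩
  let χ : (MvPolynomial (Fin r) k ⧸ P) →ₐ[k] L := Ideal.Quotient.liftₐ P (MvPolynomial.aeval ξ) hξ
  have hχ : ∀ i, χ (Ideal.Quotient.mk P (MvPolynomial.X i)) = ξ i := fun i =>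
    MvPolynomial.aeval_X ξ i
  let θ : D ⊗[k] (MvPolynomial (Fin r) k ⧸ P) →ₐ[k] L :=
    Algebra.TensorProduct.lift ψ χ (fun _ _ => Commute.all _ _)
  have hθ0 : ∀ a b, θ (a ⊗ₜ b) = ψ a * χ b := fun a b => Algebra.TensorProduct.lift_tmul _ _ _ _ _
  refine hy L θ g fun i => ?_
  change θ ((x i ⊗ₜ 1 - 1 ⊗ₜ (Ideal.Quotient.mk P (MvPolynomial.X i))) * ((t' ^ N) ⊗ₜ 1)) = g i
  rw [map_mul, map_sub, hθ0, hθ0, hθ0, hx i, hχ, map_one, map_one, map_pow]
  have h4 : ψ t' ^ N * ψ t ^ N = 1 := by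
    rw [← mul_pow, ← map_mul, ht', map_one, one_pow]
  calc ((ξ i + ψ t ^ N * g i) * 1 - 1 * ξ i) * (ψ t' ^ N * 1) = (ψ t' ^ N * ψ t ^ N) * g i := by ring
    _ = g i := by rw [h4, one_mul]

end K837.BadLocus
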