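import Groth.Agent.MovLem.K837.PureTr
import Mathlib.AlgebraicGeometry.Pullbacks
import Mathlib.AlgebraicGeometry.Noetherian
import Mathlib.Topology.NoetherianSpace
import Mathlib.RingTheory.Spectrum.Prime.Topology

/-!
# Dense open subsets after extension of the base field: a chart
-/

set_option autoImplicit false
universe u

open CategoryTheory CategoryTheory.Limits AlgebraicGeometry TensorProduct

namespace K837.DenseExt

/-- minimal primes lie in every dense open subset -/
theorem mem_of_dense {R : Type*} [CommRing R] [IsNoetherianRing R] {D : Set (PrimeSpectrum R)}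
    (hD : IsOpen D) (hdense : Dense D) (Q : PrimeSpectrum R) (hQ : Q.asIdeal ∈ minimalPrimes R) : Q ∈ D := by
  have hcomp : closure ({Q} : Set (PrimeSpectrum R)) ∈ irreducibleComponents (PrimeSpectrum R) := by
    rw [← PrimeSpectrum.vanishingIdeal_mem_minimalPrimes, PrimeSpectrum.vanishingIdeal_singleton]
    exact hQ
  obtain ⟨o, ho, hne, hsub⟩ :=
    TopologicalSpace.NoetherianSpace.exists_isOpen_nonempty_subset_irreducibleComponent _ hcomp
  obtain ⟨w, hwo, hwD⟩ := hdense.inter_open_nonempty o ho hne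
  have h1 : Q ⤳ w := specializes_iff_mem_closure.mpr (hsub hwo)
  exact h1.mem_open hD hwD

lemma mem_open_iff {R : Type*} [CommRing R] (O : Set (PrimeSpectrum R)) (hO : IsOpen O) (y : PrimeSpectrum R) :
    y ∈ O ↔ ¬ PrimeSpectrum.vanishingIdeal Oᶜ ≤ y.asIdeal := by
  have h1 : y ∈ PrimeSpectrum.zeroLocus (PrimeSpectrum.vanishingIdeal Oᶜ : Set R) ↔
      PrimeSpectrum.vanishingIdeal Oᶜ ≤ y.asIdeal := by
    rw [PrimeSpectrum.mem_zeroLocus]; rfl
  rw [← h1, PrimeSpectrum.zeroLocus_vanishingIdeal_eq_closure, hO.isClosed_compl.closure_eq,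
    Set.mem_compl_iff, not_not]

theorem dense_of_minimal {R : Type*} [CommRing R] {D : Set (PrimeSpectrum R)}
    (h : ∀ Q : PrimeSpectrum R, Q.asIdeal ∈ minimalPrimes R → Q ∈ D) : Dense D := by
  intro w
  have hwp : w.asIdeal.IsPrime := w.isPrime
  obtain ⟨P, hP, hPw⟩ := Ideal.exists_minimalPrimes_le (I := (⊥ : Ideal R)) (J := w.asIdeal) bot_le
  let Q : PrimeSpectrum R := ⟨P, hP.1.1⟩
  have h1 : Q ⤳ w := (PrimeSpectrum.le_iff_specializes Q w).mp hPw
  exact closure_mono (Set.singleton_subset_iff.mpr (h Q hP)) (specializes_iff_mem_closure.mp h1)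

theorem chart {k K : Type u} [Field k] [Field K] [Algebra k K]
    (X : Scheme.{u}) (f : X ⟶ Spec (CommRingCat.of k))
    (U' : (pullback f (Spec.map (CommRingCat.ofHom (algebraMap k K)))).Opens)
    (hU' : Dense (U' : Set ↥(pullback f (Spec.map (CommRingCat.ofHom (algebraMap k K))))))
    (B : Type u) [CommRing B] [Algebra k B] [Algebra.FiniteType k B]
    (ι₀ : Spec (CommRingCat.of B) ⟶ X) [IsOpenImmersion ι₀]
    (hι : ι₀ ≫ f = Spec.map (CommRingCat.ofHom (algebraMap k B))) :
    ∃ V : (Spec (CommRingCat.of B)).Opens, Dense (V : Set (Spec (CommRingCat.of B))) ∧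
      ∀ (kb Ω : Type u) [Field kb] [Algebra k kb] [Algebra.IsAlgebraic k kb]
        [Field Ω] [Algebra k Ω] [Algebra kb Ω] [Algebra K Ω] [IsScalarTower k kb Ω] [IsScalarTower k K Ω]
        (x : Spec (CommRingCat.of kb) ⟶ Spec (CommRingCat.of B)), (∀ t, x t ∈ V) →
        ∀ (y : Spec (CommRingCat.of Ω) ⟶ pullback f (Spec.map (CommRingCat.ofHom (algebraMap k K)))),
          y ≫ pullback.fst f (Spec.map (CommRingCat.ofHom (algebraMap k K))) =
              Spec.map (CommRingCat.ofHom (algebraMap kb Ω)) ≫ x ≫ ι₀ →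
          y ≫ pullback.snd f (Spec.map (CommRingCat.ofHom (algebraMap k K))) =
              Spec.map (CommRingCat.ofHom (algebraMap K Ω)) →
          ∀ t, y t ∈ U' := by
  let q := Spec.map (CommRingCat.ofHom (algebraMap k K))
  let inl : CommRingCat.of B ⟶ CommRingCat.of (B ⊗[k] K) :=
    CommRingCat.ofHom (Algebra.TensorProduct.includeLeftRingHom)
  let inr : CommRingCat.of K ⟶ CommRingCat.of (B ⊗[k] K) :=
    CommRingCat.ofHom (Algebra.TensorProduct.includeRight.toRingHom)
  have hbig : IsPullback (Spec.map inr) (Spec.map inl) q (Spec.map (CommRingCat.ofHom (algebraMap k B))) :=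
    (isPullback_SpecMap_of_isPushout _ _ _ _ (CommRingCat.isPushout_tensorProduct k B K)).flip
  let jK : Spec (CommRingCat.of (B ⊗[k] K)) ⟶ pullback f q :=
    pullback.lift (Spec.map inl ≫ ι₀) (Spec.map inr) (by rw [Category.assoc, hι, hbig.w])
  have hjfst : jK ≫ pullback.fst f q = Spec.map inl ≫ ι₀ := pullback.lift_fst _ _ _
  have hjsnd : jK ≫ pullback.snd f q = Spec.map inr := pullback.lift_snd _ _ _
  have hpb : IsPullback jK (Spec.map inl) (pullback.fst f q) ι₀ := by
    refine IsPullback.of_right (h₁₂ := pullback.snd f q) (h₂₂ := f) (v₁₃ := q) ?_ hjfst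
      (IsPullback.of_hasPullback f q).flip
    rw [hjsnd, hι]
    exact hbig
  have hjK : IsOpenImmersion jK := MorphismProperty.of_isPullback hpb.flip inferInstance
  have hNT : IsNoetherianRing (B ⊗[k] K) := by
    have h1 : Algebra.FiniteType K (K ⊗[k] B) := inferInstance
    have h2 : IsNoetherianRing (K ⊗[k] B) := Algebra.FiniteType.isNoetherianRing K _
    exact isNoetherianRing_of_ringEquiv _ (Algebra.TensorProduct.comm k K B).toRingEquiv
  let D : Set (PrimeSpectrum (B ⊗[k] K)) := jK ⁻¹' (U' : Set _)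
  have hDo : IsOpen D := U'.isOpen.preimage jK.continuous
  have hDd : Dense D := hU'.preimage jK.isOpenEmbedding.isOpenMap
  obtain ⟨J, hJ, hmain⟩ := K837.PureTr.main k B K (PrimeSpectrum.vanishingIdeal Dᶜ) (by
    intro Q hQ
    have h1 := mem_of_dense hDo hDd ⟨Q, hQ.1.1⟩ hQ
    exact (mem_open_iff D hDo _).mp h1)
  refine ⟨⟨(PrimeSpectrum.zeroLocus (J : Set B))ᶜ, (PrimeSpectrum.isClosed_zeroLocus _).isOpen_compl⟩, ?_, ?_⟩
  · exact dense_of_minimal fun Q hQ h => hJ _ hQ h
  · intro kb Ω _ _ _ _ _ _ _ _ _ x hx y hy1 hy2 t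
    let y' : Spec (CommRingCat.of Ω) ⟶ Spec (CommRingCat.of (B ⊗[k] K)) :=
      hpb.lift y (Spec.map (CommRingCat.ofHom (algebraMap kb Ω)) ≫ x) (by rw [hy1, Category.assoc])
    have hy'1 : y' ≫ jK = y := hpb.lift_fst _ _ _
    have hy'2 : y' ≫ Spec.map inl = Spec.map (CommRingCat.ofHom (algebraMap kb Ω)) ≫ x := hpb.lift_snd _ _ _
    obtain ⟨φ, rfl⟩ : ∃ φ, Spec.map φ = x := ⟨Spec.preimage x, Spec.map_preimage x⟩
    obtain ⟨ψ, hψ⟩ : ∃ ψ, Spec.map ψ = y' := ⟨Spec.preimage y', Spec.map_preimage y'⟩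
    have e1 : inl ≫ ψ = φ ≫ CommRingCat.ofHom (algebraMap kb Ω) := by
      apply Spec.map_injective
      rw [Spec.map_comp, Spec.map_comp, hψ, hy'2]
    have e2 : inr ≫ ψ = CommRingCat.ofHom (algebraMap K Ω) := by
      apply Spec.map_injective
      rw [Spec.map_comp, hψ, ← hjsnd, ← Category.assoc, hy'1, hy2]
    have key := hmain kb Ω φ.hom ψ.hom (fun a => ConcreteCategory.congr_hom e1 a)
      (fun c => ConcreteCategory.congr_hom e2 c) (by
        intro hcon
        have h1 := hx (⊥ : PrimeSpectrum kb)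
        apply h1
        intro a ha
        exact hcon ha)
    have h2 : y' t ∈ D := by
      refine (mem_open_iff D hDo _).mpr fun hle => key ?_
      intro a ha
      have h3 := hle ha
      rw [← hψ] at h3
      have h4 : ψ.hom a ∈ t.asIdeal := h3
      have h5 : (t : PrimeSpectrum Ω).asIdeal = ⊥ :=
        (Ideal.eq_bot_or_top (t : PrimeSpectrum Ω).asIdeal).resolve_right (t : PrimeSpectrum Ω).isPrime.ne_top
      rw [h5] at h4
      exact h4
    rw [← hy'1]
    exact h2

end K837.DenseExt
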