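import Groth.Agent.S2788
import Mathlib.RingTheory.Kaehler.Polynomial
import Mathlib.RingTheory.Unramified.Field
import Mathlib.RingTheory.Smooth.Locus
import Mathlib.GroupTheory.CosetCover

/-!
# Smoothness of a function at a point where its differential does not vanish
-/

set_option autoImplicit false
universe u v w

open IsLocalRing TensorProduct

namespace K837.Diff

/-- In a projective module over a local ring, an element outside `𝔪 M` is mapped to `1` by some
linear form. -/
theorem exists_linearForm {L : Type u} {M : Type v} [CommRing L] [IsLocalRing L] [AddCommGroup M]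
    [Module L M] [Module.Projective L M] (w : M) (hw : w ∉ (maximalIdeal L • ⊤ : Submodule L M)) :
    ∃ l : M →ₗ[L] L, l w = 1 := by
  obtain ⟨s, hs⟩ := Module.Projective.out (R := L) (P := M)
  have hex : ∃ p : M, s w p ∉ maximalIdeal L := by
    by_contra hcon
    push Not at hcon
    apply hw
    rw [← hs w, Finsupp.linearCombination_apply, Finsupp.sum]
    exact Submodule.sum_mem _ fun p _ => Submodule.smul_mem_smul (hcon p) trivial
  obtain ⟨p, hp⟩ := hex
  have hu : IsUnit (s w p) := by
    by_contra h
    exact hp ((mem_maximalIdeal _).mpr h)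
  obtain ⟨c, hc⟩ := hu
  refine ⟨(↑c⁻¹ : L) • (Finsupp.lapply p ∘ₗ s), ?_⟩
  simp only [LinearMap.smul_apply, LinearMap.comp_apply, Finsupp.lapply_apply, smul_eq_mul]
  rw [← hc, Units.inv_mul]

theorem formallySmooth_polynomial {k L : Type u} [CommRing k] [CommRing L] [IsLocalRing L]
    [Algebra k L] [Algebra (Polynomial k) L] [IsScalarTower k (Polynomial k) L]
    [Algebra.FormallySmooth k L]
    (h : KaehlerDifferential.D k L (algebraMap (Polynomial k) L Polynomial.X) ∉
      (maximalIdeal L • ⊤ : Submodule L (KaehlerDifferential k L))) :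
    Algebra.FormallySmooth (Polynomial k) L := by
  rw [Groth.Agent.S2788.formallySmooth_iff_retraction k (Polynomial k) L]
  obtain ⟨l, hl⟩ := exists_linearForm _ h
  refine ⟨(LinearMap.toSpanSingleton L _ ((1 : L) ⊗ₜ[Polynomial k]
    KaehlerDifferential.D k (Polynomial k) Polynomial.X)) ∘ₗ l, ?_⟩
  apply LinearMap.ext
  intro x
  induction x with
  | zero => simp
  | add x y hx hy => rw [map_add, hx, hy, map_add]
  | tmul a ω =>
    obtain ⟨b, rfl⟩ := (KaehlerDifferential.polynomialEquiv k).symm.surjective ω
    rw [KaehlerDifferential.polynomialEquiv_symm, LinearMap.comp_apply, LinearMap.id_apply,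
      KaehlerDifferential.mapBaseChange_tmul]
    have h1 : KaehlerDifferential.map k k (Polynomial k) L
        (b • KaehlerDifferential.D k (Polynomial k) Polynomial.X) =
        algebraMap (Polynomial k) L b •
          KaehlerDifferential.D k L (algebraMap (Polynomial k) L Polynomial.X) := by
      rw [map_smul, KaehlerDifferential.map_D, algebraMap_smul]
    rw [h1, smul_smul, map_smul, LinearMap.comp_apply, hl, LinearMap.toSpanSingleton_apply, one_smul,
      TensorProduct.smul_tmul', smul_eq_mul, mul_one, TensorProduct.tmul_smul, TensorProduct.smul_tmul',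
      Algebra.smul_def, mul_comm]

/-- The differentials of generators generate the differentials of a localization. -/
theorem span_D_localization {k C : Type u} {L : Type v} [CommRing k] [CommRing C] [CommRing L] [Algebra k C]
    [Algebra k L] [Algebra C L] [IsScalarTower k C L] (M : Submonoid C) [IsLocalization M L]
    {n : ℕ} (c : Fin n → C) (hc : Algebra.adjoin k (Set.range c) = ⊤) :
    Submodule.span L (Set.range fun j => KaehlerDifferential.D k L (algebraMap C L (c j))) = ⊤ := by
  rw [eq_top_iff, ← KaehlerDifferential.span_range_derivation k L, Submodule.span_le]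
  rintro _ ⟨z, rfl⟩
  -- first for elements of `C`
  have hC : ∀ a : C, KaehlerDifferential.D k L (algebraMap C L a) ∈
      Submodule.span L (Set.range fun j => KaehlerDifferential.D k L (algebraMap C L (c j))) := by
    intro a
    have ha : a ∈ Algebra.adjoin k (Set.range c) := by rw [hc]; trivial
    induction ha using Algebra.adjoin_induction with
    | mem x hx => obtain ⟨j, rfl⟩ := hx; exact Submodule.subset_span ⟨j, rfl⟩
    | algebraMap r =>
      rw [← IsScalarTower.algebraMap_apply, Derivation.map_algebraMap]
      exact Submodule.zero_mem _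
    | add x y _ _ hx hy => rw [map_add, map_add]; exact Submodule.add_mem _ hx hy
    | mul x y _ _ hx hy =>
      rw [map_mul, Derivation.leibniz]
      exact Submodule.add_mem _ (Submodule.smul_mem _ _ hy) (Submodule.smul_mem _ _ hx)
  obtain ⟨⟨a, s⟩, hs⟩ := IsLocalization.surj M z
  have h1 := congrArg (KaehlerDifferential.D k L) hs
  simp only [Derivation.leibniz] at h1
  have hu : IsUnit (algebraMap C L s) := IsLocalization.map_units L s
  have h2 : algebraMap C L s • KaehlerDifferential.D k L z ∈
      Submodule.span L (Set.range fun j => KaehlerDifferential.D k L (algebraMap C L (c j))) := by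
    have h3 : algebraMap C L s • KaehlerDifferential.D k L z =
        KaehlerDifferential.D k L (algebraMap C L a) - z • KaehlerDifferential.D k L (algebraMap C L s) := by
      rw [← h1]; abel
    rw [h3]
    exact Submodule.sub_mem _ (hC a) (Submodule.smul_mem _ _ (hC s))
  obtain ⟨v, hv⟩ := hu
  have h4 : KaehlerDifferential.D k L z = (↑v⁻¹ : L) • (algebraMap C L s • KaehlerDifferential.D k L z) := by
    rw [smul_smul, ← hv, Units.inv_mul, one_smul]
  rw [h4]
  exact Submodule.smul_mem _ _ h2

/-- At a non-maximal prime, some generator has nonzero differential at the point. -/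
theorem exists_D_notMem {k C : Type u} [Field k] [CommRing C] [Algebra k C] [Algebra.FiniteType k C]
    {n : ℕ} (c : Fin n → C) (hc : Algebra.adjoin k (Set.range c) = ⊤) (q : Ideal C) [q.IsPrime]
    (hq : ¬ q.IsMaximal) :
    ∃ j, KaehlerDifferential.D k (Localization.AtPrime q) (algebraMap C _ (c j)) ∉
      (maximalIdeal (Localization.AtPrime q) • ⊤ :
        Submodule (Localization.AtPrime q) (KaehlerDifferential k (Localization.AtPrime q))) := by
  by_contra hcon
  push Not at hcon
  have h1 := span_D_localization (L := Localization.AtPrime q) q.primeCompl c hc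
  have h2 : (⊤ : Submodule (Localization.AtPrime q) (KaehlerDifferential k (Localization.AtPrime q))) ≤
      maximalIdeal (Localization.AtPrime q) • ⊤ := by
    rw [← h1, Submodule.span_le]
    rintro _ ⟨j, rfl⟩
    rw [h1]
    exact hcon j
  have hess : Algebra.EssFiniteType C (Localization.AtPrime q) :=
    Algebra.EssFiniteType.of_isLocalization _ q.primeCompl
  have hess' : Algebra.EssFiniteType k (Localization.AtPrime q) := Algebra.EssFiniteType.comp k C _
  have hfin : Module.Finite (Localization.AtPrime q) (KaehlerDifferential k (Localization.AtPrime q)) :=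
    inferInstance
  have h3 := Submodule.eq_bot_of_le_smul_of_le_jacobson_bot _ _ hfin.fg_top h2
    (IsLocalRing.maximalIdeal_le_jacobson _)
  have h4 : Subsingleton (KaehlerDifferential k (Localization.AtPrime q)) := by
    rw [← Submodule.subsingleton_iff (Localization.AtPrime q)]
    exact subsingleton_of_bot_eq_top h3.symm
  have h5 : Algebra.FormallyUnramified k (Localization.AtPrime q) := ⟨h4⟩
  have h6 : Module.Finite k (Localization.AtPrime q) := Algebra.FormallyUnramified.finite_of_free k _
  apply hq
  -- `C / q` is a domain finite over `k`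
  have h7 : Algebra.IsIntegral k q.ResidueField := by
    have : Module.Finite k q.ResidueField :=
      Module.Finite.of_surjective
        (IsScalarTower.toAlgHom k (Localization.AtPrime q) q.ResidueField).toLinearMap
        IsLocalRing.residue_surjective
    infer_instance
  have h8 : Function.Injective (algebraMap (C ⧸ q) q.ResidueField) :=
    Ideal.injective_algebraMap_quotient_residueField q
  have h9 : Algebra.IsIntegral k (C ⧸ q) := by
    constructor
    intro x
    obtain ⟨P, hP, hP'⟩ := Algebra.IsIntegral.isIntegral (R := k) (algebraMap (C ⧸ q) q.ResidueField x)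
    refine ⟨P, hP, h8 ?_⟩
    rw [Polynomial.hom_eval₂, ← IsScalarTower.algebraMap_eq, hP', map_zero]
  exact Ideal.Quotient.maximal_of_isField q
    (isField_of_isIntegral_of_isField' (Field.toIsField k))

/-- the linear combination of `1` and the generators -/
noncomputable def comb {k C : Type u} [Field k] [CommRing C] [Algebra k C] {n : ℕ} (c : Fin n → C) :
    (k × (Fin n → k)) →ₗ[k] C :=
  (LinearMap.toSpanSingleton k C 1).coprod (Fintype.linearCombination k c)

lemma comb_apply {k C : Type u} [Field k] [CommRing C] [Algebra k C] {n : ℕ} (c : Fin n → C)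
    (x : k × (Fin n → k)) : comb c x = algebraMap k C x.1 + ∑ j, x.2 j • c j := by
  simp [comb, Fintype.linearCombination_apply, Algebra.algebraMap_eq_smul_one]

/-- the differential at `q` of `e_λ u` as a linear function of `λ` -/
noncomputable def Psi {k C : Type u} [Field k] [CommRing C] [Algebra k C] {n : ℕ} (c : Fin n → C)
    (u : C) (q : Ideal C) [q.IsPrime] : (k × (Fin n → k)) →ₗ[k]
      (KaehlerDifferential k (Localization.AtPrime q) ⧸ (maximalIdeal (Localization.AtPrime q) • ⊤ :
        Submodule (Localization.AtPrime q) (KaehlerDifferential k (Localization.AtPrime q)))) :=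
  (((Submodule.mkQ (maximalIdeal (Localization.AtPrime q) • ⊤ :
        Submodule (Localization.AtPrime q) (KaehlerDifferential k (Localization.AtPrime q)))).restrictScalars k) ∘ₗ
    (KaehlerDifferential.D k (Localization.AtPrime q)).toLinearMap ∘ₗ
    (IsScalarTower.toAlgHom k C (Localization.AtPrime q)).toLinearMap ∘ₗ
    (LinearMap.mulRight k u)) ∘ₗ comb c

lemma Psi_eq_zero_iff {k C : Type u} [Field k] [CommRing C] [Algebra k C] {n : ℕ} (c : Fin n → C)
    (u : C) (q : Ideal C) [q.IsPrime] (x : k × (Fin n → k)) :
    Psi c u q x = 0 ↔ KaehlerDifferential.D k (Localization.AtPrime q)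
      (algebraMap C _ (comb c x * u)) ∈ (maximalIdeal (Localization.AtPrime q) • ⊤ :
        Submodule (Localization.AtPrime q) (KaehlerDifferential k (Localization.AtPrime q))) := by
  change Submodule.Quotient.mk _ = 0 ↔ _
  rw [Submodule.Quotient.mk_eq_zero]
  rfl

lemma Psi_ne_zero {k C : Type u} [Field k] [CommRing C] [Algebra k C] [Algebra.FiniteType k C]
    {n : ℕ} (c : Fin n → C) (hc : Algebra.adjoin k (Set.range c) = ⊤) (u : C) (q : Ideal C)
    [q.IsPrime] (hq : ¬ q.IsMaximal) (hu : u ∉ q) : LinearMap.ker (Psi (k := k) c u q) ≠ ⊤ := by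
  classical
  intro htop
  have hall : ∀ x, Psi (k := k) c u q x = 0 := fun x => by
    have : x ∈ LinearMap.ker (Psi (k := k) c u q) := by rw [htop]; trivial
    exact this
  have h1 := (Psi_eq_zero_iff c u q (1, 0)).mp (hall _)
  have h1' : comb c ((1 : k), (0 : Fin n → k)) = 1 := by simp [comb_apply]
  rw [h1', one_mul] at h1
  obtain ⟨j, hj⟩ := exists_D_notMem c hc q hq
  have h2 := (Psi_eq_zero_iff c u q (0, Pi.single j 1)).mp (hall _)
  have h2' : comb c ((0 : k), (Pi.single j 1 : Fin n → k)) = c j := by
    simp [comb_apply, Pi.single_apply]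
  rw [h2', map_mul, Derivation.leibniz] at h2
  have h3 := (Submodule.add_mem_iff_right _ (Submodule.smul_mem _ _ h1)).mp h2
  have hunit : IsUnit (algebraMap C (Localization.AtPrime q) u) :=
    IsLocalization.map_units (Localization.AtPrime q) (⟨u, hu⟩ : q.primeCompl)
  obtain ⟨v, hv⟩ := hunit
  apply hj
  rw [← hv] at h3
  have h4 := Submodule.smul_mem _ (↑v⁻¹ : Localization.AtPrime q) h3
  rwa [smul_smul, Units.inv_mul, one_smul] at h4

/-- The general choice of a multiplier. -/
theorem exists_good {k C : Type u} [Field k] [Infinite k] [CommRing C] [Algebra k C]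
    [Algebra.FiniteType k C] (u : C) (p : Ideal C) (hp : p ≠ ⊤) {ι : Type*} [Finite ι]
    (q : ι → Ideal C) [∀ i, (q i).IsPrime] (hq : ∀ i, ¬ (q i).IsMaximal) (hu : ∀ i, u ∉ q i) :
    ∃ e : C, e ∉ p ∧ ∀ i, KaehlerDifferential.D k (Localization.AtPrime (q i))
      (algebraMap C _ (e * u)) ∉ (maximalIdeal (Localization.AtPrime (q i)) • ⊤ :
        Submodule (Localization.AtPrime (q i)) (KaehlerDifferential k (Localization.AtPrime (q i)))) := by
  obtain ⟨n, c, hc⟩ : ∃ (n : ℕ) (c : Fin n → C), Algebra.adjoin k (Set.range c) = ⊤ := by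
    obtain ⟨s, hs⟩ := (inferInstance : Algebra.FiniteType k C).out
    refine ⟨s.card, fun i => (s.equivFin.symm i : C), ?_⟩
    rw [← hs]
    congr 1
    ext x
    simp only [Set.mem_range, Finset.mem_coe]
    constructor
    · rintro ⟨i, rfl⟩; exact (s.equivFin.symm i).2
    · intro hx; exact ⟨s.equivFin ⟨x, hx⟩, by simp⟩
  let W : Option ι → Subspace k (k × (Fin n → k)) := fun o =>
    o.elim ((p.restrictScalars k).comap (comb c)) (fun i => LinearMap.ker (Psi c u (q i)))
  have hW : ∀ o, W o ≠ ⊤ := by
    intro o
    cases o with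
    | none =>
      intro htop
      have h1 : ((1 : k), (0 : Fin n → k)) ∈ W none := by rw [htop]; trivial
      have h2 : comb c ((1 : k), (0 : Fin n → k)) ∈ p := h1
      apply hp
      rw [Ideal.eq_top_iff_one]
      simpa [comb_apply] using h2
    | some i => exact Psi_ne_zero c hc u (q i) (hq i) (hu i)
  have hcov : ⋃ o, (W o : Set (k × (Fin n → k))) ≠ Set.univ := by
    intro h
    obtain ⟨o, ho⟩ := Subspace.exists_eq_top_of_iUnion_eq_univ h
    exact hW o ho
  obtain ⟨x, hx⟩ := (Set.ne_univ_iff_exists_notMem _).mp hcov
  rw [Set.mem_iUnion, not_exists] at hx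
  refine ⟨comb c x, hx none, fun i h => hx (some i) ?_⟩
  exact (Psi_eq_zero_iff c u (q i) x).mpr h

end K837.Diff
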