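import Groth.Agent.FlatA.DimFin
import Mathlib.RingTheory.KrullDimension.NonZeroDivisors
import Mathlib.RingTheory.Spectrum.Prime.Topology
import Mathlib.AlgebraicGeometry.Morphisms.Finite

/-!
# Finite images of full dimension are irreducible components
-/

set_option autoImplicit false
universe u v w

open CategoryTheory AlgebraicGeometry

namespace K837.FinComp

theorem ringKrullDim_ne_top (k A : Type*) [Field k] [CommRing A] [Algebra k A]
    [Algebra.FiniteType k A] : ringKrullDim A ≠ ⊤ := by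
  obtain ⟨n, φ, hφ⟩ := Algebra.FiniteType.iff_quotient_mvPolynomial''.mp
    (inferInstance : Algebra.FiniteType k A)
  have h1 := ringKrullDim_le_of_surjective φ.toRingHom hφ
  rw [MvPolynomial.ringKrullDim_of_isNoetherianRing, ringKrullDim_eq_zero_of_field, zero_add] at h1
  intro h
  rw [h, top_le_iff] at h1
  have h2 : ((Nat.card (Fin n) : ℕ∞) : WithBot ℕ∞) = ((⊤ : ℕ∞) : WithBot ℕ∞) := h1
  exact ENat.natCast_ne_top _ (WithBot.coe_injective h2)

theorem ringKrullDim_quotient_succ_le {A : Type u} [CommRing A] (Q P : Ideal A) [Q.IsPrime]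
    (hlt : Q < P) : ringKrullDim (A ⧸ P) + 1 ≤ ringKrullDim A := by
  obtain ⟨r, hrP, hrQ⟩ := SetLike.exists_of_lt hlt
  have hr : Ideal.Quotient.mk Q r ∈ nonZeroDivisors (A ⧸ Q) := by
    rw [mem_nonZeroDivisors_iff_ne_zero]
    rwa [Ne, Ideal.Quotient.eq_zero_iff_mem]
  have h1 := ringKrullDim_quotient_succ_le_of_nonZeroDivisor hr
  have h2 : ringKrullDim (A ⧸ P) ≤ ringKrullDim ((A ⧸ Q) ⧸ Ideal.span {Ideal.Quotient.mk Q r}) := by
    have hle : Ideal.span {Ideal.Quotient.mk Q r} ≤ RingHom.ker (Ideal.Quotient.factor hlt.le) := by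
      rw [Ideal.span_le, Set.singleton_subset_iff]
      change Ideal.Quotient.factor hlt.le (Ideal.Quotient.mk Q r) = 0
      rw [Ideal.Quotient.factor_mk, Ideal.Quotient.eq_zero_iff_mem]
      exact hrP
    refine ringKrullDim_le_of_surjective (Ideal.Quotient.lift _ (Ideal.Quotient.factor hlt.le) hle) ?_
    exact Ideal.Quotient.lift_surjective_of_surjective _ _ (Ideal.Quotient.factor_surjective hlt.le)
  calc ringKrullDim (A ⧸ P) + 1 ≤ ringKrullDim ((A ⧸ Q) ⧸ Ideal.span {Ideal.Quotient.mk Q r}) + 1 := by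
        gcongr
    _ ≤ ringKrullDim (A ⧸ Q) := h1
    _ ≤ ringKrullDim A := ringKrullDim_quotient_le Q

theorem ker_mem_minimalPrimes {A C : Type u} [CommRing A] [CommRing C] [IsDomain C] [Algebra A C]
    [Algebra.IsIntegral A C] (hA : ringKrullDim A ≠ ⊤) (h : ringKrullDim C = ringKrullDim A) :
    RingHom.ker (algebraMap A C) ∈ minimalPrimes A := by
  refine ⟨⟨RingHom.ker_isPrime _, bot_le⟩, ?_⟩
  rintro Q ⟨hQ, -⟩ hle
  by_contra hcon
  have hlt : Q < RingHom.ker (algebraMap A C) := lt_of_le_not_ge hle hcon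
  have h1 := ringKrullDim_quotient_succ_le Q _ hlt
  let _ : Algebra (A ⧸ RingHom.ker (algebraMap A C)) C :=
    (RingHom.kerLift (algebraMap A C)).toAlgebra
  have htow : IsScalarTower A (A ⧸ RingHom.ker (algebraMap A C)) C :=
    IsScalarTower.of_algebraMap_eq fun x => (RingHom.kerLift_mk (algebraMap A C) x).symm
  have hint : Algebra.IsIntegral (A ⧸ RingHom.ker (algebraMap A C)) C :=
    Algebra.IsIntegral.tower_top A
  have h2 := Groth.Agent.FlatA.DimFin.ringKrullDim_le_of_isIntegral
    (A ⧸ RingHom.ker (algebraMap A C)) C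
  have h3 : ringKrullDim C + 1 ≤ ringKrullDim C := by
    refine le_trans ?_ (h1.trans h.ge)
    gcongr
  have h4 : ringKrullDim C ≠ ⊤ := h ▸ hA
  have h5 : ringKrullDim C ≠ ⊥ := by
    have := ringKrullDim_nonneg_of_nontrivial (R := C)
    intro h6
    rw [h6] at this
    simp at this
  generalize ringKrullDim C = D at h3 h4 h5
  induction D with
  | bot => exact h5 rfl
  | coe D =>
    have h7 : D + 1 ≤ D := by exact_mod_cast h3
    have h8 : D ≠ ⊤ := by
      rintro rfl
      exact h4 rfl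
    exact absurd h7 (not_le.mpr ((ENat.lt_add_one_iff h8).mpr le_rfl))

theorem range_comap_mem {A C : Type u} [CommRing A] [CommRing C] [IsDomain C] [Algebra A C]
    [Algebra.IsIntegral A C] (hA : ringKrullDim A ≠ ⊤) (h : ringKrullDim C = ringKrullDim A) :
    Set.range (PrimeSpectrum.comap (algebraMap A C)) ∈ irreducibleComponents (PrimeSpectrum A) := by
  have h1 := ker_mem_minimalPrimes hA h
  have hcl : IsClosed (Set.range (PrimeSpectrum.comap (algebraMap A C))) :=
    (PrimeSpectrum.isClosedMap_comap_of_isIntegral _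
      (algebraMap_isIntegral_iff.mpr inferInstance)).isClosed_range
  rw [← hcl.closure_eq, ← PrimeSpectrum.vanishingIdeal_mem_minimalPrimes,
    PrimeSpectrum.vanishingIdeal_range_comap]
  have : (RingHom.ker (algebraMap A C)).IsPrime := RingHom.ker_isPrime _
  rwa [Ideal.IsPrime.radical this]

theorem range_mem_irreducibleComponents {X Z : Scheme.{u}} (g : Z ⟶ X) [IsFinite g] [IsAffine X]
    [IsIntegral Z] (hX : topologicalKrullDim X ≠ ⊤) (hZ : topologicalKrullDim Z = topologicalKrullDim X) :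
    Set.range g ∈ irreducibleComponents X := by
  have hZaff : IsAffine Z := isAffine_of_isAffineHom g
  let A := Γ(X, ⊤)
  let C := Γ(Z, ⊤)
  have hsq : Z.isoSpec.inv ≫ g = Spec.map g.appTop ≫ X.isoSpec.inv := (Scheme.isoSpec_inv_naturality g).symm
  have hfin : IsFinite (Spec.map g.appTop) := by
    have h1 : Spec.map g.appTop = Z.isoSpec.inv ≫ g ≫ X.isoSpec.hom := by
      rw [← Category.assoc, hsq, Category.assoc, Iso.inv_hom_id, Category.comp_id]
    rw [h1]
    infer_instance
  have hfin' : g.appTop.hom.Finite := (IsFinite.SpecMap_iff _).mp hfin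
  let _ : Algebra A C := g.appTop.hom.toAlgebra
  have : Module.Finite A C := hfin'
  have hA : topologicalKrullDim X = ringKrullDim A := by
    rw [← PrimeSpectrum.topologicalKrullDim_eq_ringKrullDim]
    exact (Scheme.homeoOfIso X.isoSpec).isHomeomorph.topologicalKrullDim_eq
  have hC : topologicalKrullDim Z = ringKrullDim C := by
    rw [← PrimeSpectrum.topologicalKrullDim_eq_ringKrullDim]
    exact (Scheme.homeoOfIso Z.isoSpec).isHomeomorph.topologicalKrullDim_eq
  have h2 := range_comap_mem (A := A) (C := C) (hA ▸ hX) (by rw [← hA, ← hC, hZ])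
  have h3 : Set.range g = X.isoSpec.hom ⁻¹' (Set.range (PrimeSpectrum.comap (algebraMap A C))) := by
    have hsq' : g ≫ X.isoSpec.hom = Z.isoSpec.hom ≫ Spec.map g.appTop :=
      (Scheme.isoSpec_hom_naturality g).symm
    ext x
    constructor
    · rintro ⟨z, rfl⟩
      refine ⟨Z.isoSpec.hom z, ?_⟩
      exact (congrArg (fun φ : Z ⟶ Spec Γ(X, ⊤) => φ z) hsq').symm
    · rintro ⟨w, hw⟩
      refine ⟨Z.isoSpec.inv w, ?_⟩
      apply X.isoSpec.hom.isOpenEmbedding.injective
      rw [← hw]
      have h4 : (g ≫ X.isoSpec.hom) (Z.isoSpec.inv w) =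
          (Z.isoSpec.hom ≫ Spec.map g.appTop) (Z.isoSpec.inv w) := by rw [hsq']
      refine h4.trans ?_
      change Spec.map g.appTop ((Z.isoSpec.inv ≫ Z.isoSpec.hom) w) = _
      rw [Iso.inv_hom_id]
      rfl
  rw [h3]
  refine preimage_mem_irreducibleComponents h2 X.isoSpec.hom.isOpenEmbedding ?_
  obtain ⟨z⟩ : Nonempty Z := inferInstance
  refine ⟨X.isoSpec.hom (g z), ⟨Z.isoSpec.hom z, ?_⟩, ⟨_, rfl⟩⟩
  exact (congrArg (fun φ : Z ⟶ Spec Γ(X, ⊤) => φ z) (Scheme.isoSpec_hom_naturality g))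

end K837.FinComp
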