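import Groth.Agent.MovLem.K837.Diff
import Groth.Agent.MovLem.K837.BadLocus
import Groth.Agent.Flat2C.SmoothDim
import Mathlib.RingTheory.Smooth.StandardSmoothOfFree

/-!
# Linear combinations of generators with few critical points

Local coordinates: around a smooth point the differentials of some of the generators are a basis.
-/

set_option autoImplicit false
universe u v w

open IsLocalRing TensorProduct

namespace K837.GenPos

/-- Around a smooth point, the differentials of some of the generators form a basis. -/
theorem exists_basis {k B : Type u} [Field k] [CommRing B] [Algebra k B] [Algebra.FiniteType k B]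
    {n : ℕ} (c : Fin n → B) (hc : Algebra.adjoin k (Set.range c) = ⊤) (q : Ideal B) [q.IsPrime]
    [hq : Algebra.IsSmoothAt k q] (g₁ : B) (hg₁ : g₁ ∉ q) :
    ∃ (g : B) (r : ℕ) (a : Fin r → Fin n)
      (b : Module.Basis (Fin r) (Localization.Away g) (KaehlerDifferential k (Localization.Away g))),
      g ∉ q ∧ g₁ ∣ g ∧ ∀ i, b i = KaehlerDifferential.D k _ (algebraMap B _ (c (a i))) := by
  have hN : IsNoetherianRing B := Algebra.FiniteType.isNoetherianRing k B
  have hq' : Algebra.FormallySmooth k (Localization.AtPrime q) := hq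
  have hess : Algebra.EssFiniteType B (Localization.AtPrime q) :=
    Algebra.EssFiniteType.of_isLocalization _ q.primeCompl
  have hess' : Algebra.EssFiniteType k (Localization.AtPrime q) := Algebra.EssFiniteType.comp k B _
  have hfin : Module.Finite (Localization.AtPrime q) (KaehlerDifferential k (Localization.AtPrime q)) :=
    inferInstance
  have hproj : Module.Projective (Localization.AtPrime q)
    (KaehlerDifferential k (Localization.AtPrime q)) := inferInstance
  have hfp : Module.FinitePresentation (Localization.AtPrime q)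
    (KaehlerDifferential k (Localization.AtPrime q)) := inferInstance
  have hspan := K837.Diff.span_D_localization (L := Localization.AtPrime q) q.primeCompl c hc
  have hspan' : Submodule.span (Localization.AtPrime q)
      (Set.range fun j : ULift.{u} (Fin n) => KaehlerDifferential.D k (Localization.AtPrime q)
        (algebraMap B (Localization.AtPrime q) (c j.down))) = ⊤ := by
    rw [← hspan]
    congr 1
    ext x
    simp only [Set.mem_range, ULift.exists]
  obtain ⟨κ, a, b, hb⟩ := Module.exists_basis_of_span_of_flat _ hspan'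
  have hκ : Finite κ := Module.Finite.finite_basis b
  let e : (κ →₀ B) →ₗ[B] (KaehlerDifferential k B) :=
    Finsupp.linearCombination B fun i : κ => KaehlerDifferential.D k B (c (a i).down)
  let l₁ : (κ →₀ B) →ₗ[B] (κ →₀ Localization.AtPrime q) :=
    Finsupp.mapRange.linearMap (Algebra.linearMap B (Localization.AtPrime q))
  let l₂ : KaehlerDifferential k B →ₗ[B] (KaehlerDifferential k (Localization.AtPrime q)) :=
    KaehlerDifferential.map k k B (Localization.AtPrime q)
  let eₚ : (κ →₀ Localization.AtPrime q) →ₗ[Localization.AtPrime q]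
      (KaehlerDifferential k (Localization.AtPrime q)) :=
    IsLocalizedModule.mapExtendScalars q.primeCompl l₁ l₂ (Localization.AtPrime q) e
  have h1 : eₚ = b.repr.symm := by
    ext i
    trans IsLocalizedModule.map q.primeCompl l₁ l₂ e <| l₁ <| Finsupp.single i 1
    · simp [eₚ, -IsLocalizedModule.map_apply, l₁]
    · simp [l₂, e, hb]
  have heₚ : Function.Bijective eₚ := h1 ▸ b.repr.symm.bijective
  have hfinB : Module.FinitePresentation B (KaehlerDifferential k B) :=
    Module.finitePresentation_of_finite B _
  obtain ⟨g₂, hg₂, h⟩ := exists_bijective_map_powers q.primeCompl l₁ l₂ e heₚ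
  set g := g₁ * g₂ with hg
  have h2 := h g (Dvd.intro_left _ rfl)
  let l₁ₜ : (κ →₀ B) →ₗ[B] (κ →₀ Localization.Away g) :=
    Finsupp.mapRange.linearMap (Algebra.linearMap B _)
  let l₂ₜ : KaehlerDifferential k B →ₗ[B] KaehlerDifferential k (Localization.Away g) :=
    KaehlerDifferential.map k k B (Localization.Away g)
  rw [← IsLocalizedModule.map_bijective_iff_localizedModuleMap_bijective l₁ₜ l₂ₜ] at h2
  let eₜ' : (κ →₀ Localization.Away g) →ₗ[Localization.Away g]
      KaehlerDifferential k (Localization.Away g) :=
    IsLocalizedModule.mapExtendScalars (Submonoid.powers g) l₁ₜ l₂ₜ (Localization.Away g) e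
  let b₀ : Module.Basis κ (Localization.Away g) (KaehlerDifferential k (Localization.Away g)) :=
    .ofRepr (LinearEquiv.ofBijective eₜ' h2).symm
  have hb₀ : ∀ i, b₀ i = KaehlerDifferential.D k _ (algebraMap B (Localization.Away g) (c (a i).down)) := by
    intro i
    simp +zetaDelta [IsLocalizedModule.map_linearCombination]
  let ε : κ ≃ Fin (Nat.card κ) := Finite.equivFin κ
  refine ⟨g, Nat.card κ, fun i => (a (ε.symm i)).down, b₀.reindex ε, ?_, Dvd.intro _ rfl, ?_⟩
  · intro hmem
    rcases ‹q.IsPrime›.mem_or_mem hmem with h3 | h3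
    · exact hg₁ h3
    · exact hg₂ h3
  · intro i
    rw [Module.Basis.reindex_apply, hb₀]

lemma aeval_map_finSuccEquiv {k : Type u} {T : Type v} [Field k] [CommRing T] [Algebra k T] {n : ℕ}
    (l : Fin n → k) (t : T) (h : MvPolynomial (Fin (n + 1)) k) :
    Polynomial.aeval t ((MvPolynomial.finSuccEquiv k n h).map (MvPolynomial.eval l)) =
      MvPolynomial.aeval (Fin.cons t fun i => algebraMap k T (l i) : Fin (n + 1) → T) h := by
  have h1 : ((Polynomial.aeval t).comp ((Polynomial.mapAlgHom (MvPolynomial.aeval l)).comp
      (MvPolynomial.finSuccEquiv k n).toAlgHom)) =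
      MvPolynomial.aeval (Fin.cons t fun i => algebraMap k T (l i) : Fin (n + 1) → T) := by
    apply MvPolynomial.algHom_ext
    intro i
    refine Fin.cases ?_ (fun j => ?_) i
    · simp [MvPolynomial.finSuccEquiv_X_zero]
    · simp [MvPolynomial.finSuccEquiv_X_succ]
  exact DFunLike.congr_fun h1 h

/-- The general fibre of a morphism from a scheme of dimension at most `n` to affine `n`-space is
finite. -/
theorem exists_finite_fiber {k : Type u} {S : Type v} [Field k] [CommRing S] [Algebra k S]
    [Algebra.FiniteType k S] {n : ℕ} (hdim : ringKrullDim S ≤ n) (θ : Fin n → S) :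
    ∃ H : MvPolynomial (Fin n) k, H ≠ 0 ∧ ∀ l : Fin n → k, MvPolynomial.eval l H ≠ 0 →
      Module.Finite k (S ⧸ Ideal.span (Set.range fun i => θ i - algebraMap k S (l i))) := by
  classical
  obtain ⟨s, hs⟩ := (inferInstance : Algebra.FiniteType k S).out
  have hlt : ringKrullDim S < ((n + 1 : ℕ) : WithBot ℕ∞) := by
    refine hdim.trans_lt ?_
    exact_mod_cast Nat.lt_succ_self n
  have hex : ∀ x : S, ∃ h : MvPolynomial (Fin (n + 1)) k, h ≠ 0 ∧
      MvPolynomial.aeval (Fin.cons x θ : Fin (n + 1) → S) h = 0 := fun x =>
    K837.BadLocus.exists_ne_zero_aeval_eq_zero hlt _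
  choose h hh hh0 using hex
  refine ⟨∏ x ∈ s, (MvPolynomial.finSuccEquiv k n (h x)).leadingCoeff, ?_, ?_⟩
  · refine Finset.prod_ne_zero_iff.mpr fun x _ => ?_
    rw [Polynomial.leadingCoeff_ne_zero]
    exact (map_ne_zero_iff _ (MvPolynomial.finSuccEquiv k n).injective).mpr (hh x)
  intro l hl
  set I : Ideal S := Ideal.span (Set.range fun i => θ i - algebraMap k S (l i)) with hI
  have hθ : ∀ i, Ideal.Quotient.mk I (θ i) = algebraMap k (S ⧸ I) (l i) := by
    intro i
    have h1 : θ i - algebraMap k S (l i) ∈ I := Ideal.subset_span ⟨i, rfl⟩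
    have h2 := Ideal.Quotient.eq.mpr h1
    rw [h2]
    rfl
  have hint : ∀ x ∈ s, IsIntegral k (Ideal.Quotient.mk I x) := by
    intro x hx
    rw [← isAlgebraic_iff_isIntegral]
    refine ⟨(MvPolynomial.finSuccEquiv k n (h x)).map (MvPolynomial.eval l), ?_, ?_⟩
    · intro h0
      have h1 := congrArg (fun p : Polynomial k => p.coeff (MvPolynomial.finSuccEquiv k n (h x)).natDegree) h0
      simp only [Polynomial.coeff_map, Polynomial.coeff_natDegree, Polynomial.coeff_zero] at h1
      rw [map_prod] at hl
      exact Finset.prod_ne_zero_iff.mp hl x hx h1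
    · rw [aeval_map_finSuccEquiv]
      have h1 := congrArg (Ideal.Quotient.mkₐ k I) (hh0 x)
      rw [map_zero, MvPolynomial.comp_aeval_apply] at h1
      have h2 : (Fin.cons (Ideal.Quotient.mk I x) fun i => algebraMap k (S ⧸ I) (l i) :
          Fin (n + 1) → S ⧸ I) =
          fun i => (Ideal.Quotient.mkₐ k I) ((Fin.cons x θ : Fin (n + 1) → S) i) := by
        funext i
        refine Fin.cases ?_ (fun j => ?_) i
        · rfl
        · simp [hθ]
      rw [h2]
      exact h1
  have hadj : Algebra.adjoin k ((Ideal.Quotient.mkₐ k I) '' (s : Set S)) = ⊤ := by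
    rw [Algebra.adjoin_image, hs, Algebra.map_top, AlgHom.range_eq_top]
    exact Ideal.Quotient.mkₐ_surjective k I
  have hfg := fg_adjoin_of_finite (R := k) (s := (Ideal.Quotient.mkₐ k I) '' (s : Set S))
    (s.finite_toSet.image _) (by rintro _ ⟨x, hx, rfl⟩; exact hint x hx)
  rw [hadj] at hfg
  exact ⟨hfg⟩

/-- A form of `exists_finite_fiber` without quotients. -/
theorem exists_finite_fiber' {k : Type u} {S : Type v} [Field k] [CommRing S] [Algebra k S]
    [Algebra.FiniteType k S] {n : ℕ} (hdim : ringKrullDim S ≤ n) (θ : Fin n → S) :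
    ∃ H : MvPolynomial (Fin n) k, H ≠ 0 ∧ ∀ l : Fin n → k, MvPolynomial.eval l H ≠ 0 →
      ∃ (T : Type v) (_ : CommRing T) (_ : Algebra k T) (_ : Module.Finite k T) (φ : S →+* T),
        (φ.comp (algebraMap k S) = algebraMap k T) ∧
        ∀ (K : Type w) [Field K] [Algebra k K] (χ : S →+* K), χ.comp (algebraMap k S) = algebraMap k K →
          (∀ i, χ (θ i) = algebraMap k K (l i)) → ∃ χ' : T →+* K, χ'.comp φ = χ := by
  obtain ⟨H, hH, h⟩ := exists_finite_fiber (k := k) hdim θ
  refine ⟨H, hH, fun l hl => ?_⟩
  set I : Ideal S := Ideal.span (Set.range fun i => θ i - algebraMap k S (l i)) with hI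
  refine ⟨S ⧸ I, inferInstance, inferInstance, h l hl, Ideal.Quotient.mk I, rfl, ?_⟩
  intro K _ _ χ hχ hθ
  refine ⟨Ideal.Quotient.lift I χ ?_, Ideal.Quotient.lift_comp_mk I χ _⟩
  intro x hx
  have h1 : I ≤ RingHom.ker χ := by
    rw [hI, Ideal.span_le]
    rintro _ ⟨i, rfl⟩
    change χ _ = 0
    rw [map_sub, hθ, ← RingHom.comp_apply, hχ, sub_self]
  exact h1 hx

theorem coord_mem {k C L : Type u} [Field k] [CommRing C] [CommRing L] [Algebra k C] [Algebra k L]
    [Algebra C L] [IsScalarTower k C L] [IsLocalRing L] (M : Submonoid C) [IsLocalization M L]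
    {ι : Type*} (b : Module.Basis ι C (KaehlerDifferential k C)) (v : C)
    (hv : KaehlerDifferential.D k L (algebraMap C L v) ∈
      (maximalIdeal L • ⊤ : Submodule L (KaehlerDifferential k L))) (i : ι) :
    algebraMap C L (b.repr (KaehlerDifferential.D k C v) i) ∈ maximalIdeal L := by
  let b' := b.ofIsLocalizedModule L M (KaehlerDifferential.map k k C L)
  have h1 : algebraMap C L (b.repr (KaehlerDifferential.D k C v) i) =
      b'.coord i (KaehlerDifferential.D k L (algebraMap C L v)) := by
    rw [← KaehlerDifferential.map_D k k C L v, Module.Basis.coord_apply]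
    exact (Module.Basis.ofIsLocalizedModule_repr_apply L M (KaehlerDifferential.map k k C L) b _ i).symm
  rw [h1]
  have h2 : b'.coord i (KaehlerDifferential.D k L (algebraMap C L v)) ∈
      Submodule.map (b'.coord i) (maximalIdeal L • ⊤ : Submodule L (KaehlerDifferential k L)) :=
    Submodule.mem_map_of_mem hv
  rw [Submodule.map_smul''] at h2
  have h3 : maximalIdeal L • Submodule.map (b'.coord i) ⊤ ≤ maximalIdeal L • (⊤ : Ideal L) :=
    Submodule.smul_mono le_rfl le_top
  simpa using h3 h2

/-- The dimension of a chart with a basis of exact differentials. -/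
theorem ringKrullDim_le_of_basis {k C : Type u} [Field k] [CommRing C] [Algebra k C] [Nontrivial C]
    [Algebra.Smooth k C] {r : ℕ} (b : Module.Basis (Fin r) C (KaehlerDifferential k C))
    (hb : Set.range b ⊆ Set.range (KaehlerDifferential.D k C)) : ringKrullDim C ≤ r := by
  have h1 : Algebra.IsStandardSmooth k C :=
    Algebra.IsStandardSmooth.of_basis_kaehlerDifferential b hb
  have h2 : Algebra.IsStandardSmoothOfRelativeDimension r k C := by
    rw [Algebra.IsStandardSmoothOfRelativeDimension.iff_of_isStandardSmooth, rank_eq_card_basis b]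
    simp
  exact Groth.Agent.Flat2C.SmoothDim.ringKrullDim_le_of_isStandardSmoothOfRelativeDimension r k C


/-- The image in the residue field of `z` of the localization away from `g ∉ z`. -/
theorem exists_chi {k B : Type u} [Field k] [CommRing B] [Algebra k B] (g : B) {r : ℕ}
    (b : Module.Basis (Fin r) (Localization.Away g) (KaehlerDifferential k (Localization.Away g)))
    (z : PrimeSpectrum B) (hz : g ∉ z.asIdeal) :
    ∃ (K : Type u) (_ : Field K) (_ : Algebra k K) (χ : Localization.Away g →ₐ[k] K),
      (∀ x : B, χ (algebraMap B _ x) = 0 ↔ x ∈ z.asIdeal) ∧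
      ∀ v : B, KaehlerDifferential.D k (Localization.AtPrime z.asIdeal) (algebraMap B _ v) ∈
        (maximalIdeal (Localization.AtPrime z.asIdeal) • ⊤ : Submodule (Localization.AtPrime z.asIdeal)
          (KaehlerDifferential k (Localization.AtPrime z.asIdeal))) →
        ∀ i, χ (b.repr (KaehlerDifferential.D k _ (algebraMap B _ v)) i) = 0 := by
  have hle : Submonoid.powers g ≤ z.asIdeal.primeCompl := Submonoid.powers_le.mpr hz
  let _ : Algebra (Localization.Away g) (Localization.AtPrime z.asIdeal) :=
    IsLocalization.localizationAlgebraOfSubmonoidLe _ _ (Submonoid.powers g) z.asIdeal.primeCompl hle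
  have : IsScalarTower B (Localization.Away g) (Localization.AtPrime z.asIdeal) :=
    IsLocalization.localization_isScalarTower_of_submonoid_le _ _ _ _ hle
  have : IsScalarTower k (Localization.Away g) (Localization.AtPrime z.asIdeal) :=
    IsScalarTower.of_algebraMap_eq fun x => by
      rw [IsScalarTower.algebraMap_apply k B (Localization.AtPrime z.asIdeal),
        IsScalarTower.algebraMap_apply k B (Localization.Away g),
        ← IsScalarTower.algebraMap_apply B (Localization.Away g)]
  have hloc : IsLocalization (z.asIdeal.primeCompl.map (algebraMap B (Localization.Away g)))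
      (Localization.AtPrime z.asIdeal) :=
    IsLocalization.isLocalization_of_submonoid_le _ _ (Submonoid.powers g) _ hle
  refine ⟨ResidueField (Localization.AtPrime z.asIdeal), inferInstance, inferInstance,
    (IsScalarTower.toAlgHom k (Localization.AtPrime z.asIdeal) _).comp
      (IsScalarTower.toAlgHom k (Localization.Away g) (Localization.AtPrime z.asIdeal)), ?_, ?_⟩
  · intro x
    change residue (Localization.AtPrime z.asIdeal) (algebraMap (Localization.Away g)
      (Localization.AtPrime z.asIdeal) (algebraMap B (Localization.Away g) x)) = 0 ↔ _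
    rw [← IsScalarTower.algebraMap_apply, residue_eq_zero_iff,
      IsLocalization.AtPrime.to_map_mem_maximal_iff (Localization.AtPrime z.asIdeal) z.asIdeal]
  · intro v hv i
    change residue (Localization.AtPrime z.asIdeal) (algebraMap (Localization.Away g)
      (Localization.AtPrime z.asIdeal) _) = 0
    rw [residue_eq_zero_iff]
    refine coord_mem (z.asIdeal.primeCompl.map (algebraMap B (Localization.Away g))) b _ ?_ i
    rw [← IsScalarTower.algebraMap_apply]
    exact hv

/-- For `λ` outside of a hypersurface, the linear combination of the generators has only finitely many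
critical points, all closed. -/
theorem exists_hypersurface {k B : Type u} [Field k] [CommRing B] [Algebra k B]
    [Algebra.FiniteType k B] {n : ℕ} (c : Fin n → B) (g : B) [Nontrivial (Localization.Away g)]
    [Algebra.Smooth k (Localization.Away g)] {r : ℕ} (a : Fin r → Fin n)
    (b : Module.Basis (Fin r) (Localization.Away g) (KaehlerDifferential k (Localization.Away g)))
    (hb : ∀ i, b i = KaehlerDifferential.D k _ (algebraMap B _ (c (a i)))) :
    ∃ H : MvPolynomial (Fin n) k, H ≠ 0 ∧ ∀ l : Fin n → k, MvPolynomial.eval l H ≠ 0 →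
      ∃ F : Set (PrimeSpectrum B), F.Finite ∧ (∀ z ∈ F, z.asIdeal.IsMaximal) ∧
      ∀ z : PrimeSpectrum B, g ∉ z.asIdeal →
        KaehlerDifferential.D k (Localization.AtPrime z.asIdeal) (algebraMap B _ (∑ j, l j • c j)) ∈
        (maximalIdeal (Localization.AtPrime z.asIdeal) • ⊤ : Submodule (Localization.AtPrime z.asIdeal)
          (KaehlerDifferential k (Localization.AtPrime z.asIdeal))) → z ∈ F := by
  classical
  have hN : IsNoetherianRing B := Algebra.FiniteType.isNoetherianRing k B
  have hNg : IsNoetherianRing (Localization.Away g) :=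
    IsLocalization.isNoetherianRing (Submonoid.powers g) _ hN
  have hFTg : Algebra.FiniteType k (Localization.Away g) := inferInstance
  have hdimg : ringKrullDim (Localization.Away g) ≤ r :=
    ringKrullDim_le_of_basis b (by rintro _ ⟨i, rfl⟩; exact ⟨_, (hb i).symm⟩)
  -- the complement of the chosen generators
  have ha : Function.Injective a := by
    intro i i' h
    apply b.injective
    rw [hb, hb, h]
  let σ := {j : Fin n // j ∉ Set.range a}
  let E : Fin r ⊕ σ ≃ Fin n := Equiv.ofBijective (Sum.elim a Subtype.val) <| by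
    constructor
    · apply ha.sumElim Subtype.val_injective
      intro i j h
      exact j.2 ⟨i, h⟩
    · intro j
      by_cases hj : j ∈ Set.range a
      · obtain ⟨i, hi⟩ := hj
        exact ⟨Sum.inl i, hi⟩
      · exact ⟨Sum.inr ⟨j, hj⟩, rfl⟩
  have hEl : ∀ i, E (Sum.inl i) = a i := fun i => rfl
  have hEr : ∀ j : σ, E (Sum.inr j) = j.1 := fun j => rfl
  have hcard : r + Nat.card σ = n := by
    have h1 := Nat.card_congr E
    rw [Nat.card_sum] at h1
    simpa using h1
  let S := MvPolynomial σ (Localization.Away g)
  have hdimS : ringKrullDim S ≤ n := by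
    rw [MvPolynomial.ringKrullDim_of_isNoetherianRing]
    refine (add_le_add_left hdimg _).trans ?_
    rw [← hcard]
    push_cast
    exact le_rfl
  let β : Fin n → Fin r → Localization.Away g := fun j i =>
    b.repr (KaehlerDifferential.D k _ (algebraMap B _ (c j))) i
  have hβ : ∀ i i', β (a i') i = if i' = i then 1 else 0 := by
    intro i i'
    simp only [β]
    rw [← hb, Module.Basis.repr_self, Finsupp.single_apply]
  let θ' : Fin r ⊕ σ → S := Sum.elim
    (fun i => - ∑ j : σ, MvPolynomial.C (β j.1 i) * MvPolynomial.X j) MvPolynomial.X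
  have hFTS : Algebra.FiniteType k S :=
    Algebra.FiniteType.trans hFTg (inferInstance : Algebra.FiniteType (Localization.Away g) S)
  obtain ⟨H, hH, hfin⟩ := exists_finite_fiber'.{u, u, u} (k := k) hdimS (fun j => θ' (E.symm j))
  refine ⟨H, hH, fun l hl => ?_⟩
  obtain ⟨T, _, _, hT, φ, hφ, hlift⟩ := hfin l hl
  have hart : IsArtinianRing T := isArtinian_of_tower k inferInstance
  let ρ : B →+* T := φ.comp
    ((MvPolynomial.C : Localization.Away g →+* S).comp (algebraMap B (Localization.Away g)))
  have hρ : ρ.IsIntegral := by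
    have h1 : (ρ.comp (algebraMap k B)).IsIntegral := by
      have h2 : ρ.comp (algebraMap k B) = algebraMap k T := by
        rw [← hφ]
        ext x
        change φ (MvPolynomial.C (algebraMap B (Localization.Away g) (algebraMap k B x))) = _
        rw [← IsScalarTower.algebraMap_apply]
        rfl
      rw [h2]
      exact algebraMap_isIntegral_iff.mpr inferInstance
    exact RingHom.IsIntegral.tower_top _ _ h1
  refine ⟨Set.range (PrimeSpectrum.comap ρ), Set.finite_range _, ?_, ?_⟩
  · rintro _ ⟨P, rfl⟩
    have : P.asIdeal.IsMaximal := inferInstance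
    exact Ideal.isMaximal_comap_of_isIntegral_of_isMaximal' ρ hρ P.asIdeal
  · intro z hz hbad
    obtain ⟨K, _, _, χ, hχ, hχ'⟩ := exists_chi g b z hz
    have h1 := hχ' _ hbad
    -- the linear relations
    have h2 : ∀ i, ∑ j, algebraMap k K (l j) * χ (β j i) = 0 := by
      intro i
      rw [← h1 i, map_sum, map_sum, map_sum, Finsupp.finsetSum_apply, map_sum]
      refine Finset.sum_congr rfl fun j _ => ?_
      have h3 : KaehlerDifferential.D k (Localization.Away g) (algebraMap B _ (l j • c j)) =
          l j • KaehlerDifferential.D k (Localization.Away g) (algebraMap B _ (c j)) := by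
        rw [Algebra.smul_def, map_mul, ← IsScalarTower.algebraMap_apply, ← Algebra.smul_def,
          Derivation.map_smul]
      rw [h3, ← algebraMap_smul (Localization.Away g), map_smul, Finsupp.smul_apply, smul_eq_mul, map_mul,
        AlgHom.commutes]
    have h4 : ∀ i, ∑ j : σ, χ (β j.1 i) * algebraMap k K (l j.1) = - algebraMap k K (l (a i)) := by
      intro i
      have h5 := h2 i
      rw [← Equiv.sum_comp E, Fintype.sum_sum_type] at h5
      simp only [hEl, hEr, hβ] at h5
      rw [Finset.sum_eq_single i (by intro i' _ hi'; simp [hi']) (by simp), if_pos rfl, map_one,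
        mul_one] at h5
      rw [eq_neg_of_add_eq_zero_left h5, neg_neg]
      exact Finset.sum_congr rfl fun j _ => mul_comm _ _
    let ψ : S →+* K := MvPolynomial.eval₂Hom (χ : Localization.Away g →+* K)
      (fun j : σ => algebraMap k K (l j.1))
    obtain ⟨χ', hχ₁⟩ := hlift K ψ (by
      ext x
      change ψ (MvPolynomial.C (algebraMap k (Localization.Away g) x)) = _
      rw [MvPolynomial.eval₂Hom_C]
      exact χ.commutes x) (by
      intro j
      obtain ⟨j, rfl⟩ := E.surjective j
      change ψ (θ' (E.symm (E j))) = _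
      rw [Equiv.symm_apply_apply]
      rcases j with i | j
      · change ψ (- ∑ j : σ, MvPolynomial.C (β j.1 i) * MvPolynomial.X j) = _
        rw [map_neg, map_sum]
        rw [neg_eq_iff_eq_neg]
        refine (Finset.sum_congr rfl fun x _ => ?_).trans (h4 i)
        rw [map_mul]
        exact congrArg₂ (· * ·) (MvPolynomial.eval₂Hom_C _ _ _) (MvPolynomial.eval₂Hom_X' _ _ _)
      · exact MvPolynomial.eval₂Hom_X' _ _ _)
    refine ⟨⟨RingHom.ker χ', RingHom.ker_isPrime χ'⟩, ?_⟩
    apply PrimeSpectrum.ext
    ext x
    change χ' (φ (MvPolynomial.C (algebraMap B (Localization.Away g) x))) = 0 ↔ _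
    rw [← RingHom.comp_apply, hχ₁, MvPolynomial.eval₂Hom_C]
    exact hχ x

end K837.GenPos
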