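import Groth.Agent.MovLem.K837.GenPos
import Mathlib.RingTheory.Spectrum.Prime.Noetherian
import Mathlib.Algebra.MvPolynomial.Funext

/-!
# A function with finitely many critical points on an affine variety
-/

set_option autoImplicit false
universe u v w

open IsLocalRing TensorProduct

namespace K837.GenPos

/-- If a neighbourhood of `q` has no differentials then `q` is isolated. -/
theorem isOpen_singleton {k B : Type u} [Field k] [CommRing B] [Algebra k B]
    [Algebra.FiniteType k B] (g : B) (q : PrimeSpectrum B) (hg : g ∉ q.asIdeal)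
    (h : Subsingleton (KaehlerDifferential k (Localization.Away g))) :
    IsOpen ({q} : Set (PrimeSpectrum B)) := by
  have h1 : Algebra.FormallyUnramified k (Localization.Away g) := ⟨h⟩
  have h2 : Module.Finite k (Localization.Away g) := Algebra.FormallyUnramified.finite_of_free k _
  have h3 : IsArtinianRing (Localization.Away g) := isArtinian_of_tower k inferInstance
  have h4 : Topology.IsOpenEmbedding (PrimeSpectrum.comap (algebraMap B (Localization.Away g))) :=
    PrimeSpectrum.localization_away_isOpenEmbedding _ g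
  have h5 : q ∈ Set.range (PrimeSpectrum.comap (algebraMap B (Localization.Away g))) := by
    rw [PrimeSpectrum.localization_away_comap_range (Localization.Away g) g]
    exact hg
  obtain ⟨q', rfl⟩ := h5
  rw [← Set.image_singleton]
  exact h4.isOpenMap _ (isOpen_discrete _)

lemma finiteType_generators (k B : Type u) [Field k] [CommRing B] [Algebra k B]
    [Algebra.FiniteType k B] : ∃ (n : ℕ) (c : Fin n → B), Algebra.adjoin k (Set.range c) = ⊤ := by
  obtain ⟨s, hs⟩ := (inferInstance : Algebra.FiniteType k B).out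
  refine ⟨s.card, fun i => (s.equivFin.symm i : B), ?_⟩
  rw [← hs]
  congr 1
  ext x
  simp only [Set.mem_range, Finset.mem_coe]
  constructor
  · rintro ⟨i, rfl⟩; exact (s.equivFin.symm i).2
  · intro hx; exact ⟨s.equivFin ⟨x, hx⟩, by simp⟩

/-- `v` is not critical at `z`. -/
def Good (k : Type u) {B : Type u} [Field k] [CommRing B] [Algebra k B] (v : B) (z : PrimeSpectrum B) : Prop :=
  KaehlerDifferential.D k (Localization.AtPrime z.asIdeal) (algebraMap B _ v) ∉
    (maximalIdeal (Localization.AtPrime z.asIdeal) • ⊤ : Submodule (Localization.AtPrime z.asIdeal)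
      (KaehlerDifferential k (Localization.AtPrime z.asIdeal)))

/-- the value in the fibre of the cotangent sheaf -/
noncomputable def Phi {k B : Type u} [Field k] [CommRing B] [Algebra k B] {n : ℕ} (c : Fin n → B)
    (z : PrimeSpectrum B) : (Fin n → k) →ₗ[k]
      (KaehlerDifferential k (Localization.AtPrime z.asIdeal) ⧸
        (maximalIdeal (Localization.AtPrime z.asIdeal) • ⊤ : Submodule (Localization.AtPrime z.asIdeal)
          (KaehlerDifferential k (Localization.AtPrime z.asIdeal)))) :=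
  (((Submodule.mkQ (maximalIdeal (Localization.AtPrime z.asIdeal) • ⊤ :
        Submodule (Localization.AtPrime z.asIdeal)
          (KaehlerDifferential k (Localization.AtPrime z.asIdeal)))).restrictScalars k) ∘ₗ
    (KaehlerDifferential.D k (Localization.AtPrime z.asIdeal)).toLinearMap ∘ₗ
    (IsScalarTower.toAlgHom k B (Localization.AtPrime z.asIdeal)).toLinearMap) ∘ₗ
    Fintype.linearCombination k c

lemma Phi_ne_zero_iff {k B : Type u} [Field k] [CommRing B] [Algebra k B] {n : ℕ} (c : Fin n → B)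
    (z : PrimeSpectrum B) (l : Fin n → k) : Phi c z l ≠ 0 ↔ Good k (∑ j, l j • c j) z := by
  rw [← Fintype.linearCombination_apply]
  exact not_congr (Submodule.Quotient.mk_eq_zero _)

/-- At a non-isolated smooth point, a linear form. -/
theorem exists_linear {k B : Type u} [Field k] [CommRing B] [Algebra k B]
    [Algebra.FiniteType k B] {n : ℕ} (c : Fin n → B) (hc : Algebra.adjoin k (Set.range c) = ⊤)
    (q : PrimeSpectrum B) [Algebra.IsSmoothAt k q.asIdeal] (hq : ¬ IsOpen ({q} : Set (PrimeSpectrum B))) :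
    ∃ ℓ : MvPolynomial (Fin n) k, ℓ ≠ 0 ∧ ∀ l : Fin n → k, MvPolynomial.eval l ℓ ≠ 0 →
      Good k (∑ j, l j • c j) q := by
  classical
  obtain ⟨g, r, a, b, hg, -, hb⟩ := exists_basis c hc q.asIdeal 1
    ((Ideal.ne_top_iff_one _).mp q.isPrime.ne_top)
  have hr : r ≠ 0 := by
    rintro rfl
    apply hq
    refine isOpen_singleton (k := k) g q hg ?_
    refine ⟨fun x y => ?_⟩
    apply b.repr.injective
    ext i
    exact i.elim0
  let i₀ : Fin r := ⟨0, Nat.pos_of_ne_zero hr⟩
  have hgood : Good k (c (a i₀)) q := by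
    intro hbad
    obtain ⟨K, _, _, χ, -, hχ⟩ := exists_chi g b q hg
    have h1 := hχ _ hbad i₀
    rw [← hb, Module.Basis.repr_self, Finsupp.single_eq_same, map_one] at h1
    exact one_ne_zero h1
  have hker : LinearMap.ker (Phi (k := k) c q) < ⊤ := by
    rw [lt_top_iff_ne_top]
    intro htop
    have h1 : Phi (k := k) c q (Pi.single (a i₀) 1) = 0 := by
      rw [← LinearMap.mem_ker, htop]; trivial
    refine (Phi_ne_zero_iff c q (Pi.single (a i₀) 1)).mpr ?_ h1
    have h2 : ∑ j, (Pi.single (a i₀) 1 : Fin n → k) j • c j = c (a i₀) := by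
      simp [Pi.single_apply]
    rw [h2]
    exact hgood
  obtain ⟨f, hf, hfk⟩ := Submodule.exists_le_ker_of_lt_top _ hker
  have hfe : ∀ l : Fin n → k, MvPolynomial.eval l (∑ j, MvPolynomial.C (f (Pi.single j 1)) *
      MvPolynomial.X j) = f l := by
    intro l
    rw [map_sum]
    simp only [map_mul, MvPolynomial.eval_C, MvPolynomial.eval_X]
    rw [LinearMap.pi_apply_eq_sum_univ f l]
    refine Finset.sum_congr rfl fun j _ => ?_
    rw [smul_eq_mul, mul_comm]
    congr 2
    funext i
    simp [Pi.single_apply, eq_comm]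
  refine ⟨∑ j, MvPolynomial.C (f (Pi.single j 1)) * MvPolynomial.X j, ?_, ?_⟩
  · intro h0
    apply hf
    apply LinearMap.ext
    intro l
    rw [← hfe, h0, map_zero, LinearMap.zero_apply]
  · intro l hl
    rw [← Phi_ne_zero_iff]
    intro h0
    rw [hfe] at hl
    exact hl (hfk h0)

/-- A hypersurface around each smooth point. -/
theorem exists_local {k B : Type u} [Field k] [CommRing B] [Algebra k B]
    [Algebra.FiniteType k B] {n : ℕ} (c : Fin n → B) (hc : Algebra.adjoin k (Set.range c) = ⊤)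
    (W : Set (PrimeSpectrum B)) (hWo : IsOpen W) (hW : ∀ z ∈ W, Algebra.IsSmoothAt k z.asIdeal)
    (q : PrimeSpectrum B) (hq : q ∈ W) :
    ∃ (g : B) (H : MvPolynomial (Fin n) k), g ∉ q.asIdeal ∧ H ≠ 0 ∧
      ∀ l : Fin n → k, MvPolynomial.eval l H ≠ 0 →
      ∃ F : Set (PrimeSpectrum B), F.Finite ∧ (∀ z ∈ F, z.asIdeal.IsMaximal) ∧
      ∀ z : PrimeSpectrum B, g ∉ z.asIdeal → ¬ Good k (∑ j, l j • c j) z → z ∈ F := by
  have := hW q hq
  obtain ⟨_, ⟨g₁, rfl⟩, hqg₁, hg₁W⟩ :=
    PrimeSpectrum.isTopologicalBasis_basic_opens.exists_subset_of_mem_open hq hWo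
  obtain ⟨g, r, a, b, hg, hg₁g, hb⟩ := exists_basis c hc q.asIdeal g₁ hqg₁
  have hfp : Algebra.FinitePresentation k B := Algebra.FinitePresentation.of_finiteType.mp inferInstance
  have hsm : Algebra.Smooth k (Localization.Away g) := by
    rw [← Algebra.basicOpen_subset_smoothLocus_iff_smooth]
    intro z hz
    refine hW z (hg₁W ?_)
    intro hz'
    exact hz (Ideal.mem_of_dvd _ hg₁g hz')
  have hnt : Nontrivial (Localization.Away g) := by
    have h5 : q ∈ Set.range (PrimeSpectrum.comap (algebraMap B (Localization.Away g))) := by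
      rw [PrimeSpectrum.localization_away_comap_range (Localization.Away g) g]
      exact hg
    obtain ⟨q', -⟩ := h5
    exact q'.nontrivial
  obtain ⟨H, hH, h⟩ := exists_hypersurface c g a b hb
  refine ⟨g, H, hg, hH, fun l hl => ?_⟩
  obtain ⟨F, hF, hFm, hbad⟩ := h l hl
  exact ⟨F, hF, hFm, fun z hz hz' => hbad z hz (not_not.mp hz')⟩

/-- On an affine variety over an infinite field, a function without critical points on a neighbourhood
of a given point (inside the smooth locus). -/
theorem exists_good_function {k B : Type u} [Field k] [Infinite k] [CommRing B] [Algebra k B]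
    [Algebra.FiniteType k B] (W : Set (PrimeSpectrum B)) (hWo : IsOpen W)
    (hW : ∀ z ∈ W, Algebra.IsSmoothAt k z.asIdeal) (p : PrimeSpectrum B)
    (hp : p ∈ W → ¬ IsOpen ({p} : Set (PrimeSpectrum B))) :
    ∃ v e : B, v ∉ p.asIdeal ∧ e ∉ p.asIdeal ∧ ∀ z ∈ W, e ∉ z.asIdeal → Good k v z := by
  classical
  have hN : IsNoetherianRing B := Algebra.FiniteType.isNoetherianRing k B
  obtain ⟨n, c, hc⟩ := finiteType_generators k B
  choose! g H hg hH h using exists_local c hc W hWo hW
  obtain ⟨ℓ, hℓ, hℓp⟩ : ∃ ℓ : MvPolynomial (Fin n) k, ℓ ≠ 0 ∧ ∀ l : Fin n → k,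
      MvPolynomial.eval l ℓ ≠ 0 → p ∈ W → Good k (∑ j, l j • c j) p := by
    by_cases hpW : p ∈ W
    · have := hW p hpW
      obtain ⟨ℓ, hℓ, h1⟩ := exists_linear c hc p (hp hpW)
      exact ⟨ℓ, hℓ, fun l hl _ => h1 l hl⟩
    · exact ⟨1, one_ne_zero, fun l _ h => absurd h hpW⟩
  have hcomp : IsCompact W := TopologicalSpace.NoetherianSpace.isCompact W
  obtain ⟨t, htW, htcov⟩ := hcomp.elim_nhds_subcover
    (fun z => (PrimeSpectrum.basicOpen (g z) : Set (PrimeSpectrum B)))
    (fun z hz => (PrimeSpectrum.basicOpen (g z)).isOpen.mem_nhds (hg z hz))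
  obtain ⟨l, hl⟩ : ∃ l : Fin n → k, MvPolynomial.eval l (ℓ * ∏ z ∈ t, H z) ≠ 0 := by
    by_contra hcon
    push Not at hcon
    have h0 : ℓ * ∏ z ∈ t, H z = 0 := MvPolynomial.funext fun x => by rw [hcon, map_zero]
    exact mul_ne_zero hℓ (Finset.prod_ne_zero_iff.mpr fun z hz => hH z (htW z hz)) h0
  rw [map_mul, map_prod] at hl
  have hl1 := left_ne_zero_of_mul hl
  have hl2 : ∀ z ∈ t, MvPolynomial.eval l (H z) ≠ 0 :=
    Finset.prod_ne_zero_iff.mp (right_ne_zero_of_mul hl)
  set v₀ : B := ∑ j, l j • c j with hv₀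
  have hgp : p ∈ W → Good k v₀ p := hℓp l hl1
  -- the finite set of critical points
  have hex : ∀ z ∈ t, ∃ F : Set (PrimeSpectrum B), F.Finite ∧ (∀ z ∈ F, z.asIdeal.IsMaximal) ∧
      ∀ z' : PrimeSpectrum B, g z ∉ z'.asIdeal → ¬ Good k v₀ z' → z' ∈ F :=
    fun z hz => h z (htW z hz) l (hl2 z hz)
  choose! F hF hFm hFbad using hex
  let F₀ : Set (PrimeSpectrum B) := (⋃ z ∈ t, F z) \ {p}
  have hF₀ : F₀.Finite := (Set.Finite.biUnion t.finite_toSet fun z hz => hF z hz).subset Set.sdiff_subset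
  have hF₀m : ∀ z ∈ F₀, ∃ e ∈ z.asIdeal, e ∉ p.asIdeal := by
    rintro z ⟨hz, hzp⟩
    simp only [Set.mem_iUnion] at hz
    obtain ⟨y, hy, hz⟩ := hz
    by_contra hcon
    push Not at hcon
    apply hzp
    exact PrimeSpectrum.ext ((hFm y hy z hz).eq_of_le p.isPrime.ne_top hcon)
  choose! ε hε hεp using hF₀m
  let e : B := ∏ z ∈ hF₀.toFinset, ε z
  have hep : e ∉ p.asIdeal := by
    intro hmem
    obtain ⟨z, hz, hz'⟩ := (Ideal.IsPrime.prod_mem_iff (hp := p.isPrime)).mp hmem
    exact hεp z (hF₀.mem_toFinset.mp hz) hz'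
  have hegood : ∀ z ∈ W, e ∉ z.asIdeal → Good k v₀ z := by
    intro z hz hez
    by_contra hbad
    obtain ⟨y, hy, hzy⟩ := Set.mem_iUnion₂.mp (htcov hz)
    have h1 : z ∈ F y := hFbad y hy z hzy hbad
    have h2 : z ≠ p := by
      rintro rfl
      exact hbad (hgp hz)
    have h3 : z ∈ F₀ := ⟨Set.mem_iUnion₂.mpr ⟨y, hy, h1⟩, h2⟩
    apply hez
    exact Ideal.mem_of_dvd _ (Finset.dvd_prod_of_mem ε (hF₀.mem_toFinset.mpr h3)) (hε z h3)
  by_cases hv : v₀ ∈ p.asIdeal
  · refine ⟨v₀ + 1, e, ?_, hep, ?_⟩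
    · intro h1
      exact p.isPrime.ne_top ((Ideal.eq_top_iff_one _).mpr ((Ideal.add_mem_iff_right _ hv).mp h1))
    · intro z hz hez
      have h1 := hegood z hz hez
      simp only [Good] at h1 ⊢
      rw [map_add, map_one, map_add, Derivation.map_one_eq_zero, add_zero]
      exact h1
  · exact ⟨v₀, e, hv, hep, hegood⟩

end K837.GenPos
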