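import Groth.Agent.S2257
import Mathlib.AlgebraicGeometry.Fiber
import Mathlib.AlgebraicGeometry.Morphisms.Finite
import Mathlib.FieldTheory.Perfect
import Mathlib.FieldTheory.PrimitiveElement
import Mathlib.FieldTheory.SeparableDegree

/-!
# Geometric points over a closed point
-/

set_option autoImplicit false
universe u

open CategoryTheory CategoryTheory.Limits AlgebraicGeometry TensorProduct

namespace K837.GeomPts

theorem card_spec_tensor (k K : Type u) [Field k] [PerfectField k] [Field K] [Algebra k K]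
    [Module.Finite k K] (Ω : Type u) [Field Ω] [Algebra k Ω] [IsAlgClosed Ω] :
    Finite (PrimeSpectrum (K ⊗[k] Ω)) ∧
      Nat.card (PrimeSpectrum (K ⊗[k] Ω)) = Module.finrank k K := by
  let e : PrimeSpectrum (K ⊗[k] Ω) ≃ PrimeSpectrum (Ω ⊗[k] K) :=
    (PrimeSpectrum.comapEquiv (Algebra.TensorProduct.comm k K Ω).toRingEquiv).toEquiv
  have hart : IsArtinianRing (Ω ⊗[k] K) := IsArtinianRing.of_finite Ω _
  refine ⟨Finite.of_equiv _ e.symm, ?_⟩
  rw [Nat.card_congr e, Groth.Agent.S2257.card_spec Ω (Ω ⊗[k] K), Groth.Agent.S2257.card_baseChange k K Ω]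
  have : Algebra.IsSeparable k K := inferInstance
  rw [Nat.card_eq_fintype_card]
  exact AlgHom.card k K Ω

theorem isFinite_pt {k : Type u} [Field k] {X : Scheme.{u}} (c : X ⟶ Spec (CommRingCat.of k))
    [LocallyOfFiniteType c] (x : X) (hx : IsClosed ({x} : Set X))
    (ψ : CommRingCat.of k ⟶ X.residueField x) (hψ : Spec.map ψ = X.fromSpecResidueField x ≫ c) :
    ψ.hom.Finite := by
  have h1 : IsClosedImmersion (X.fromSpecResidueField x) :=
    isClosed_singleton_iff_isClosedImmersion.mp hx
  have h2 : LocallyOfFiniteType (Spec.map ψ) := by rw [hψ]; infer_instance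
  have h3 : ψ.hom.FiniteType := (HasRingHomProperty.Spec_iff (P := @LocallyOfFiniteType)).mp h2
  let _ : Algebra k (X.residueField x) := ψ.hom.toAlgebra
  have h4 : Algebra.FiniteType k (X.residueField x) := h3
  exact finite_of_finite_type_of_isJacobsonRing k (X.residueField x)

/-- the fibre of the base change -/
theorem encard_fiber {k : Type u} [Field k] [PerfectField k] {X : Scheme.{u}}
    (c : X ⟶ Spec (CommRingCat.of k)) [LocallyOfFiniteType c] (Ω : Type u) [Field Ω] [Algebra k Ω]
    [IsAlgClosed Ω] (x : X) (hx : IsClosed ({x} : Set X))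
    (ψ : CommRingCat.of k ⟶ X.residueField x) (hψ : Spec.map ψ = X.fromSpecResidueField x ≫ c) :
    ((pullback.fst c (Spec.map (CommRingCat.ofHom (algebraMap k Ω)))) ⁻¹' {x}).encard =
      (letI := ψ.hom.toAlgebra; Module.finrank k (X.residueField x) : ℕ) := by
  let _ : Algebra k (X.residueField x) := ψ.hom.toAlgebra
  have hfin : Module.Finite k (X.residueField x) := isFinite_pt c x hx ψ hψ
  let i := Spec.map (CommRingCat.ofHom (algebraMap k Ω))
  let e₁ : (pullback.fst c i).fiber x ≅ pullback (X.fromSpecResidueField x ≫ c) i :=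
    pullbackSymmetry _ _ ≪≫ pullbackRightPullbackFstIso c i (X.fromSpecResidueField x)
  have hψ' : ψ = CommRingCat.ofHom (algebraMap k (X.residueField x)) := rfl
  let e₂ : pullback (X.fromSpecResidueField x ≫ c) i ≅
      Spec (CommRingCat.of ((X.residueField x) ⊗[k] Ω)) :=
    pullback.congrHom (by rw [← hψ, hψ']) rfl ≪≫ pullbackSpecIso k (X.residueField x) Ω
  obtain ⟨hf, hc⟩ := card_spec_tensor k (X.residueField x) Ω
  let e : ((pullback.fst c i) ⁻¹' {x}) ≃ PrimeSpectrum ((X.residueField x) ⊗[k] Ω) :=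
    (((pullback.fst c i).fiberHomeo x).symm.trans (Scheme.homeoOfIso (e₁ ≪≫ e₂))).toEquiv
  have h2 : Finite ((pullback.fst c i) ⁻¹' {x}) := Finite.of_equiv _ e.symm
  rw [Set.encard, ENat.card_eq_coe_natCard, Nat.card_congr e, hc]

end K837.GeomPts
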