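import Groth.Agent.UnramB.FibreDichotomy
import Groth.Agent.Ega4B.DimFT
import Groth.Agent.Ega4A.CatenaryDim
import Mathlib.Topology.KrullDimension
import Mathlib.RingTheory.Spectrum.Prime.Topology
import Mathlib.RingTheory.AlgebraicIndependent.TranscendenceBasis

/-!
# The dimension of the image and heights of primes minimal over a fibre
-/

set_option autoImplicit false
universe u v w

open TensorProduct

namespace K837.ImgDim

/-- dimension of a nonempty basic open subset -/
theorem ringKrullDim_le_away (k A : Type u) [Field k] [CommRing A] [IsDomain A] [Algebra k A]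
    [Algebra.FiniteType k A] (a : A) (ha : a ≠ 0) :
    ringKrullDim A ≤ ringKrullDim (Localization.Away a) := by
  have hle : Submonoid.powers a ≤ nonZeroDivisors A := powers_le_nonZeroDivisors_of_noZeroDivisors ha
  have hdom : IsDomain (Localization.Away a) := IsLocalization.isDomain_localization hle
  have hinj : Function.Injective (algebraMap A (Localization.Away a)) :=
    IsLocalization.injective _ hle
  obtain ⟨n, h1, h2⟩ := Groth.Agent.Ega4B.DimFT.exists_trdeg_eq_and_height_eq k A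
  obtain ⟨n', h1', h2'⟩ := Groth.Agent.Ega4B.DimFT.exists_trdeg_eq_and_height_eq k (Localization.Away a)
  rw [Groth.Agent.Ega4B.DimFT.ringKrullDim_eq_of_forall_isMaximal n h2,
    Groth.Agent.Ega4B.DimFT.ringKrullDim_eq_of_forall_isMaximal n' h2']
  have h3 : Algebra.trdeg k A ≤ Algebra.trdeg k (Localization.Away a) :=
    trdeg_le_of_injective (IsScalarTower.toAlgHom k A (Localization.Away a)) hinj
  rw [h1, h1'] at h3
  exact_mod_cast h3

/-- The image of a dominant morphism to an affine variety has full dimension. -/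
theorem ringKrullDim_le_range (k A B : Type u) [Field k] [CommRing A] [IsDomain A] [Algebra k A]
    [Algebra.FiniteType k A] [CommRing B] [Algebra A B] [Algebra.FiniteType A B]
    (hinj : (⊥ : PrimeSpectrum A) ∈ Set.range (PrimeSpectrum.comap (algebraMap A B))) :
    ringKrullDim A ≤ topologicalKrullDim (Set.range (PrimeSpectrum.comap (algebraMap A B))) := by
  have hN : IsNoetherianRing A := Algebra.FiniteType.isNoetherianRing k A
  obtain ⟨a, ha, h⟩ := Groth.Agent.UnramB.FibreDichotomy.exists_basicOpen_subset_range hinj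
  refine (ringKrullDim_le_away k A a ha).trans ?_
  rw [← PrimeSpectrum.topologicalKrullDim_eq_ringKrullDim]
  have h4 : Topology.IsOpenEmbedding (PrimeSpectrum.comap (algebraMap A (Localization.Away a))) :=
    PrimeSpectrum.localization_away_isOpenEmbedding _ a
  have h5 : ∀ y, PrimeSpectrum.comap (algebraMap A (Localization.Away a)) y ∈
      Set.range (PrimeSpectrum.comap (algebraMap A B)) := by
    intro y
    apply h
    rw [← PrimeSpectrum.localization_away_comap_range (Localization.Away a) a]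
    exact ⟨y, rfl⟩
  exact (h4.isInducing.codRestrict h5).topologicalKrullDim_le

/-- A prime minimal over a fibre has height at most that of the prime below. -/
theorem height_le_of_minimal {A : Type u} {B : Type v} [CommRing A] [CommRing B] [Algebra A B]
    [IsNoetherianRing A] [IsNoetherianRing B] (p : Ideal A) [p.IsPrime] (P : Ideal B)
    (hP : P ∈ (p.map (algebraMap A B)).minimalPrimes) (hPp : P.comap (algebraMap A B) = p) :
    P.height ≤ p.height := by
  classical
  obtain ⟨s, hp, heq⟩ := p.exists_finset_card_eq_height_of_isNoetherianRing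
  rw [← heq]
  have h1 : P ∈ (Ideal.span ((s.image (algebraMap A B) : Finset B) : Set B)).minimalPrimes := by
    refine ⟨⟨hP.1.1, ?_⟩, ?_⟩
    · rw [Finset.coe_image, Ideal.span_le]
      rintro _ ⟨x, hx, rfl⟩
      exact hP.1.2 (Ideal.mem_map_of_mem _ (hp.1.2 (Ideal.subset_span hx)))
    · rintro Q ⟨hQ, hsQ⟩ hQP
      have h2 : Q.comap (algebraMap A B) ≤ p := hPp ▸ Ideal.comap_mono hQP
      have h3 : p ≤ Q.comap (algebraMap A B) := by
        refine hp.2 ⟨Ideal.comap_isPrime _ _, ?_⟩ h2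
        rw [Ideal.span_le]
        intro x hx
        exact hsQ (Ideal.subset_span (by rw [Finset.coe_image]; exact ⟨x, hx, rfl⟩))
      exact hP.2 ⟨hQ, Ideal.map_le_iff_le_comap.mpr h3⟩ hQP
  refine (Ideal.height_le_card_of_mem_minimalPrimes_span_finset h1).trans ?_
  exact_mod_cast Finset.card_image_le

theorem height_le {k A B : Type u} [Field k] [CommRing A] [CommRing B] [Algebra k A] [Algebra A B]
    [Algebra.FiniteType k A] [Algebra.FiniteType A B] (p : PrimeSpectrum A) (P : PrimeSpectrum B)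
    (hP : P.asIdeal ∈ (p.asIdeal.map (algebraMap A B)).minimalPrimes)
    (hPp : PrimeSpectrum.comap (algebraMap A B) P = p) :
    (P.asIdeal.height : WithBot ℕ∞) ≤
      topologicalKrullDim (Set.range (PrimeSpectrum.comap (algebraMap A B))) := by
  have hNA : IsNoetherianRing A := Algebra.FiniteType.isNoetherianRing k A
  have hNB : IsNoetherianRing B := Algebra.FiniteType.isNoetherianRing A B
  obtain ⟨P₀, hle, hP₀, hht⟩ := Groth.Agent.Ega4A.CatenaryDim.exists_minimal_relHt P
  rw [← hht, ← Groth.Agent.Ega4A.CatenaryDim.height_map_mk_eq_relHt]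
  -- the quotients
  let 𝔞 : Ideal A := P₀.asIdeal.comap (algebraMap A B)
  have h𝔞 : 𝔞.IsPrime := Ideal.comap_isPrime _ _
  let _ : Algebra (A ⧸ 𝔞) (B ⧸ P₀.asIdeal) :=
    (Ideal.quotientMap P₀.asIdeal (algebraMap A B) (le_refl 𝔞)).toAlgebra
  have halg : ∀ a : A, algebraMap (A ⧸ 𝔞) (B ⧸ P₀.asIdeal) (Ideal.Quotient.mk 𝔞 a) =
      Ideal.Quotient.mk P₀.asIdeal (algebraMap A B a) := fun a => rfl
  have hcomap : (P.asIdeal.map (Ideal.Quotient.mk P₀.asIdeal)).comap (Ideal.Quotient.mk P₀.asIdeal) =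
      P.asIdeal := by
    rw [Ideal.comap_map_of_surjective _ Ideal.Quotient.mk_surjective, ← RingHom.ker_eq_comap_bot,
      Ideal.mk_ker]
    exact sup_eq_left.mpr hle
  have hprime : (P.asIdeal.map (Ideal.Quotient.mk P₀.asIdeal)).IsPrime :=
    Ideal.map_isPrime_of_surjective Ideal.Quotient.mk_surjective (by rw [Ideal.mk_ker]; exact hle)
  set P' := P.asIdeal.map (Ideal.Quotient.mk P₀.asIdeal) with hP'
  let p' : Ideal (A ⧸ 𝔞) := P'.comap (algebraMap (A ⧸ 𝔞) (B ⧸ P₀.asIdeal))
  have hp'prime : p'.IsPrime := Ideal.comap_isPrime _ _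
  have hmin : P' ∈ (p'.map (algebraMap (A ⧸ 𝔞) (B ⧸ P₀.asIdeal))).minimalPrimes := by
    refine ⟨⟨hprime, Ideal.map_comap_le⟩, ?_⟩
    rintro Q ⟨hQ, hpQ⟩ hQP
    have h1 : p.asIdeal.map (algebraMap A B) ≤ Q.comap (Ideal.Quotient.mk P₀.asIdeal) := by
      rw [Ideal.map_le_iff_le_comap]
      intro a ha
      change Ideal.Quotient.mk P₀.asIdeal (algebraMap A B a) ∈ Q
      rw [← halg]
      apply hpQ
      apply Ideal.mem_map_of_mem
      change algebraMap (A ⧸ 𝔞) (B ⧸ P₀.asIdeal) (Ideal.Quotient.mk 𝔞 a) ∈ P'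
      rw [halg]
      apply Ideal.mem_map_of_mem
      rw [← hPp] at ha
      exact ha
    have h2 : P.asIdeal ≤ Q.comap (Ideal.Quotient.mk P₀.asIdeal) :=
      hP.2 ⟨Ideal.comap_isPrime _ _, h1⟩ (hcomap ▸ Ideal.comap_mono hQP)
    exact Ideal.map_le_iff_le_comap.mpr h2
  have h1 := height_le_of_minimal p' P' hmin rfl
  have hinj : Function.Injective (algebraMap (A ⧸ 𝔞) (B ⧸ P₀.asIdeal)) :=
    Ideal.quotientMap_injective
  have hbot : (⊥ : PrimeSpectrum (A ⧸ 𝔞)) ∈
      Set.range (PrimeSpectrum.comap (algebraMap (A ⧸ 𝔞) (B ⧸ P₀.asIdeal))) := by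
    refine ⟨⊥, ?_⟩
    apply PrimeSpectrum.ext
    change Ideal.comap (algebraMap (A ⧸ 𝔞) (B ⧸ P₀.asIdeal)) ⊥ = ⊥
    rw [← RingHom.ker_eq_comap_bot]
    exact (RingHom.injective_iff_ker_eq_bot _).mp hinj
  have htower : IsScalarTower A (A ⧸ 𝔞) (B ⧸ P₀.asIdeal) := IsScalarTower.of_algebraMap_eq fun _ => rfl
  have hFTB : Algebra.FiniteType A (B ⧸ P₀.asIdeal) :=
    Algebra.FiniteType.trans ‹Algebra.FiniteType A B› (inferInstance : Algebra.FiniteType B _)
  have hFTB' : Algebra.FiniteType (A ⧸ 𝔞) (B ⧸ P₀.asIdeal) :=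
    Algebra.FiniteType.of_restrictScalars_finiteType A _ _
  have hFTA : Algebra.FiniteType k (A ⧸ 𝔞) :=
    Algebra.FiniteType.trans ‹Algebra.FiniteType k A› (inferInstance : Algebra.FiniteType A _)
  have h2 := ringKrullDim_le_range k (A ⧸ 𝔞) (B ⧸ P₀.asIdeal) hbot
  have h3 : (p'.height : WithBot ℕ∞) ≤ ringKrullDim (A ⧸ 𝔞) :=
    Ideal.height_le_ringKrullDim_of_ne_top hp'prime.ne_top
  refine (WithBot.coe_le_coe.mpr h1).trans (h3.trans (h2.trans ?_))
  have h4 : ∀ y : Set.range (PrimeSpectrum.comap (algebraMap (A ⧸ 𝔞) (B ⧸ P₀.asIdeal))),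
      PrimeSpectrum.comap (Ideal.Quotient.mk 𝔞) y.1 ∈ Set.range (PrimeSpectrum.comap (algebraMap A B)) := by
    rintro ⟨_, z, rfl⟩
    exact ⟨PrimeSpectrum.comap (Ideal.Quotient.mk P₀.asIdeal) z, rfl⟩
  have h5 : Topology.IsInducing (fun y : Set.range (PrimeSpectrum.comap
      (algebraMap (A ⧸ 𝔞) (B ⧸ P₀.asIdeal))) => PrimeSpectrum.comap (Ideal.Quotient.mk 𝔞) y.1) :=
    (PrimeSpectrum.isClosedEmbedding_comap_of_surjective _ _
      Ideal.Quotient.mk_surjective).isInducing.comp Topology.IsInducing.subtypeVal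
  exact (h5.codRestrict h4).topologicalKrullDim_le

end K837.ImgDim
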