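import Mathlib.RingTheory.Ideal.GoingUp
import Mathlib.RingTheory.Localization.FractionRing

/-!
# Lying over for one integral element, with values in a field
-/

set_option autoImplicit false
universe u v w

namespace K837.Lying

theorem exists_field {R : Type u} {A : Type v} [CommRing R] [CommRing A] (φ : R →+* A) (t : A)
    (ht : φ.IsIntegralElem t) (M : Ideal R) [M.IsPrime] (hM : RingHom.ker φ ≤ M) :
    ∃ (L : Type v) (_ : Field L) (μ : R →+* L) (τ : L), (∀ a ∈ M, μ a = 0) ∧
      ∀ F : Polynomial R, F.eval₂ φ t = 0 → F.eval₂ μ τ = 0 := by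
  let _ : Algebra R A := φ.toAlgebra
  have ht' : IsIntegral R t := ht
  let t₁ : integralClosure R A := ⟨t, ht'⟩
  have hle : (⊥ : Ideal (integralClosure R A)).comap (algebraMap R (integralClosure R A)) ≤ M := by
    intro a ha
    apply hM
    rw [Ideal.mem_comap, Ideal.mem_bot] at ha
    rw [RingHom.mem_ker]
    exact congrArg Subtype.val ha
  obtain ⟨Q, -, hQ, hQM⟩ := Ideal.exists_ideal_over_prime_of_isIntegral M
    (⊥ : Ideal (integralClosure R A)) hle
  have : IsDomain (integralClosure R A ⧸ Q) := inferInstance
  refine ⟨FractionRing (integralClosure R A ⧸ Q), inferInstance,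
    ((algebraMap (integralClosure R A ⧸ Q) (FractionRing (integralClosure R A ⧸ Q))).comp
      (Ideal.Quotient.mk Q)).comp (algebraMap R (integralClosure R A)),
    ((algebraMap (integralClosure R A ⧸ Q) (FractionRing (integralClosure R A ⧸ Q))).comp
      (Ideal.Quotient.mk Q)) t₁, ?_, ?_⟩
  · intro a ha
    have h1 : Ideal.Quotient.mk Q (algebraMap R (integralClosure R A) a) = 0 := by
      rw [Ideal.Quotient.eq_zero_iff_mem, ← Ideal.mem_comap, hQM]
      exact ha
    simp only [RingHom.comp_apply, h1, map_zero]
  · intro F hF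
    rw [← Polynomial.hom_eval₂]
    have h2 : F.eval₂ (algebraMap R (integralClosure R A)) t₁ = 0 := by
      apply Subtype.ext
      have h3 := Polynomial.hom_eval₂ F (algebraMap R (integralClosure R A))
        ((integralClosure R A).val : (integralClosure R A) →+* A) t₁
      exact h3.trans hF
    rw [h2, map_zero]

end K837.Lying
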