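import Mathlib.RingTheory.AlgebraicIndependent.AlgebraicClosure
import Mathlib.RingTheory.AlgebraicIndependent.TranscendenceBasis
import Mathlib.RingTheory.Ideal.GoingUp
import Mathlib.RingTheory.TensorProduct.Free
import Mathlib.RingTheory.Flat.FaithfullyFlat.Algebra
import Mathlib.FieldTheory.IntermediateField.Adjoin.Algebra
import Mathlib.RingTheory.Ideal.MinimalPrime.Localization

/-!
# Extension of the base field: coefficients along a transcendence basis
-/

set_option autoImplicit false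
universe u v w

open TensorProduct

namespace K837.PureTr

section

variable {k F A K : Type u} [Field k] [Field F] [Algebra k F] [Field K] [Algebra k K] [Algebra F K]
  [IsScalarTower k F K] [CommRing A] [Algebra k A] {S : Type u} (s₀ : S → F)

variable (k A) in
noncomputable def beta0 : MvPolynomial S A →ₐ[A] A ⊗[k] F :=
  MvPolynomial.aeval (fun i => (1 : A) ⊗ₜ[k] s₀ i)

variable (k F A K) in
noncomputable def gam : A ⊗[k] F →ₐ[A] A ⊗[k] K :=
  Algebra.TensorProduct.map (AlgHom.id A A) (IsScalarTower.toAlgHom k F K)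

lemma gam_tmul (a : A) (c : F) : gam k F A K (a ⊗ₜ[k] c) = a ⊗ₜ[k] algebraMap F K c := by
  simp [gam]

lemma beta0_map (t : MvPolynomial S k) :
    beta0 k A s₀ (MvPolynomial.map (algebraMap k A) t) = 1 ⊗ₜ[k] (MvPolynomial.aeval s₀ t) := by
  induction t using MvPolynomial.induction_on with
  | C a =>
    rw [MvPolynomial.map_C, beta0, MvPolynomial.aeval_C, MvPolynomial.aeval_C,
      ← IsScalarTower.algebraMap_apply k A, Algebra.TensorProduct.algebraMap_apply']
  | add p q hp hq => rw [map_add, map_add, hp, hq, map_add, TensorProduct.tmul_add]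
  | mul_X p i hp =>
    rw [map_mul, map_mul, hp, map_mul, MvPolynomial.map_X, MvPolynomial.aeval_X]
    simp only [beta0, MvPolynomial.aeval_X, Algebra.TensorProduct.tmul_mul_tmul, one_mul]

lemma exists_denominator (z : A ⊗[k] F)
    (hF : ∀ c : F, ∃ q r : MvPolynomial S k, q ≠ 0 ∧ MvPolynomial.aeval s₀ q * c = MvPolynomial.aeval s₀ r) :
    ∃ (t : MvPolynomial S k) (P : MvPolynomial S A), t ≠ 0 ∧
      (1 ⊗ₜ[k] (MvPolynomial.aeval s₀ t)) * z = beta0 k A s₀ P := by
  induction z using TensorProduct.induction_on with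
  | zero => exact ⟨1, 0, one_ne_zero, by rw [mul_zero, map_zero]⟩
  | add x y hx hy =>
    obtain ⟨t₁, F₁, h₁, e₁⟩ := hx
    obtain ⟨t₂, F₂, h₂, e₂⟩ := hy
    refine ⟨t₁ * t₂, MvPolynomial.map (algebraMap k A) t₂ * F₁ +
      MvPolynomial.map (algebraMap k A) t₁ * F₂, mul_ne_zero h₁ h₂, ?_⟩
    rw [map_add (beta0 k A s₀), map_mul (beta0 k A s₀), map_mul (beta0 k A s₀), beta0_map, beta0_map,
      ← e₁, ← e₂, map_mul (MvPolynomial.aeval s₀)]
    have h3 : (1 : A) ⊗ₜ[k] ((MvPolynomial.aeval s₀ t₁) * (MvPolynomial.aeval s₀ t₂)) =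
        (1 ⊗ₜ[k] (MvPolynomial.aeval s₀ t₁)) * (1 ⊗ₜ[k] (MvPolynomial.aeval s₀ t₂)) := by
      rw [Algebra.TensorProduct.tmul_mul_tmul, one_mul]
    rw [h3]
    ring
  | tmul a c =>
    obtain ⟨q, r, hq, hc⟩ := hF c
    refine ⟨q, MvPolynomial.C a * MvPolynomial.map (algebraMap k A) r, hq, ?_⟩
    rw [Algebra.TensorProduct.tmul_mul_tmul, one_mul, hc, map_mul, beta0_map]
    have h4 : beta0 k A s₀ (MvPolynomial.C a) = a ⊗ₜ[k] (1 : F) := by
      simp [beta0]
    rw [h4, Algebra.TensorProduct.tmul_mul_tmul, mul_one, one_mul]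

/-- `β₀` over `A ⊗ K` -/
lemma gam_beta0 (P : MvPolynomial S A) :
    gam k F A K (beta0 k A s₀ P) = MvPolynomial.aeval (fun i => (1 : A) ⊗ₜ[k] algebraMap F K (s₀ i)) P := by
  have h : (gam k F A K).comp (beta0 k A s₀) =
      MvPolynomial.aeval (fun i => (1 : A) ⊗ₜ[k] algebraMap F K (s₀ i)) := by
    apply MvPolynomial.algHom_ext
    intro i
    simp [beta0, gam]
  exact DFunLike.congr_fun h P

/-- `A ⊗ K` is integral over `A ⊗ F` -/
lemma isIntegral_gam [Algebra.IsAlgebraic F K] : (gam k F A K).toRingHom.IsIntegral := by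
  intro z
  let _ : Algebra (A ⊗[k] F) (A ⊗[k] K) := (gam k F A K).toRingHom.toAlgebra
  change IsIntegral (A ⊗[k] F) z
  induction z using TensorProduct.induction_on with
  | zero => exact isIntegral_zero
  | add x y hx hy => exact hx.add hy
  | tmul a c =>
    have h1 : a ⊗ₜ[k] c = (a ⊗ₜ[k] (1 : K)) * ((1 : A) ⊗ₜ[k] c) := by
      rw [Algebra.TensorProduct.tmul_mul_tmul, mul_one, one_mul]
    rw [h1]
    refine IsIntegral.mul ?_ ?_
    · have h2 : a ⊗ₜ[k] (1 : K) = algebraMap (A ⊗[k] F) (A ⊗[k] K) (a ⊗ₜ[k] 1) := by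
        change _ = gam k F A K (a ⊗ₜ[k] 1)
        rw [gam_tmul, map_one]
      rw [h2]
      exact isIntegral_algebraMap
    · have hc : IsIntegral F c := Algebra.IsIntegral.isIntegral c
      refine hc.map_of_comp_eq
        (Algebra.TensorProduct.includeRight : F →ₐ[k] A ⊗[k] F).toRingHom
        (Algebra.TensorProduct.includeRight : K →ₐ[k] A ⊗[k] K).toRingHom ?_
      ext x
      change gam k F A K (1 ⊗ₜ[k] x) = (1 : A) ⊗ₜ[k] (algebraMap F K x)
      rw [gam_tmul]

end

/-- An ideal whose contraction is contained in the extension of a minimal prime is contained in a minimal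
prime. -/
theorem exists_minimal {A B₀ B : Type*} [CommRing A] [CommRing B₀] [CommRing B] [Algebra A B₀]
    [Algebra B₀ B] [Module.FaithfullyFlat A B₀] [Algebra.IsIntegral B₀ B] (P : Ideal A)
    (hP : P ∈ minimalPrimes A) (I' : Ideal B)
    (hI₀ : I'.comap (algebraMap B₀ B) ≤ P.map (algebraMap A B₀)) : ∃ Q ∈ minimalPrimes B, I' ≤ Q := by
  have hPp : P.IsPrime := hP.1.1
  obtain ⟨Q₁, hQ₁⟩ := PrimeSpectrum.comap_surjective_of_faithfullyFlat
    (A := A) (B := B₀) ⟨P, hPp⟩
  have hQ₁p : Q₁.asIdeal.IsPrime := Q₁.isPrime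
  obtain ⟨Q₀, hQ₀, hQ₀Q₁⟩ := Ideal.exists_minimalPrimes_le (I := (⊥ : Ideal B₀))
    (J := Q₁.asIdeal) bot_le
  have hQ₀p : Q₀.IsPrime := hQ₀.1.1
  have hQ₀P : P ≤ Q₀.comap (algebraMap A B₀) := by
    have h1 : Q₀.comap (algebraMap A B₀) ≤ P := by
      refine (Ideal.comap_mono hQ₀Q₁).trans ?_
      exact (congrArg PrimeSpectrum.asIdeal hQ₁).le
    exact hP.2 ⟨Ideal.comap_isPrime _ _, bot_le⟩ h1
  have hI₀Q₀ := hI₀.trans (Ideal.map_le_iff_le_comap.mpr hQ₀P)
  obtain ⟨Q, hQI, hQ, hQQ₀⟩ := Ideal.exists_ideal_over_prime_of_isIntegral Q₀ I' hI₀Q₀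
  refine ⟨Q, ⟨⟨hQ, bot_le⟩, ?_⟩, hQI⟩
  rintro Q' ⟨hQ', -⟩ hle
  by_contra hcon
  have hlt := Ideal.IsIntegral.comap_lt_comap (R := B₀) (lt_of_le_not_ge hle hcon)
  rw [hQQ₀] at hlt
  exact hlt.not_ge (hQ₀.2 ⟨Ideal.comap_isPrime _ _, bot_le⟩ hlt.le)

section

variable {k F A K : Type u} [Field k] [Field F] [Algebra k F] [Field K] [Algebra k K] [Algebra F K]
  [IsScalarTower k F K] [CommRing A] [Algebra k A] {S : Type u} (s₀ : S → F)

/-- the case of a given subfield `F` -/
theorem main_aux [Algebra.IsAlgebraic F K]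
    (hF : ∀ c : F, ∃ q r : MvPolynomial S k, q ≠ 0 ∧ MvPolynomial.aeval s₀ q * c = MvPolynomial.aeval s₀ r)
    (hs : AlgebraicIndependent k s₀)
    (I' : Ideal (A ⊗[k] K)) (hI' : ∀ Q ∈ minimalPrimes (A ⊗[k] K), ¬ I' ≤ Q) :
    ∃ J : Ideal A, (∀ P ∈ minimalPrimes A, ¬ J ≤ P) ∧
      ∀ (kb Ω : Type u) [Field kb] [Algebra k kb] [Algebra.IsAlgebraic k kb] [Field Ω] [Algebra k Ω]
        [Algebra kb Ω] [Algebra K Ω] [IsScalarTower k kb Ω] [IsScalarTower k K Ω]
        (φ : A →+* kb) (ψ : A ⊗[k] K →+* Ω), (∀ a, ψ (a ⊗ₜ 1) = algebraMap kb Ω (φ a)) →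
        (∀ c, ψ (1 ⊗ₜ c) = algebraMap K Ω c) → ¬ J ≤ RingHom.ker φ → ¬ I' ≤ RingHom.ker ψ := by
  classical
  let β : MvPolynomial S A →ₐ[A] A ⊗[k] K :=
    MvPolynomial.aeval (fun i => (1 : A) ⊗ₜ[k] algebraMap F K (s₀ i))
  let J : Ideal A := Ideal.span {a | ∃ f : MvPolynomial S A, β f ∈ I' ∧ ∃ m, a = f.coeff m}
  refine ⟨J, ?_, ?_⟩
  · -- density
    intro P hP hJP
    have hPp : P.IsPrime := hP.1.1
    let _ : Algebra (A ⊗[k] F) (A ⊗[k] K) := (gam k F A K).toRingHom.toAlgebra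
    have hint : Algebra.IsIntegral (A ⊗[k] F) (A ⊗[k] K) := ⟨isIntegral_gam⟩
    obtain ⟨Q, hQ, hQI⟩ := exists_minimal (B₀ := A ⊗[k] F) P hP I' (by
      intro z hz
      obtain ⟨t, P', ht, he⟩ := exists_denominator s₀ z hF
      have hP' : β P' ∈ I' := by
        have h1 : β P' = gam k F A K (beta0 k A s₀ P') := (gam_beta0 s₀ P').symm
        rw [h1, ← he, map_mul]
        exact I'.mul_mem_left _ hz
      have hP2 : P' ∈ P.map (MvPolynomial.C : A →+* MvPolynomial S A) := by
        rw [MvPolynomial.mem_map_C_iff]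
        intro m
        exact hJP (Ideal.subset_span ⟨P', hP', m, rfl⟩)
      let P₀ : Ideal (A ⊗[k] F) := P.map (algebraMap A (A ⊗[k] F))
      have hle : P.map (MvPolynomial.C : A →+* MvPolynomial S A) ≤
          P₀.comap (beta0 k A s₀).toRingHom := by
        rw [Ideal.map_le_iff_le_comap]
        intro a ha
        change beta0 k A s₀ (MvPolynomial.C a) ∈ P₀
        have h1 : beta0 k A s₀ (MvPolynomial.C a) = algebraMap A (A ⊗[k] F) a :=
          (beta0 k A s₀).commutes a
        rw [h1]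
        exact Ideal.mem_map_of_mem _ ha
      have hF3 := hle hP2
      change beta0 k A s₀ P' ∈ P₀ at hF3
      rw [← he] at hF3
      have hunit : IsUnit ((1 : A) ⊗ₜ[k] (MvPolynomial.aeval s₀ t)) := by
        have h0 : MvPolynomial.aeval s₀ t ≠ 0 := fun h0 => ht (hs.eq_zero_of_aeval_eq_zero t h0)
        exact (isUnit_iff_ne_zero.mpr h0).map
          (Algebra.TensorProduct.includeRight : F →ₐ[k] A ⊗[k] F)
      exact (Ideal.unit_mul_mem_iff_mem _ hunit).mp hF3)
    exact hI' Q hQ hQI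
  · intro kb Ω _ _ _ _ _ _ _ _ _ φ ψ hφ hψ hJ hI
    apply hJ
    rw [Ideal.span_le]
    rintro _ ⟨f, hf, m, rfl⟩
    let σ : S → Ω := fun i => algebraMap K Ω (algebraMap F K (s₀ i))
    have hind : AlgebraicIndependent k σ :=
      hs.map' (f := (IsScalarTower.toAlgHom k K Ω).comp (IsScalarTower.toAlgHom k F K))
        ((algebraMap K Ω).injective.comp (algebraMap F K).injective)
    have hind' : AlgebraicIndependent kb σ := hind.extendScalars kb
    have h1 : ψ (β f) = MvPolynomial.aeval σ (MvPolynomial.map φ f) := by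
      have h2 : ψ.comp β.toRingHom =
          (MvPolynomial.aeval (R := kb) σ).toRingHom.comp (MvPolynomial.map φ) := by
        apply MvPolynomial.ringHom_ext
        · intro a
          change ψ (β (MvPolynomial.C a)) =
            MvPolynomial.aeval (R := kb) σ (MvPolynomial.map φ (MvPolynomial.C a))
          rw [MvPolynomial.map_C]
          refine Eq.trans ?_ (MvPolynomial.aeval_C _ _).symm
          refine Eq.trans ?_ (hφ a)
          congr 1
          exact β.commutes a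
        · intro i
          change ψ (β (MvPolynomial.X i)) =
            MvPolynomial.aeval (R := kb) σ (MvPolynomial.map φ (MvPolynomial.X i))
          rw [MvPolynomial.map_X]
          refine Eq.trans ?_ (MvPolynomial.aeval_X _ _).symm
          refine Eq.trans ?_ (hψ _)
          congr 1
          exact MvPolynomial.aeval_X _ _
      exact DFunLike.congr_fun h2 f
    have h3 : ψ (β f) = 0 := hI hf
    rw [h1] at h3
    have h4 := hind'.eq_zero_of_aeval_eq_zero _ h3
    have h5 := congrArg (MvPolynomial.coeff m) h4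
    rw [MvPolynomial.coeff_map, MvPolynomial.coeff_zero] at h5
    exact h5

end

/-- A dense open subset of `Spec (A ⊗ K)` contains the points over the algebraic points of some dense open subset
of `Spec A`. -/
theorem main (k A K : Type u) [Field k] [Field K] [Algebra k K] [CommRing A] [Algebra k A]
    (I' : Ideal (A ⊗[k] K)) (hI' : ∀ Q ∈ minimalPrimes (A ⊗[k] K), ¬ I' ≤ Q) :
    ∃ J : Ideal A, (∀ P ∈ minimalPrimes A, ¬ J ≤ P) ∧
      ∀ (kb Ω : Type u) [Field kb] [Algebra k kb] [Algebra.IsAlgebraic k kb] [Field Ω] [Algebra k Ω]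
        [Algebra kb Ω] [Algebra K Ω] [IsScalarTower k kb Ω] [IsScalarTower k K Ω]
        (φ : A →+* kb) (ψ : A ⊗[k] K →+* Ω), (∀ a, ψ (a ⊗ₜ 1) = algebraMap kb Ω (φ a)) →
        (∀ c, ψ (1 ⊗ₜ c) = algebraMap K Ω c) → ¬ J ≤ RingHom.ker φ → ¬ I' ≤ RingHom.ker ψ := by
  obtain ⟨S, s, hs⟩ := exists_isTranscendenceBasis' k K
  let F : IntermediateField k K := IntermediateField.adjoin k (Set.range s)
  have halg : Algebra.IsAlgebraic F K := hs.isAlgebraic_field
  let s₀ : S → F := fun i => ⟨s i, IntermediateField.subset_adjoin _ _ ⟨i, rfl⟩⟩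
  have hval : ∀ p : MvPolynomial S k, ((MvPolynomial.aeval s₀ p : F) : K) = MvPolynomial.aeval s p := by
    intro p
    have h1 := MvPolynomial.comp_aeval_apply (f := s₀) F.val p
    exact h1
  refine main_aux (F := F) s₀ ?_ ?_ I' hI'
  · intro c
    obtain ⟨r, q, hrq⟩ := (IntermediateField.mem_adjoin_range_iff k s c.1).mp c.2
    by_cases hq : MvPolynomial.aeval s q = 0
    · refine ⟨1, 0, one_ne_zero, ?_⟩
      have hc : c = 0 := by
        apply Subtype.ext
        rw [hrq, hq, div_zero]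
        rfl
      rw [hc, mul_zero, map_zero]
    · refine ⟨q, r, ?_, ?_⟩
      · rintro rfl
        exact hq (map_zero _)
      · apply Subtype.ext
        change ((MvPolynomial.aeval s₀ q : F) : K) * c.1 = _
        rw [hval, hval, hrq, mul_div_cancel₀ _ hq]
  · exact AlgebraicIndependent.of_comp F.val hs.1

end K837.PureTr
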