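import Mathlib.RingTheory.Valuation.LocalSubring
import Mathlib.RingTheory.ZariskisMainTheorem

set_option autoImplicit false
set_option linter.style.haveILetI false
universe u v
open Polynomial

/-! Relative curves over a base: valuation-theoretic preliminaries. -/

namespace K837.RC

section Val

variable {B K : Type*} [CommRing B] [Field K]

/-- a valuation ring dominating a prime of a ring mapping to a field -/
lemma exists_val (ρ : B →+* K) (n : Ideal B) [n.IsPrime] (h : RingHom.ker ρ ≤ n) :
    ∃ V : ValuationSubring K, (∀ b, V.valuation (ρ b) ≤ 1) ∧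
      ∀ b, V.valuation (ρ b) < 1 ↔ b ∈ n := by
  have hu : ∀ y : n.primeCompl, IsUnit (ρ y) := fun y =>
    isUnit_iff_ne_zero.mpr fun h0 => y.2 (h h0)
  let f : Localization.AtPrime n →+* K := IsLocalization.lift hu
  have hf : ∀ b, f (algebraMap B _ b) = ρ b := fun b => IsLocalization.lift_eq hu b
  obtain ⟨V, hV, hloc⟩ := IsLocalRing.exists_factor_valuationRing f
  refine ⟨V, fun b => (V.valuation_le_one_iff _).mpr (hf b ▸ hV _), fun b => ?_⟩
  have h1 : (f.codRestrict V.toSubring hV (algebraMap B _ b) : K) = ρ b := hf b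
  rw [← h1]
  have h2 := V.valuation_lt_one_iff (f.codRestrict V.toSubring hV (algebraMap B _ b))
  rw [← h2, IsLocalRing.mem_maximalIdeal, mem_nonunits_iff]
  have h3 : IsUnit (f.codRestrict V.toSubring hV (algebraMap B _ b)) ↔
      IsUnit (algebraMap B (Localization.AtPrime n) b) :=
    ⟨fun H => hloc.map_nonunit _ H, fun H => H.map _⟩
  have h4 := IsLocalization.AtPrime.isUnit_to_map_iff (Localization.AtPrime n) n b
  refine (not_congr (h3.trans h4)).trans ?_
  simp [Ideal.primeCompl]

/-- integral elements have valuation at most one -/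
lemma val_le_one_of_integral (V : ValuationSubring K) (σ : B →+* K)
    (hσ : ∀ b, V.valuation (σ b) ≤ 1) (x : K) (hx : σ.IsIntegralElem x) :
    V.valuation x ≤ 1 := by
  obtain ⟨P, hP, h0⟩ := hx
  have hσ' : ∀ b, σ b ∈ V.toSubring := fun b => (V.valuation_le_one_iff _).mp (hσ b)
  have h1 : IsIntegral V x := by
    refine ⟨P.map (σ.codRestrict V.toSubring hσ'), hP.map _, ?_⟩
    rw [eval₂_map]
    have hc : (algebraMap V K).comp (σ.codRestrict V.toSubring hσ') = σ := by ext; rfl
    rw [hc]
    exact h0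
  obtain ⟨y, hy⟩ := IsIntegrallyClosed.isIntegral_iff.mp h1
  rw [← hy]
  exact V.valuation_le_one y

/-- algebraic elements have valuation at most one if the coefficients are units or zero -/
lemma val_le_one_of_algebraic (V : ValuationSubring K) (σ : B →+* K)
    (hσ : ∀ b, σ b = 0 ∨ V.valuation (σ b) = 1) (x : K) (F : B[X]) (hF : F.map σ ≠ 0)
    (hx : F.eval₂ σ x = 0) : V.valuation x ≤ 1 := by
  have hσ1 : ∀ b, V.valuation (σ b) ≤ 1 := fun b => by
    rcases hσ b with h | h
    · rw [h, map_zero]; exact zero_le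
    · exact h.le
  have hσ' : ∀ b, σ b ∈ V.toSubring := fun b => (V.valuation_le_one_iff _).mp (hσ1 b)
  let σV : B →+* V.toSubring := σ.codRestrict V.toSubring hσ'
  have hσV : V.toSubring.subtype.comp σV = σ := by ext; rfl
  have h1 : (F.map σV).map V.toSubring.subtype = F.map σ := by rw [Polynomial.map_map, hσV]
  have h2 : (F.map σV).eval₂ V.toSubring.subtype x = 0 := by
    rw [eval₂_map, hσV, hx]
  have h3 := RingHom.isIntegralElem_leadingCoeff_mul _ (F.map σV) x h2
  have h4 := val_le_one_of_integral V V.toSubring.subtype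
    (fun b => V.valuation_le_one b) _ h3
  have h5 : V.toSubring.subtype (F.map σV).leadingCoeff = (F.map σ).leadingCoeff := by
    rw [← h1, Polynomial.leadingCoeff_map_of_injective (f := V.toSubring.subtype)
      Subtype.val_injective (p := F.map σV)]
  rw [h5, map_mul] at h4
  have h6 : V.valuation (F.map σ).leadingCoeff = 1 := by
    have : (F.map σ).leadingCoeff = σ (F.coeff (F.map σ).natDegree) := by
      rw [leadingCoeff, coeff_map]
    rw [this]
    refine (hσ _).resolve_left fun h => hF ?_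
    rw [← this] at h
    exact leadingCoeff_eq_zero.mp h
  rwa [h6, one_mul] at h4

/-- algebraicity over the image of a ring hom -/
lemma isAlgebraic_range_iff {L : Type*} [Field L] (τ : B →+* L) (x : L) :
    IsAlgebraic τ.range x ↔ ∃ F : B[X], F.map τ ≠ 0 ∧ F.eval₂ τ x = 0 := by
  have hc : τ.range.subtype.comp τ.rangeRestrict = τ := by ext; rfl
  have ha : algebraMap τ.range L = τ.range.subtype := rfl
  constructor
  · rintro ⟨G, hG, h0⟩
    obtain ⟨F, hF⟩ := Polynomial.map_surjective τ.rangeRestrict τ.rangeRestrict_surjective G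
    refine ⟨F, fun h => hG ?_, ?_⟩
    · rw [← hc, ← Polynomial.map_map, hF] at h
      exact (Polynomial.map_eq_zero_iff Subtype.val_injective).mp h
    · rw [aeval_def, ← hF, eval₂_map, ha, hc] at h0
      exact h0
  · rintro ⟨F, hF, h0⟩
    refine ⟨F.map τ.rangeRestrict, fun h => hF ?_, ?_⟩
    · rw [← hc, ← Polynomial.map_map, h, Polynomial.map_zero]
    · rw [aeval_def, eval₂_map, ha, hc, h0]

lemma isAlgebraic_of_integral {L : Type*} [Field L] (τ : B →+* L) (x : L)
    (hx : τ.IsIntegralElem x) : IsAlgebraic τ.range x := by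
  rw [isAlgebraic_range_iff]
  obtain ⟨F, hF, h0⟩ := hx
  exact ⟨F, (hF.map τ).ne_zero, h0⟩

end Val

section Alg0

variable {S B : Type*} [CommRing S] [CommRing B] [Algebra S B] {L : Type*} [Field L]

lemma isAlgebraic_of_integralElem {R' : Type*} [CommRing R'] (τ : S →+* L) (θ : R' →+* L)
    (hθ : ∀ r, IsAlgebraic τ.range (θ r)) (x : L) (hx : θ.IsIntegralElem x) :
    IsAlgebraic τ.range x := by
  let A₀ := Subalgebra.algebraicClosure τ.range L
  obtain ⟨P, hP, h0⟩ := hx
  have h1 : IsIntegral A₀ x := by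
    refine ⟨P.map (θ.codRestrict A₀.toSubring fun r => hθ r), hP.map _, ?_⟩
    rw [eval₂_map]
    exact h0
  exact h1.isAlgebraic.restrictScalars τ.range

lemma isAlgebraic_eval₂ (τ : S →+* L) (y : L) (hy : IsAlgebraic τ.range y) (F : S[X]) :
    IsAlgebraic τ.range (eval₂RingHom τ y F) := by
  let A₀ := Subalgebra.algebraicClosure τ.range L
  change eval₂RingHom τ y F ∈ A₀
  rw [coe_eval₂RingHom, eval₂_eq_sum_range]
  refine sum_mem fun i _ => mul_mem ?_ (pow_mem hy _)
  exact A₀.algebraMap_mem ⟨τ (F.coeff i), ⟨_, rfl⟩⟩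

end Alg0

section Val2

variable {B S K : Type*} [CommRing B] [CommRing S] [Field K]

lemma val_le_one_eval₂ (V : ValuationSubring K) (σ : S →+* K) (hσ : ∀ s, V.valuation (σ s) ≤ 1)
    (y : K) (hy : V.valuation y ≤ 1) (F : S[X]) : V.valuation (eval₂RingHom σ y F) ≤ 1 := by
  rw [V.valuation_le_one_iff]
  change _ ∈ V.toSubring
  rw [coe_eval₂RingHom, eval₂_eq_sum_range]
  refine sum_mem fun i _ => mul_mem ?_ (pow_mem ?_ _)
  · exact (V.valuation_le_one_iff _).mp (hσ _)
  · exact (V.valuation_le_one_iff _).mp hy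

/-- the centre of a valuation ring -/
lemma exists_centre (V : ValuationSubring K) (ρ : B →+* K) (hρ : ∀ b, V.valuation (ρ b) ≤ 1) :
    ∃ n : Ideal B, n.IsPrime ∧ ∀ b, b ∈ n ↔ V.valuation (ρ b) < 1 := by
  have hρ' : ∀ b, ρ b ∈ V.toSubring := fun b => (V.valuation_le_one_iff _).mp (hρ b)
  let ρV : B →+* V := ρ.codRestrict V.toSubring hρ'
  refine ⟨(IsLocalRing.maximalIdeal V).comap ρV, Ideal.comap_isPrime _ _, fun b => ?_⟩
  rw [Ideal.mem_comap, V.valuation_lt_one_iff]
  rfl

/-- residues of elements integral over `S[y]`, `y` in the maximal ideal, are algebraic over `S` -/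
lemma res_alg (V : ValuationSubring K) (σ : S →+* V) (y x : K)
    (hy : V.valuation y < 1) (hint : (eval₂RingHom (V.subtype.comp σ) y).IsIntegralElem x)
    (xV : V) (hx : (xV : K) = x) :
    IsAlgebraic ((IsLocalRing.residue V).comp σ).range (IsLocalRing.residue V xV) := by
  let yV : V := ⟨y, (V.valuation_le_one_iff _).mp hy.le⟩
  obtain ⟨P, hP, h0⟩ := hint
  have hcomp : V.subtype.comp (eval₂RingHom σ yV) = eval₂RingHom (V.subtype.comp σ) y := by
    apply Polynomial.ringHom_ext
    · intro a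
      simp only [RingHom.comp_apply, coe_eval₂RingHom, eval₂_C]
    · simp only [RingHom.comp_apply, coe_eval₂RingHom, eval₂_X]
      rfl
  have h1 : eval₂ (eval₂RingHom σ yV) xV P = 0 := by
    apply V.subtype_injective
    rw [Polynomial.hom_eval₂, hcomp, map_zero, ← h0]
    congr 1
  have hcomp2 : (IsLocalRing.residue V).comp (eval₂RingHom σ yV) =
      eval₂RingHom ((IsLocalRing.residue V).comp σ) (IsLocalRing.residue V yV) := by
    apply Polynomial.ringHom_ext
    · intro a
      simp only [RingHom.comp_apply, coe_eval₂RingHom, eval₂_C]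
    · simp only [RingHom.comp_apply, coe_eval₂RingHom, eval₂_X]
  have hy0 : IsLocalRing.residue V yV = 0 := by
    rw [IsLocalRing.residue_eq_zero_iff, V.valuation_lt_one_iff]
    exact hy
  refine isAlgebraic_of_integralElem _ (eval₂RingHom ((IsLocalRing.residue V).comp σ)
    (IsLocalRing.residue V yV)) (isAlgebraic_eval₂ _ _ (by rw [hy0]; exact isAlgebraic_zero)) _ ?_
  refine ⟨P, hP, ?_⟩
  rw [← hcomp2, ← Polynomial.hom_eval₂, h1, map_zero]

end Val2

section ExistsH

variable {S B N : Type*} [CommRing S] [CommRing B] [CommRing N] [Algebra S B] [Algebra S N]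
  [Algebra B N] [IsScalarTower S B N]

/-- an element integral over `S[g]` becomes integral over `S[1/g]` after multiplication by a power
of `1/g` -/
lemma exists_pow_mul_integral (g u : N) (hu : g * u = 1) (e : N)
    (he : (aeval g : S[X] →ₐ[S] N).toRingHom.IsIntegralElem e) :
    ∃ M : ℕ, ∀ m, M ≤ m → (aeval u : S[X] →ₐ[S] N).toRingHom.IsIntegralElem (u ^ m * e) := by
  letI algu : Algebra S[X] N := (aeval u : S[X] →ₐ[S] N).toRingHom.toAlgebra
  have hX : (algebraMap S[X] N) X = u := aeval_X u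
  have hunit : IsUnit ((algebraMap S[X] N) X) := by
    rw [hX]; exact IsUnit.of_mul_eq_one _ ((mul_comm u g).trans hu)
  let Rm := Localization.Away (X : S[X])
  letI algRm : Algebra Rm N := (IsLocalization.Away.lift (X : S[X]) hunit).toAlgebra
  haveI : IsScalarTower S[X] Rm N := IsScalarTower.of_algebraMap_eq fun x =>
    (IsLocalization.Away.lift_eq (X : S[X]) hunit x).symm
  let y : Rm := IsLocalization.Away.invSelf (X : S[X])
  have hy : algebraMap Rm N y = g := by
    have h1 : algebraMap S[X] Rm X * y = 1 := IsLocalization.Away.mul_invSelf (X : S[X])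
    have h2 := congrArg (algebraMap Rm N) h1
    rw [map_mul, map_one, ← IsScalarTower.algebraMap_apply S[X] Rm N, hX] at h2
    calc algebraMap Rm N y = (g * u) * algebraMap Rm N y := by rw [hu, one_mul]
      _ = g * (u * algebraMap Rm N y) := mul_assoc _ _ _
      _ = g := by rw [h2, mul_one]
  let θ : S[X] →+* Rm := eval₂RingHom ((algebraMap S[X] Rm).comp C) y
  have hθ : (algebraMap Rm N).comp θ = (aeval g : S[X] →ₐ[S] N).toRingHom := by
    apply Polynomial.ringHom_ext
    · intro a
      simp only [θ, RingHom.comp_apply, coe_eval₂RingHom, eval₂_C]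
      rw [← IsScalarTower.algebraMap_apply S[X] Rm N]
      change (aeval u) (C a) = (aeval g) (C a)
      rw [aeval_C, aeval_C]
    · simp only [θ, RingHom.comp_apply, coe_eval₂RingHom, eval₂_X, hy]
      exact (aeval_X g).symm
  have h1 : IsIntegral Rm e := by
    obtain ⟨P, hP, h0⟩ := he
    refine ⟨P.map θ, hP.map _, ?_⟩
    rw [eval₂_map, hθ, h0]
  obtain ⟨⟨m, M, hM⟩, hm⟩ := IsIntegral.exists_multiple_integral_of_isLocalization
    (Submonoid.powers (X : S[X])) e h1
  refine ⟨M, fun m' hm' => ?_⟩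
  have h2 : IsIntegral S[X] (u ^ M * e) := by
    have : (⟨m, M, hM⟩ : Submonoid.powers (X : S[X])) • e = u ^ M * e := by
      rw [Submonoid.smul_def, Algebra.smul_def]
      congr 1
      change algebraMap S[X] N m = _
      rw [← hM, map_pow, hX]
    rwa [this] at hm
  have h3 : IsIntegral S[X] u := by
    rw [← hX]; exact isIntegral_algebraMap
  have h4 : IsIntegral S[X] (u ^ m' * e) := by
    obtain ⟨j, rfl⟩ := Nat.exists_eq_add_of_le hm'
    have : u ^ (M + j) * e = u ^ j * (u ^ M * e) := by ring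
    rw [this]
    exact (h3.pow j).mul h2
  exact h4

/-- the chain argument: `N = C₂ + B + finite` -/
lemma exists_fg_sup (g : B) (hfin : (aeval g : S[X] →ₐ[S] B).toRingHom.Finite)
    [IsLocalization.Away g N] (u : N) (hu : algebraMap B N g * u = 1) (C₂ : Submodule S N)
    (hC₂ : ∀ x : N, (aeval u : S[X] →ₐ[S] N).toRingHom.IsIntegralElem x → x ∈ C₂) :
    ∃ T : Submodule S N, T.FG ∧
      C₂ ⊔ (IsScalarTower.toAlgHom S B N).toLinearMap.range ⊔ T = ⊤ := by
  classical
  letI algB : Algebra S[X] B := (aeval g : S[X] →ₐ[S] B).toRingHom.toAlgebra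
  haveI : Module.Finite S[X] B := hfin
  haveI : Algebra.IsIntegral S[X] B := Algebra.IsIntegral.of_finite _ _
  obtain ⟨s, hs⟩ := (Module.Finite.fg_top : (⊤ : Submodule S[X] B).FG)
  have hcomp : (aeval (algebraMap B N g) : S[X] →ₐ[S] N).toRingHom =
      (algebraMap B N).comp (aeval g : S[X] →ₐ[S] B).toRingHom := by
    apply Polynomial.ringHom_ext
    · intro a
      change (aeval (algebraMap B N g)) (C a) = algebraMap B N (aeval g (C a))
      rw [aeval_C, aeval_C, ← IsScalarTower.algebraMap_apply]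
    · change (aeval (algebraMap B N g)) X = algebraMap B N (aeval g X)
      rw [aeval_X, aeval_X]
  have hint : ∀ b : B, (aeval (algebraMap B N g) : S[X] →ₐ[S] N).toRingHom.IsIntegralElem
      (algebraMap B N b) := by
    intro b
    obtain ⟨P, hP, h0⟩ := Algebra.IsIntegral.isIntegral (R := S[X]) b
    refine ⟨P, hP, ?_⟩
    rw [hcomp, ← Polynomial.hom_eval₂]
    have h0' : eval₂ (aeval g : S[X] →ₐ[S] B).toRingHom b P = 0 := h0
    rw [h0', map_zero]
  choose M hM using fun b : B => exists_pow_mul_integral (S := S) (algebraMap B N g) u hu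
    (algebraMap B N b) (hint b)
  let M₀ : ℕ := s.sup M
  let F : Finset N := (s ×ˢ Finset.range M₀).image (fun q => u ^ q.2 * algebraMap B N q.1)
  refine ⟨Submodule.span S (F : Set N), ⟨F, rfl⟩, ?_⟩
  set W : Submodule S N := C₂ ⊔ (IsScalarTower.toAlgHom S B N).toLinearMap.range ⊔
    Submodule.span S (F : Set N) with hW
  have hB : ∀ b : B, algebraMap B N b ∈ W := fun b =>
    Submodule.mem_sup_left (Submodule.mem_sup_right ⟨b, rfl⟩)
  have hgu : ∀ n : ℕ, u ^ (n + 1) * algebraMap B N g = u ^ n := fun n => by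
    rw [pow_succ, mul_assoc, mul_comm u, hu, mul_one]
  let T : Submodule S[X] B :=
    { carrier := {b | ∀ n : ℕ, u ^ n * algebraMap B N b ∈ W}
      add_mem' := fun {a b} ha hb n => by
        rw [map_add, mul_add]; exact W.add_mem (ha n) (hb n)
      zero_mem' := fun n => by rw [map_zero, mul_zero]; exact W.zero_mem
      smul_mem' := by
        intro P b hb
        change ∀ n : ℕ, u ^ n * algebraMap B N ((aeval g P) * b) ∈ W
        induction P using Polynomial.induction_on' with
        | add P Q hP hQ =>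
          intro n
          rw [map_add, add_mul, map_add, mul_add]
          exact W.add_mem (hP n) (hQ n)
        | monomial k a =>
          rw [← C_mul_X_pow_eq_monomial, map_mul (aeval g), aeval_C, map_pow (aeval g), aeval_X]
          have hk : ∀ k : ℕ, ∀ n : ℕ, u ^ n * algebraMap B N (g ^ k * b) ∈ W := by
            intro k
            induction k with
            | zero => intro n; simpa using hb n
            | succ k ih =>
              intro n
              rcases n with _ | n
              · rw [pow_zero, one_mul]; exact hB _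
              · have : u ^ (n + 1) * algebraMap B N (g ^ (k + 1) * b) =
                    u ^ n * algebraMap B N (g ^ k * b) := by
                  rw [pow_succ' g, mul_assoc, map_mul (algebraMap B N) g, ← mul_assoc, hgu]
                rw [this]; exact ih n
          intro n
          have : u ^ n * algebraMap B N (algebraMap S B a * g ^ k * b) =
              a • (u ^ n * algebraMap B N (g ^ k * b)) := by
            rw [Algebra.smul_def, mul_assoc (algebraMap S B a), map_mul,
              ← IsScalarTower.algebraMap_apply]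
            ring
          rw [this]
          exact W.smul_mem _ (hk k n) }
  have hT : T = ⊤ := by
    rw [eq_top_iff, ← hs, Submodule.span_le]
    intro e he n
    by_cases hn : n < M₀
    · refine Submodule.mem_sup_right (Submodule.subset_span ?_)
      refine Finset.mem_coe.mpr (Finset.mem_image.mpr ⟨(e, n), ?_, rfl⟩)
      exact Finset.mem_product.mpr ⟨he, Finset.mem_range.mpr hn⟩
    · refine Submodule.mem_sup_left (Submodule.mem_sup_left (hC₂ _ (hM e n ?_)))
      exact (Finset.le_sup (f := M) he).trans (not_lt.mp hn)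
  rw [eq_top_iff]
  intro x _
  obtain ⟨⟨b, ⟨_, n, rfl⟩⟩, hx⟩ := IsLocalization.surj (Submonoid.powers g) x
  have hx' : x * algebraMap B N g ^ n = algebraMap B N b := by
    rw [← map_pow]; exact hx
  have : x = u ^ n * algebraMap B N b := by
    rw [← hx']
    calc x = x * (algebraMap B N g * u) ^ n := by rw [hu, one_pow, mul_one]
      _ = u ^ n * (x * algebraMap B N g ^ n) := by ring
  rw [this]
  have hb : b ∈ T := by rw [hT]; trivial
  exact hb n

/-- existence of `h` -/
lemma exists_h [IsNoetherianRing S] (g ε ε' c : B)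
    (hfin : (aeval g : S[X] →ₐ[S] B).toRingHom.Finite) (hmul : ε * ε' = g * c)
    [IsLocalization.Away g N] (u : N) (hu : algebraMap B N g * u = 1) :
    ∃ (h : N) (a k : ℕ) (w b : B), (aeval u : S[X] →ₐ[S] N).toRingHom.IsIntegralElem h ∧
      algebraMap B N ε' ^ k * h = algebraMap B N b ∧
      algebraMap B N ε ^ (a + 1) =
        algebraMap B N g * (algebraMap B N g ^ a * h + algebraMap B N w) := by
  classical
  letI algu : Algebra S[X] N := (aeval u : S[X] →ₐ[S] N).toRingHom.toAlgebra
  haveI : IsScalarTower S S[X] N := IsScalarTower.of_algebraMap_eq fun x => by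
    change _ = aeval u (C x)
    rw [aeval_C]
  let C₂ : Submodule S N := (Subalgebra.toSubmodule (integralClosure S[X] N)).restrictScalars S
  obtain ⟨T, hT, htop⟩ := exists_fg_sup g hfin u hu C₂ (fun x hx => hx)
  let Bb : Submodule S N := (IsScalarTower.toAlgHom S B N).toLinearMap.range
  have hsm : ∀ (a : S) (b : B), a • algebraMap B N b = algebraMap B N (a • b) := fun a b => by
    rw [Algebra.smul_def, Algebra.smul_def, map_mul, ← IsScalarTower.algebraMap_apply]
  let J : ℕ → Submodule S N := fun n =>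
    { carrier := {x | (∃ b : B, algebraMap B N g ^ n * x = algebraMap B N b) ∧
        ∃ (k : ℕ) (b : B), algebraMap B N ε' ^ k * x = algebraMap B N b}
      add_mem' := by
        rintro x y ⟨⟨b, hb⟩, k, b', hb'⟩ ⟨⟨d, hd⟩, l, d', hd'⟩
        refine ⟨⟨b + d, by rw [mul_add, hb, hd, map_add]⟩, k + l, ε' ^ l * b' + ε' ^ k * d', ?_⟩
        rw [map_add, map_mul, map_mul, ← hb', ← hd', map_pow, map_pow]
        ring
      zero_mem' := ⟨⟨0, by simp⟩, 0, 0, by simp⟩
      smul_mem' := by
        rintro a x ⟨⟨b, hb⟩, k, b', hb'⟩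
        refine ⟨⟨a • b, ?_⟩, k, a • b', ?_⟩
        · rw [mul_smul_comm, hb, hsm]
        · rw [mul_smul_comm, hb', hsm] }
  have hJmono : Monotone J := by
    refine monotone_nat_of_le_succ fun n => ?_
    rintro x ⟨⟨b, hb⟩, h2⟩
    refine ⟨⟨g * b, ?_⟩, h2⟩
    rw [pow_succ', mul_assoc, hb, map_mul]
  have hBJ : ∀ n (b : B), algebraMap B N b ∈ J n := fun n b =>
    ⟨⟨g ^ n * b, by rw [map_mul, map_pow]⟩, 0, b, by simp⟩
  haveI : Module.Finite S (N ⧸ (C₂ ⊔ Bb)) := by
    refine ⟨?_⟩
    have h1 : Submodule.map (C₂ ⊔ Bb).mkQ ⊤ = Submodule.map (C₂ ⊔ Bb).mkQ T := by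
      rw [← htop, Submodule.map_sup, Submodule.mkQ_map_self, bot_sup_eq]
    have h2 : Submodule.map (C₂ ⊔ Bb).mkQ ⊤ = ⊤ := by
      rw [Submodule.map_top, Submodule.range_mkQ]
    rw [← h2, h1]
    exact hT.map _
  haveI : IsNoetherian S (N ⧸ (C₂ ⊔ Bb)) := isNoetherian_of_isNoetherianRing_of_finite _ _
  obtain ⟨a, ha⟩ := monotone_stabilizes_iff_noetherian.mpr ‹_›
    (⟨fun n => Submodule.map (C₂ ⊔ Bb).mkQ (J n), fun m n hmn =>
      Submodule.map_mono (hJmono hmn)⟩ : ℕ →o Submodule S (N ⧸ (C₂ ⊔ Bb)))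
  have hgu : ∀ n : ℕ, algebraMap B N g ^ n * u ^ n = 1 := fun n => by
    rw [← mul_pow, hu, one_pow]
  -- the element `ε^(a+1) / g^(a+1)`
  let z : N := algebraMap B N ε ^ (a + 1) * u ^ (a + 1)
  have hz : z ∈ J (a + 1) := by
    refine ⟨⟨ε ^ (a + 1), ?_⟩, a + 1, c ^ (a + 1), ?_⟩
    · calc algebraMap B N g ^ (a + 1) * z
          = (algebraMap B N g ^ (a + 1) * u ^ (a + 1)) * algebraMap B N ε ^ (a + 1) := by
            simp only [z]; ring
        _ = algebraMap B N (ε ^ (a + 1)) := by rw [hgu, one_mul, map_pow]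
    · calc algebraMap B N ε' ^ (a + 1) * z
          = algebraMap B N (ε * ε') ^ (a + 1) * u ^ (a + 1) := by
            simp only [z, map_mul]; ring
        _ = (algebraMap B N g ^ (a + 1) * u ^ (a + 1)) * algebraMap B N c ^ (a + 1) := by
            rw [hmul, map_mul]; ring
        _ = algebraMap B N (c ^ (a + 1)) := by rw [hgu, one_mul, map_pow]
  have hz' : (C₂ ⊔ Bb).mkQ z ∈ Submodule.map (C₂ ⊔ Bb).mkQ (J a) := by
    have := ha (a + 1) (Nat.le_succ a)
    change Submodule.map (C₂ ⊔ Bb).mkQ (J a) = Submodule.map (C₂ ⊔ Bb).mkQ (J (a + 1)) at this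
    rw [this]
    exact Submodule.mem_map_of_mem hz
  obtain ⟨j, hj, hjz⟩ := hz'
  have hsub : z - j ∈ C₂ ⊔ Bb := by
    rw [← Submodule.Quotient.eq]
    exact hjz.symm
  obtain ⟨h, hh, _, ⟨b₀, rfl⟩, hsum⟩ := Submodule.mem_sup.mp hsub
  have hb₀ : (IsScalarTower.toAlgHom S B N).toLinearMap b₀ = algebraMap B N b₀ := rfl
  rw [hb₀] at hsum
  have hj' : j + algebraMap B N b₀ ∈ J a := (J a).add_mem hj (hBJ a b₀)
  have hheq : h = z - (j + algebraMap B N b₀) := by
    rw [← sub_sub, ← hsum, add_sub_cancel_right]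
  have hhJ : h ∈ J (a + 1) := by
    rw [hheq]
    exact (J (a + 1)).sub_mem hz (hJmono (Nat.le_succ a) hj')
  obtain ⟨_, k, b, hb⟩ := hhJ
  obtain ⟨⟨w, hw⟩, _⟩ := hj'
  refine ⟨h, a, k, w, b, hh, hb, ?_⟩
  rw [← hw, ← mul_add, hheq, sub_add_cancel]
  calc algebraMap B N ε ^ (a + 1)
      = (algebraMap B N g ^ (a + 1) * u ^ (a + 1)) * algebraMap B N ε ^ (a + 1) := by
        rw [hgu, one_mul]
    _ = algebraMap B N g * (algebraMap B N g ^ a * z) := by simp only [z]; ring

end ExistsH

section Alg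

variable {S B : Type*} [CommRing S] [CommRing B] [Algebra S B] {L : Type*} [Field L]

lemma map_ne_zero_iff_not_mem (p : Ideal S) (τ : S →+* L) (hτ : RingHom.ker τ = p) (F : S[X]) :
    F.map τ ≠ 0 ↔ F ∉ p.map (C : S →+* S[X]) := by
  rw [not_iff_not, Ideal.mem_map_C_iff, Polynomial.ext_iff]
  refine forall_congr' fun n => ?_
  rw [coeff_map, coeff_zero, ← hτ, RingHom.mem_ker]

/-- `x` is algebraic modulo the prime `ξ`, over the prime `p` of the base -/
def AlgM (p : Ideal S) (ξ : Ideal B) (x : B) : Prop :=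
  ∃ F : S[X], F ∉ p.map (C : S →+* S[X]) ∧ aeval x F ∈ ξ

lemma algM_iff (p : Ideal S) (ξ : Ideal B) (x : B) (ρ : B →+* L) (hρ : RingHom.ker ρ = ξ)
    (hξ : ξ.comap (algebraMap S B) = p) :
    AlgM p ξ x ↔ IsAlgebraic (ρ.comp (algebraMap S B)).range (ρ x) := by
  rw [isAlgebraic_range_iff]
  refine exists_congr fun F => ?_
  rw [map_ne_zero_iff_not_mem p _ (by rw [← hξ, ← hρ, RingHom.comap_ker]), ← Polynomial.hom_eval₂,
    ← aeval_def, ← RingHom.mem_ker, hρ]

lemma comap_aeval_eq (p : Ideal S) (ξ : Ideal B) (x : B) (hξ : ξ.comap (algebraMap S B) = p) :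
    ξ.comap (aeval x : S[X] →ₐ[S] B).toRingHom = p.map (C : S →+* S[X]) ↔ ¬ AlgM p ξ x := by
  constructor
  · rintro h ⟨F, hF, h0⟩
    exact hF (h ▸ h0)
  · intro h
    refine le_antisymm (fun F hF => ?_) ?_
    · by_contra hF'
      exact h ⟨F, hF', hF⟩
    · rw [Ideal.map_le_iff_le_comap]
      intro a ha
      change aeval x (C a) ∈ ξ
      rw [aeval_C]
      rw [← hξ] at ha
      exact ha

/-- primes of an algebraic extension do not contain each other -/
lemma eq_of_le_of_algM (p : Ideal S) (ξ n : Ideal B) [ξ.IsPrime] [n.IsPrime]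
    (g : B) (hfin : (aeval g : S[X] →ₐ[S] B).toRingHom.Finite)
    (hξ : ξ.comap (algebraMap S B) = p) (hn : n.comap (algebraMap S B) = p) (hle : ξ ≤ n)
    (hg : AlgM p ξ g) : ξ = n := by
  refine le_antisymm hle fun x hx => ?_
  by_contra hxξ
  let L := ξ.ResidueField
  let ρ : B →+* L := algebraMap B L
  have hρ : RingHom.ker ρ = ξ := Ideal.ker_algebraMap_residueField ξ
  let τ : S →+* L := ρ.comp (algebraMap S B)
  have hgL : IsAlgebraic τ.range (ρ g) := (algM_iff p ξ g ρ hρ hξ).mp hg
  have hint : (aeval g : S[X] →ₐ[S] B).toRingHom.IsIntegralElem x := hfin.to_isIntegral x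
  have hcomp : ρ.comp (aeval g : S[X] →ₐ[S] B).toRingHom = eval₂RingHom τ (ρ g) := by
    apply Polynomial.ringHom_ext
    · intro a
      simp only [RingHom.comp_apply, coe_eval₂RingHom, eval₂_C]
      change ρ (aeval g (C a)) = _
      rw [aeval_C]; rfl
    · simp only [RingHom.comp_apply, coe_eval₂RingHom, eval₂_X]
      change ρ (aeval g X) = _
      rw [aeval_X]
  have hxL : IsAlgebraic τ.range (ρ x) := by
    refine isAlgebraic_of_integralElem τ (eval₂RingHom τ (ρ g)) (isAlgebraic_eval₂ τ _ hgL) _ ?_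
    obtain ⟨P, hP, h0⟩ := hint
    refine ⟨P, hP, ?_⟩
    rw [← hcomp, ← Polynomial.hom_eval₂, h0, map_zero]
  have hx0 : ρ x ∈ nonZeroDivisors L := by
    rw [mem_nonZeroDivisors_iff_ne_zero]
    intro h0
    exact hxξ (hρ ▸ (RingHom.mem_ker.mpr h0))
  obtain ⟨q, hq0, hq⟩ := hxL.exists_nonzero_coeff_and_aeval_eq_zero hx0
  obtain ⟨F, hF⟩ := Polynomial.map_surjective τ.rangeRestrict τ.rangeRestrict_surjective q
  have h1 : F.eval₂ τ (ρ x) = 0 := by
    rw [← hq, aeval_def, ← hF, eval₂_map]; rfl
  have h2 : aeval x F ∈ ξ := by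
    rw [← hρ, RingHom.mem_ker, aeval_def, Polynomial.hom_eval₂]; exact h1
  have h3 : aeval x F = aeval x F.divX * x + algebraMap S B (F.coeff 0) := by
    conv_lhs => rw [← Polynomial.divX_mul_X_add F]
    rw [map_add, map_mul, aeval_X, aeval_C]
  have h4 : algebraMap S B (F.coeff 0) ∈ n := by
    have h5 := hle h2
    rw [h3] at h5
    exact (n.add_mem_iff_right (n.mul_mem_left _ hx)).mp h5
  have h6 : F.coeff 0 ∈ p := by rw [← hn]; exact h4
  apply hq0
  rw [← hF, coeff_map]
  apply Subtype.ext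
  change τ (F.coeff 0) = 0
  rw [← hξ] at h6
  have h7 : algebraMap S B (F.coeff 0) ∈ RingHom.ker ρ := by rw [hρ]; exact h6
  exact h7

end Alg

section Main

variable {S B N : Type*} [CommRing S] [CommRing B] [CommRing N] [Algebra S B] [Algebra S N]
  [Algebra B N] [IsScalarTower S B N]

/-- the data separating good and bad components -/
structure Sep (p : Ideal S) (n₀ : Ideal B) (g ε ε' : B) : Prop where
  fin : (aeval g : S[X] →ₐ[S] B).toRingHom.Finite
  good : ∀ ξ n : Ideal B, ξ.IsPrime → n.IsPrime → ξ ≤ n → ξ.comap (algebraMap S B) = p →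
    ¬ AlgM p ξ g → n.comap (algebraMap S B) = p → g ∈ n → ξ ≤ n₀ → ε ∉ n
  bad : ∀ ξ n : Ideal B, ξ.IsPrime → n.IsPrime → ξ ≤ n → ξ.comap (algebraMap S B) = p →
    ¬ AlgM p ξ g → n.comap (algebraMap S B) = p → g ∈ n → ¬ ξ ≤ n₀ → ε' ∉ n

/-- the properties of `h` -/
structure HProp (g ε ε' : B) (u h : N) : Prop where
  hu : algebraMap B N g * u = 1
  int : (aeval u : S[X] →ₐ[S] N).toRingHom.IsIntegralElem h
  eps' : ∃ (k : ℕ) (b : B), algebraMap B N ε' ^ k * h = algebraMap B N b
  eps : ∃ (a : ℕ) (w : B), algebraMap B N ε ^ (a + 1) =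
        algebraMap B N g * (algebraMap B N g ^ a * h + algebraMap B N w)

/-- going up: above a generic prime there is a prime containing `g` -/
lemma exists_prime_gt (p : Ideal S) [p.IsPrime] (ξ : Ideal B) [ξ.IsPrime]
    (g : B) (hfin : (aeval g : S[X] →ₐ[S] B).toRingHom.Finite)
    (hξ : ξ.comap (algebraMap S B) = p) (hg : ¬ AlgM p ξ g) :
    ∃ n : Ideal B, n.IsPrime ∧ ξ ≤ n ∧ n.comap (algebraMap S B) = p ∧ g ∈ n := by
  letI algB : Algebra S[X] B := (aeval g : S[X] →ₐ[S] B).toRingHom.toAlgebra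
  haveI : Module.Finite S[X] B := hfin
  haveI : Algebra.IsIntegral S[X] B := Algebra.IsIntegral.of_finite _ _
  have h1 : ξ.comap (algebraMap S[X] B) = p.map (C : S →+* S[X]) :=
    (comap_aeval_eq p ξ g hξ).mpr hg
  let P : Ideal S[X] := p.comap (Polynomial.constantCoeff)
  have h2 : ξ.comap (algebraMap S[X] B) ≤ P := by
    rw [h1, Ideal.map_le_iff_le_comap, Ideal.comap_comap]
    intro x hx
    rw [Ideal.mem_comap, RingHom.comp_apply, Polynomial.constantCoeff_apply, coeff_C_zero]
    exact hx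
  obtain ⟨n, hn, hnp, hnc⟩ := Ideal.exists_ideal_over_prime_of_isIntegral P ξ h2
  refine ⟨n, hnp, hn, ?_, ?_⟩
  · ext x
    have : C x ∈ n.comap (algebraMap S[X] B) ↔ x ∈ p := by
      rw [hnc, Ideal.mem_comap, Polynomial.constantCoeff_apply, coeff_C_zero]
    rw [← this, Ideal.mem_comap, Ideal.mem_comap]
    have h3 : (algebraMap S[X] B) (C x) = algebraMap S B x := aeval_C g x
    rw [h3]
  · have : (X : S[X]) ∈ n.comap (algebraMap S[X] B) := by
      rw [hnc, Ideal.mem_comap, Polynomial.constantCoeff_apply, coeff_X_zero]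
      exact p.zero_mem
    have h3 : (algebraMap S[X] B) X = g := aeval_X g
    rw [Ideal.mem_comap, h3] at this
    exact this

/-- `h` is transcendental modulo the good components -/
lemma not_algM_of_lt (p : Ideal S) [p.IsPrime] (n₀ : Ideal B) [n₀.IsPrime]
    (hn₀ : n₀.comap (algebraMap S B) = p)
    (g ε ε' : B) (sep : Sep p n₀ g ε ε') (u h : N) (hp : HProp (S := S) g ε ε' u h)
    (η : Ideal N) [η.IsPrime] (hη : η.comap (algebraMap S N) = p)
    (hlt : η.comap (algebraMap B N) < n₀) : ¬ AlgM p η h := by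
  intro hAlg
  set ξ := η.comap (algebraMap B N) with hξdef
  haveI : ξ.IsPrime := Ideal.comap_isPrime _ _
  have hξ : ξ.comap (algebraMap S B) = p := by
    rw [hξdef, Ideal.comap_comap, ← IsScalarTower.algebraMap_eq, hη]
  have hg : ¬ AlgM p ξ g := fun H =>
    hlt.ne (eq_of_le_of_algM p ξ n₀ g sep.fin hξ hn₀ hlt.le H)
  obtain ⟨n, hnp, hξn, hnS, hgn⟩ := exists_prime_gt p ξ g sep.fin hξ hg
  have hεn := sep.good ξ n ‹_› hnp hξn hξ hg hnS hgn hlt.le
  let K := η.ResidueField
  let ρN : N →+* K := algebraMap N K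
  have hρN : RingHom.ker ρN = η := Ideal.ker_algebraMap_residueField η
  let ρ : B →+* K := ρN.comp (algebraMap B N)
  have hρ : RingHom.ker ρ = ξ := by rw [← RingHom.comap_ker, hρN]
  obtain ⟨V, hV1, hV2⟩ := exists_val ρ n (hρ.le.trans hξn)
  let σ : S →+* K := ρN.comp (algebraMap S N)
  have hσρ : ∀ s, σ s = ρ (algebraMap S B s) := fun s => by
    simp only [σ, ρ, RingHom.comp_apply, ← IsScalarTower.algebraMap_apply]
  have hσ : ∀ s, σ s = 0 ∨ V.valuation (σ s) = 1 := by
    intro s
    by_cases hs : s ∈ p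
    · left
      have : algebraMap S N s ∈ η := by rw [← hη] at hs; exact hs
      rw [← hρN] at this
      exact this
    · right
      rw [hσρ]
      refine le_antisymm (hV1 _) (not_lt.mp fun hlt' => hs ?_)
      rw [hV2] at hlt'
      rw [← hnS]; exact hlt'
  obtain ⟨F, hF1, hF2⟩ := (isAlgebraic_range_iff _ _).mp ((algM_iff p η h ρN hρN hη).mp hAlg)
  have hvh : V.valuation (ρN h) ≤ 1 := val_le_one_of_algebraic V σ hσ (ρN h) F hF1 hF2
  obtain ⟨a, w, haw⟩ := hp.eps
  have h1 := congrArg (fun x => V.valuation (ρN x)) haw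
  simp only [map_pow, map_mul, map_add] at h1
  have h2 : V.valuation (ρ g) < 1 := (hV2 g).mpr hgn
  have h3 : V.valuation (ρN (algebraMap B N g)) ^ a * V.valuation (ρN h) ≤ 1 :=
    mul_le_one' (pow_le_one' h2.le a) hvh
  have h4 : V.valuation (ρN (algebraMap B N g) ^ a * ρN h + ρN (algebraMap B N w)) ≤ 1 := by
    refine (V.valuation.map_add _ _).trans (max_le ?_ (hV1 w))
    rw [map_mul, map_pow]; exact h3
  have h5 : V.valuation (ρN (algebraMap B N ε)) ^ (a + 1) < 1 := by
    rw [h1]
    calc _ ≤ V.valuation (ρN (algebraMap B N g)) * 1 := mul_le_mul' le_rfl h4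
      _ < 1 := by rw [mul_one]; exact h2
  refine hεn ((hV2 ε).mp (lt_of_not_ge fun hge => ?_))
  exact absurd h5 (not_lt.mpr (one_le_pow₀ hge))

/-- `h` is algebraic modulo the bad components -/
lemma algM_of_not_le (p : Ideal S) [p.IsPrime] (n₀ : Ideal B)
    (g ε ε' : B) (sep : Sep p n₀ g ε ε') (u h : N) (hp : HProp (S := S) g ε ε' u h)
    (η : Ideal N) [η.IsPrime] (hη : η.comap (algebraMap S N) = p)
    (hnle : ¬ η.comap (algebraMap B N) ≤ n₀) : AlgM p η h := by
  set ξ := η.comap (algebraMap B N) with hξdef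
  haveI : ξ.IsPrime := Ideal.comap_isPrime _ _
  have hξ : ξ.comap (algebraMap S B) = p := by
    rw [hξdef, Ideal.comap_comap, ← IsScalarTower.algebraMap_eq, hη]
  let K := η.ResidueField
  let ρN : N →+* K := algebraMap N K
  have hρN : RingHom.ker ρN = η := Ideal.ker_algebraMap_residueField η
  let ρ : B →+* K := ρN.comp (algebraMap B N)
  have hρ : RingHom.ker ρ = ξ := by rw [← RingHom.comap_ker, hρN]
  let σ : S →+* K := ρN.comp (algebraMap S N)
  have hσρ' : ρ.comp (algebraMap S B) = σ := by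
    ext s; simp only [σ, ρ, RingHom.comp_apply, ← IsScalarTower.algebraMap_apply]
  have hσρ : ∀ s, σ s = ρ (algebraMap S B s) := fun s => by rw [← hσρ']; rfl
  have hσ0 : ∀ s, σ s = 0 ↔ s ∈ p := fun s => by
    rw [← hη]; exact RingHom.mem_ker.symm.trans (by rw [← RingHom.comap_ker, hρN])
  rw [algM_iff p η h ρN hρN hη]
  change IsAlgebraic σ.range (ρN h)
  have hcompu : ρN.comp (aeval u : S[X] →ₐ[S] N).toRingHom = eval₂RingHom σ (ρN u) := by
    apply Polynomial.ringHom_ext
    · intro a
      simp only [RingHom.comp_apply, coe_eval₂RingHom, eval₂_C]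
      change ρN (aeval u (C a)) = _
      rw [aeval_C]; rfl
    · simp only [RingHom.comp_apply, coe_eval₂RingHom, eval₂_X]
      change ρN (aeval u X) = _
      rw [aeval_X]
  have hhint : (eval₂RingHom σ (ρN u)).IsIntegralElem (ρN h) := by
    obtain ⟨P, hP, h0⟩ := hp.int
    refine ⟨P, hP, ?_⟩
    rw [← hcompu, ← Polynomial.hom_eval₂, h0, map_zero]
  have hgu : ρ g * ρN u = 1 := by
    change ρN (algebraMap B N g) * ρN u = 1
    rw [← map_mul, hp.hu, map_one]
  by_cases hg : AlgM p ξ g
  · have hgL : IsAlgebraic σ.range (ρ g) := by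
      have := (algM_iff p ξ g ρ hρ hξ).mp hg
      rwa [hσρ'] at this
    have huL : IsAlgebraic σ.range (ρN u) := by
      have h1 : ρN u = (ρ g)⁻¹ := eq_inv_of_mul_eq_one_right hgu
      rw [h1]
      exact hgL.inv
    exact isAlgebraic_of_integralElem σ _ (isAlgebraic_eval₂ σ _ huL) _ hhint
  · let A₀ := Subalgebra.algebraicClosure σ.range K
    have key : ρN h ∈ (⨅ V : {V : ValuationSubring K // (A₀ : Set K) ⊆ V.toSubring},
        V.1.toSubring) := by
      rw [Subring.mem_iInf]
      rintro ⟨V, hV⟩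
      change ρN h ∈ V
      rw [← V.valuation_le_one_iff]
      have hσ1 : ∀ s, V.valuation (σ s) ≤ 1 := fun s => by
        rw [V.valuation_le_one_iff]
        exact hV (A₀.algebraMap_mem ⟨σ s, ⟨_, rfl⟩⟩)
      have hσ2 : ∀ s, σ s ≠ 0 → V.valuation (σ s) = 1 := fun s hs => by
        refine le_antisymm (hσ1 s) ?_
        have h1 : V.valuation (σ s)⁻¹ ≤ 1 := by
          rw [V.valuation_le_one_iff]
          refine hV ?_
          have : IsAlgebraic σ.range (σ s) := isAlgebraic_algebraMap (⟨σ s, ⟨_, rfl⟩⟩ : σ.range)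
          exact this.inv
        rw [map_inv₀] at h1
        exact (inv_le_one₀ (zero_lt_iff.mpr ((Valuation.ne_zero_iff _).mpr hs))).mp h1
      by_cases hu : V.valuation (ρN u) ≤ 1
      · exact val_le_one_of_integral V _ (val_le_one_eval₂ V σ hσ1 _ hu) _ hhint
      · have hvg : V.valuation (ρ g) < 1 := by
          have h1 : V.valuation (ρ g) * V.valuation (ρN u) = 1 := by
            rw [← map_mul, hgu, map_one]
          by_contra hge
          have h2 : 1 ≤ V.valuation (ρ g) := not_lt.mp hge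
          have h3 : V.valuation (ρN u) ≤ V.valuation (ρ g) * V.valuation (ρN u) :=
            le_mul_of_one_le_left' h2
          rw [h1] at h3
          exact hu h3
        have hcompg : ρ.comp (aeval g : S[X] →ₐ[S] B).toRingHom = eval₂RingHom σ (ρ g) := by
          apply Polynomial.ringHom_ext
          · intro a
            simp only [RingHom.comp_apply, coe_eval₂RingHom, eval₂_C]
            change ρ (aeval g (C a)) = _
            rw [aeval_C, hσρ]
          · simp only [RingHom.comp_apply, coe_eval₂RingHom, eval₂_X]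
            change ρ (aeval g X) = _
            rw [aeval_X]
        have hB : ∀ b, V.valuation (ρ b) ≤ 1 := by
          intro b
          refine val_le_one_of_integral V _ (val_le_one_eval₂ V σ hσ1 _ hvg.le) _ ?_
          obtain ⟨P, hP, h0⟩ := sep.fin.to_isIntegral b
          refine ⟨P, hP, ?_⟩
          rw [← hcompg, ← Polynomial.hom_eval₂, h0, map_zero]
        obtain ⟨n, hnp, hn⟩ := exists_centre V ρ hB
        have hξn : ξ ≤ n := fun x hx => by
          rw [hn]
          have : ρ x = 0 := by rw [← RingHom.mem_ker, hρ]; exact hx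
          rw [this, map_zero]; exact zero_lt_one
        have hnS : n.comap (algebraMap S B) = p := by
          ext s
          rw [Ideal.mem_comap, hn, ← hσρ, ← hσ0]
          constructor
          · intro h1
            by_contra h2
            exact h1.ne (hσ2 s h2)
          · intro h1; rw [h1, map_zero]; exact zero_lt_one
        have hε' := sep.bad ξ n ‹_› hnp hξn hξ hg hnS ((hn g).mpr hvg) hnle
        rw [hn, not_lt] at hε'
        obtain ⟨k, b, hkb⟩ := hp.eps'
        have h1 := congrArg (fun x => V.valuation (ρN x)) hkb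
        simp only [map_pow, map_mul] at h1
        have h2 : V.valuation (ρN (algebraMap B N ε')) = 1 := le_antisymm (hB ε') hε'
        rw [h2, one_pow, one_mul] at h1
        rw [h1]
        exact hB b
    rw [iInf_valuationSubring_superset] at key
    have h1 : IsIntegral (Subring.closure (A₀ : Set K)) (ρN h) := key
    have h2 : Subring.closure (A₀ : Set K) = A₀.toSubring :=
      Subring.closure_eq A₀.toSubring
    refine isAlgebraic_of_integralElem σ (Subring.closure (A₀ : Set K)).subtype ?_ _ h1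
    rintro ⟨r, hr⟩
    rw [h2] at hr
    exact hr

/-- generic primes of `A ⊂ N` come from good components -/
lemma exists_over_of_not_algM (p : Ideal S) [p.IsPrime] (n₀ : Ideal B)
    (g ε ε' : B) (hε : ε + ε' = 1) (sep : Sep p n₀ g ε ε') [IsLocalization.Away g N]
    (u h : N) (hp : HProp (S := S) g ε ε' u h)
    (A : Subalgebra S N) (hA : h ∈ A) (Q : Ideal A) [Q.IsPrime]
    (hQ : Q.comap (algebraMap S A) = p) (hQh : ¬ AlgM p Q (⟨h, hA⟩ : A)) :
    ∃ η : Ideal N, η.IsPrime ∧ η.comap (algebraMap A N) = Q ∧ η.comap (algebraMap B N) ≤ n₀ := by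
  obtain ⟨q₀, hq₀, hq₀Q⟩ := Ideal.exists_minimalPrimes_le (bot_le : (⊥ : Ideal A) ≤ Q)
  have hinj : Function.Injective (algebraMap A N) := Subtype.val_injective
  obtain ⟨𝔭, h𝔭, h𝔭q⟩ := Ideal.exists_comap_eq_of_mem_minimalPrimes_of_injective hinj q₀ hq₀
  let K := 𝔭.ResidueField
  let ρN : N →+* K := algebraMap N K
  have hρN : RingHom.ker ρN = 𝔭 := Ideal.ker_algebraMap_residueField 𝔭
  let ρA : A →+* K := ρN.comp (algebraMap A N)
  have hρA : RingHom.ker ρA ≤ Q := by rw [← RingHom.comap_ker, hρN, h𝔭q]; exact hq₀Q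
  obtain ⟨V, hV1, hV2⟩ := exists_val ρA Q hρA
  let ρV : A →+* V := ρA.codRestrict V.toSubring fun a => (V.valuation_le_one_iff _).mp (hV1 a)
  let σ : S →+* V := ρV.comp (algebraMap S A)
  let ρ : B →+* K := ρN.comp (algebraMap B N)
  have hσK : V.subtype.comp σ = ρN.comp (algebraMap S N) := by ext s; rfl
  have hσB : V.subtype.comp σ = ρ.comp (algebraMap S B) := by
    ext s
    rw [hσK]
    simp only [ρ, RingHom.comp_apply, ← IsScalarTower.algebraMap_apply]
  let resA : A →+* IsLocalRing.ResidueField V := (IsLocalRing.residue V).comp ρV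
  have hresA : RingHom.ker resA = Q := by
    ext a
    rw [RingHom.mem_ker, RingHom.comp_apply, IsLocalRing.residue_eq_zero_iff,
      V.valuation_lt_one_iff]
    exact hV2 a
  have hnot : ¬ IsAlgebraic ((IsLocalRing.residue V).comp σ).range
      (IsLocalRing.residue V (ρV ⟨h, hA⟩)) := fun H =>
    hQh ((algM_iff p Q (⟨h, hA⟩ : A) resA hresA hQ).mpr H)
  have hvh : V.valuation (ρN h) ≤ 1 := hV1 ⟨h, hA⟩
  have hcompu : ρN.comp (aeval u : S[X] →ₐ[S] N).toRingHom =
      eval₂RingHom (V.subtype.comp σ) (ρN u) := by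
    apply Polynomial.ringHom_ext
    · intro a
      simp only [RingHom.comp_apply, coe_eval₂RingHom, eval₂_C]
      change ρN (aeval u (C a)) = _
      rw [aeval_C]; rfl
    · simp only [RingHom.comp_apply, coe_eval₂RingHom, eval₂_X]
      change ρN (aeval u X) = _
      rw [aeval_X]
  have hhint : (eval₂RingHom (V.subtype.comp σ) (ρN u)).IsIntegralElem (ρN h) := by
    obtain ⟨P, hP, h0⟩ := hp.int
    refine ⟨P, hP, ?_⟩
    rw [← hcompu, ← Polynomial.hom_eval₂, h0, map_zero]
  have hgu : ρ g * ρN u = 1 := by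
    change ρN (algebraMap B N g) * ρN u = 1
    rw [← map_mul, hp.hu, map_one]
  have hgu' : V.valuation (ρ g) * V.valuation (ρN u) = 1 := by
    rw [← map_mul, hgu, map_one]
  have hcompg : ρ.comp (aeval g : S[X] →ₐ[S] B).toRingHom =
      eval₂RingHom (V.subtype.comp σ) (ρ g) := by
    apply Polynomial.ringHom_ext
    · intro a
      simp only [RingHom.comp_apply, coe_eval₂RingHom, eval₂_C]
      change ρ (aeval g (C a)) = _
      rw [aeval_C]
      exact (congrArg (fun f : S →+* K => f a) hσB).symm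
    · simp only [RingHom.comp_apply, coe_eval₂RingHom, eval₂_X]
      change ρ (aeval g X) = _
      rw [aeval_X]
  have hσ1 : ∀ s, V.valuation ((V.subtype.comp σ) s) ≤ 1 := fun s => V.valuation_le_one _
  have hBint : ∀ b, (eval₂RingHom (V.subtype.comp σ) (ρ g)).IsIntegralElem (ρ b) := by
    intro b
    obtain ⟨P, hP, h0⟩ := sep.fin.to_isIntegral b
    refine ⟨P, hP, ?_⟩
    rw [← hcompg, ← Polynomial.hom_eval₂, h0, map_zero]
  by_cases hu : V.valuation (ρN u) < 1
  · exact absurd (res_alg V σ (ρN u) (ρN h) hu hhint (ρV ⟨h, hA⟩) rfl) hnot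
  have hg1 : V.valuation (ρ g) ≤ 1 := by
    by_contra hge
    have h2 : 1 < V.valuation (ρ g) := not_le.mp hge
    have h3 : V.valuation (ρN u) = (V.valuation (ρ g))⁻¹ := eq_inv_of_mul_eq_one_right hgu'
    rw [h3] at hu
    exact hu ((inv_lt_one₀ (zero_lt_one.trans h2)).mpr h2)
  have hB : ∀ b, V.valuation (ρ b) ≤ 1 := fun b =>
    val_le_one_of_integral V _ (val_le_one_eval₂ V _ hσ1 _ hg1) _ (hBint b)
  by_cases hg : V.valuation (ρ g) < 1
  · exfalso
    have hres : ∀ (b : B) (bV : V), (bV : K) = ρ b →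
        IsAlgebraic ((IsLocalRing.residue V).comp σ).range (IsLocalRing.residue V bV) :=
      fun b bV hb => res_alg V σ (ρ g) (ρ b) hg (hBint b) bV hb
    let eV : V := ⟨ρ ε', (V.valuation_le_one_iff _).mp (hB ε')⟩
    by_cases hε' : V.valuation (ρ ε') < 1
    · -- then `ε` is a unit
      obtain ⟨a, w, haw⟩ := hp.eps
      have h1 := congrArg (fun x => V.valuation (ρN x)) haw
      simp only [map_pow, map_mul, map_add] at h1
      have h3 : V.valuation (ρN (algebraMap B N g)) ^ a * V.valuation (ρN h) ≤ 1 :=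
        mul_le_one' (pow_le_one' hg.le a) hvh
      have h4 : V.valuation (ρN (algebraMap B N g) ^ a * ρN h + ρN (algebraMap B N w)) ≤ 1 := by
        refine (V.valuation.map_add _ _).trans (max_le ?_ (hB w))
        rw [map_mul, map_pow]; exact h3
      have h5 : V.valuation (ρN (algebraMap B N ε)) ^ (a + 1) < 1 := by
        rw [h1]
        calc _ ≤ V.valuation (ρN (algebraMap B N g)) * 1 := mul_le_mul' le_rfl h4
          _ < 1 := by rw [mul_one]; exact hg
      have h6 : V.valuation (ρ ε) < 1 :=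
        lt_of_not_ge fun hge => absurd h5 (not_lt.mpr (one_le_pow₀ hge))
      have h7 : V.valuation (ρ ε + ρ ε') < 1 := V.valuation.map_add_lt h6 hε'
      rw [← map_add, hε, map_one, map_one] at h7
      exact lt_irrefl _ h7
    · obtain ⟨k, b, hkb⟩ := hp.eps'
      let bV : V := ⟨ρ b, (V.valuation_le_one_iff _).mp (hB b)⟩
      have h1 : eV ^ k * ρV ⟨h, hA⟩ = bV := by
        apply Subtype.ext
        have h2 := congrArg ρN hkb
        rw [map_mul, map_pow] at h2
        exact h2
      have h3 := congrArg (IsLocalRing.residue V) h1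
      rw [map_mul, map_pow] at h3
      have he0 : IsLocalRing.residue V eV ≠ 0 := by
        rw [Ne, IsLocalRing.residue_eq_zero_iff, V.valuation_lt_one_iff]
        exact hε'
      have h4 : IsLocalRing.residue V (ρV ⟨h, hA⟩) =
          IsLocalRing.residue V bV * (IsLocalRing.residue V eV ^ k)⁻¹ := by
        rw [← h3, mul_comm, ← mul_assoc, inv_mul_cancel₀ (pow_ne_zero _ he0), one_mul]
      apply hnot
      rw [h4]
      exact (hres b bV rfl).mul ((hres ε' eV rfl).pow k).inv
  · -- `g` is a unit: the valuation ring has a centre on `N`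
    have hg2 : V.valuation (ρ g) = 1 := le_antisymm hg1 (not_lt.mp hg)
    have hu2 : V.valuation (ρN u) = 1 := by rw [hg2, one_mul] at hgu'; exact hgu'
    have hN : ∀ x, V.valuation (ρN x) ≤ 1 := by
      intro x
      obtain ⟨⟨b, ⟨_, n, rfl⟩⟩, hx⟩ := IsLocalization.surj (Submonoid.powers g) x
      have h1 := congrArg (fun x => V.valuation (ρN x)) hx
      simp only [map_pow, map_mul] at h1
      have h2 : V.valuation (ρN (algebraMap B N g)) = 1 := hg2
      rw [h2, one_pow, mul_one] at h1
      rw [h1]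
      exact hB b
    obtain ⟨η, hηp, hη⟩ := exists_centre V ρN hN
    have hηQ : η.comap (algebraMap A N) = Q := by
      ext a
      rw [Ideal.mem_comap, hη, ← hV2]
      rfl
    have hηS : η.comap (algebraMap S N) = p := by
      rw [← hQ, ← hηQ, Ideal.comap_comap, ← IsScalarTower.algebraMap_eq]
    refine ⟨η, hηp, hηQ, ?_⟩
    by_contra hnle
    obtain ⟨F, hF, h0⟩ := algM_of_not_le p n₀ g ε ε' sep u h hp η hηS hnle
    refine hQh ⟨F, hF, ?_⟩
    rw [← hηQ, Ideal.mem_comap]
    have : algebraMap A N (aeval (⟨h, hA⟩ : A) F) = aeval h F := by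
      rw [← aeval_algebraMap_apply]; rfl
    rw [this]
    exact h0

end Main

end K837.RC
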