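import Groth.Agent.MovLem.K837.RC1
import Mathlib.RingTheory.Etale.QuasiFinite

set_option autoImplicit false
set_option linter.style.haveILetI false
universe u v
open Polynomial

/-! Relative curves over a base: the final step (removing a finite part of the special fibre). -/

namespace K837.RC

section Poly

variable {S : Type*} [CommRing S]

lemma exists_lc_not_mem (p : Ideal S) (F : S[X]) (hF : F ∉ p.map (C : S →+* S[X])) :
    ∃ G : S[X], G.leadingCoeff ∉ p ∧ F - G ∈ p.map (C : S →+* S[X]) := by
  classical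
  have key : ∀ (n : ℕ) (F : S[X]), F.support.card = n → F ∉ p.map (C : S →+* S[X]) →
      ∃ G : S[X], G.leadingCoeff ∉ p ∧ F - G ∈ p.map (C : S →+* S[X]) := by
    intro n
    induction n with
    | zero =>
      intro F hF hF'
      rw [Finset.card_eq_zero, Polynomial.support_eq_empty] at hF
      exact absurd (hF ▸ (p.map (C : S →+* S[X])).zero_mem) hF'
    | succ n ih =>
      intro F hF hF'
      by_cases hl : F.leadingCoeff ∈ p
      · have h1 : monomial F.natDegree F.leadingCoeff ∈ p.map (C : S →+* S[X]) := by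
          rw [← C_mul_X_pow_eq_monomial]
          exact Ideal.mul_mem_right _ _ (Ideal.mem_map_of_mem _ hl)
        have h2 : F.eraseLead ∉ p.map (C : S →+* S[X]) := by
          intro h
          apply hF'
          rw [← F.eraseLead_add_monomial_natDegree_leadingCoeff]
          exact Ideal.add_mem _ h h1
        obtain ⟨G, hG, hGF⟩ := ih F.eraseLead (Polynomial.card_support_eraseLead' hF) h2
        refine ⟨G, hG, ?_⟩
        have : F - G = (F.eraseLead - G) + monomial F.natDegree F.leadingCoeff := by
          conv_lhs => rw [← F.eraseLead_add_monomial_natDegree_leadingCoeff]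
          ring
        rw [this]
        exact Ideal.add_mem _ hGF h1
      · exact ⟨F, hl, by rw [sub_self]; exact Ideal.zero_mem _⟩
  exact key _ F rfl hF

lemma integralElem_of_coeff_isUnit {R A : Type*} [CommRing R] [CommRing A] (f : R →+* A) (x : A)
    (Q : R[X]) (N : ℕ) (hN : Q.natDegree ≤ N) (hu : IsUnit (Q.coeff N))
    (h0 : Q.eval₂ f x = 0) : f.IsIntegralElem x := by
  rcases subsingleton_or_nontrivial R with hR | hR
  · refine ⟨1, monic_one, ?_⟩
    have : (1 : R[X]) = 0 := Subsingleton.elim _ _
    rw [this, eval₂_zero]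
  · have h1 : Q.natDegree = N := by
      refine le_antisymm hN (le_natDegree_of_ne_zero hu.ne_zero)
    have h2 : Q.leadingCoeff = Q.coeff N := by rw [leadingCoeff, h1]
    obtain ⟨w, hw⟩ := hu
    refine ⟨C (↑w⁻¹ : R) * Q, ?_, by rw [eval₂_mul, h0, mul_zero]⟩
    have h3 : IsUnit (C (↑w⁻¹ : R)) := (w⁻¹).isUnit.map C
    have h4 : (C (↑w⁻¹ : R) * Q).coeff N = 1 := by
      rw [coeff_C_mul, ← hw, Units.inv_mul]
    refine monic_of_natDegree_le_of_coeff_eq_one N ?_ h4
    refine natDegree_mul_le.trans ?_
    rw [natDegree_C, zero_add]; exact hN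

end Poly

section Final

variable {S : Type u} {A : Type v} [CommRing S] [CommRing A] [Algebra S A]

lemma aeval_mem_map (p : Ideal S) (h : A) (F : S[X]) (hF : F ∈ p.map (C : S →+* S[X])) :
    aeval h F ∈ p.map (algebraMap S A) := by
  have h1 : p.map (C : S →+* S[X]) ≤ (p.map (algebraMap S A)).comap
      (aeval h : S[X] →ₐ[S] A).toRingHom := by
    rw [Ideal.map_le_iff_le_comap]
    intro a ha
    change aeval h (C a) ∈ p.map (algebraMap S A)
    rw [aeval_C]
    exact Ideal.mem_map_of_mem _ ha
  exact h1 hF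

/-- the fibre of `V(e)` over `p` is finite: a polynomial in `h` lies in `(e, p)` -/
lemma exists_poly_mem (p : Ideal S) [p.IsPrime] (h e : A)
    (hfin : (aeval h : S[X] →ₐ[S] A).toRingHom.Finite)
    (hcomp : ∀ Q : Ideal A, Q.IsPrime → Q.comap (algebraMap S A) = p → ¬ AlgM p Q h → e ∉ Q) :
    ∃ G : S[X], G.leadingCoeff ∉ p ∧
      aeval h G ∈ Ideal.span {e} ⊔ p.map (algebraMap S A) := by
  letI algA : Algebra S[X] A := (aeval h : S[X] →ₐ[S] A).toRingHom.toAlgebra
  haveI : Module.Finite S[X] A := hfin
  haveI : Algebra.IsIntegral S[X] A := Algebra.IsIntegral.of_finite _ _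
  set J := Ideal.span {e} ⊔ p.map (algebraMap S A) with hJ
  obtain ⟨F, hF, hFJ⟩ : ∃ F : S[X], F ∉ p.map (C : S →+* S[X]) ∧ aeval h F ∈ J := by
    by_contra hcon
    push Not at hcon
    have h1 : J.comap (algebraMap S[X] A) ≤ p.map (C : S →+* S[X]) := by
      intro F hF
      by_contra hF'
      exact hcon F hF' hF
    obtain ⟨Q, hQ, hQp, hQc⟩ := Ideal.exists_ideal_over_prime_of_isIntegral
      (p.map (C : S →+* S[X])) J h1
    have h2 : Q.comap (algebraMap S A) = p := by
      ext s
      have h3 : (algebraMap S[X] A) (C s) = algebraMap S A s := aeval_C h s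
      rw [Ideal.mem_comap, ← h3, ← Ideal.mem_comap, hQc, Ideal.mem_map_C_iff]
      constructor
      · intro H
        have := H 0
        rwa [coeff_C_zero] at this
      · intro hs n
        rw [coeff_C]
        split_ifs
        · exact hs
        · exact p.zero_mem
    refine hcomp Q hQp h2 ?_ (hQ (Ideal.mem_sup_left (Ideal.mem_span_singleton_self e)))
    exact (comap_aeval_eq p Q h h2).mp hQc
  obtain ⟨G, hG, hGF⟩ := exists_lc_not_mem p F hF
  refine ⟨G, hG, ?_⟩
  have h1 : aeval h G = aeval h F - aeval h (F - G) := by rw [map_sub, sub_sub_cancel]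
  rw [h1]
  exact J.sub_mem hFJ (Ideal.mem_sup_right (aeval_mem_map p h _ hGF))

/-- the comaximality statement, after localizing at `p` -/
lemma exists_mem_span (p : Ideal S) [p.IsPrime] (h e : A)
    (hfin : (aeval h : S[X] →ₐ[S] A).toRingHom.Finite) (G P : S[X])
    (hG : aeval h G ∈ Ideal.span {e} ⊔ p.map (algebraMap S A))
    (v₀ : S) (hv₀ : v₀ ∉ p) (l : ℕ) (hP : P = X ^ l * G + C v₀) (hlc : P.leadingCoeff ∉ p) :
    ∃ v₂ ∉ p, algebraMap S A v₂ ∈ Ideal.span {aeval h P, e} := by
  classical
  set I : Ideal A := Ideal.span {aeval h P, e} with hI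
  by_contra hcon
  push Not at hcon
  let T := Algebra.algebraMapSubmonoid A p.primeCompl
  let AT := Localization T
  have hne : I.map (algebraMap A AT) ≠ ⊤ := by
    intro htop
    have h1 : (1 : AT) ∈ I.map (algebraMap A AT) := by rw [htop]; trivial
    rw [IsLocalization.mem_map_algebraMap_iff T] at h1
    obtain ⟨⟨x, t⟩, hx⟩ := h1
    rw [one_mul, IsLocalization.eq_iff_exists T] at hx
    obtain ⟨c, hc⟩ := hx
    obtain ⟨s, hs, hs'⟩ := t.2
    obtain ⟨s', hs₁, hs₁'⟩ := c.2
    refine hcon (s' * s) (p.primeCompl.mul_mem hs₁ hs) ?_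
    rw [map_mul, hs', hs₁']
    have : (c : A) * (t : A) = (c : A) * x := hc
    rw [this]
    exact I.mul_mem_left _ x.2
  obtain ⟨M, hM, hIM⟩ := Ideal.exists_le_maximal _ hne
  let L := AT ⧸ M
  letI : Field L := Ideal.Quotient.field M
  let π : A →+* L := (Ideal.Quotient.mk M).comp (algebraMap A AT)
  have hunit : ∀ y : p.primeCompl, IsUnit ((π.comp (algebraMap S A)) y) := fun y => by
    have h1 : IsUnit (algebraMap A AT (algebraMap S A y)) :=
      IsLocalization.map_units AT (⟨algebraMap S A y, ⟨y, y.2, rfl⟩⟩ : T)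
    exact h1.map (Ideal.Quotient.mk M)
  let f : Localization.AtPrime p →+* L := IsLocalization.lift hunit
  have hf : ∀ s, f (algebraMap S _ s) = π (algebraMap S A s) := fun s =>
    IsLocalization.lift_eq hunit s
  have hfc : f.comp (algebraMap S _) = π.comp (algebraMap S A) := RingHom.ext hf
  -- `h` is integral over `S_p`
  have hPI : π (aeval h P) = 0 := by
    change (Ideal.Quotient.mk M) (algebraMap A AT (aeval h P)) = 0
    rw [Ideal.Quotient.eq_zero_iff_mem]
    exact hIM (Ideal.mem_map_of_mem _ (Ideal.subset_span (by simp)))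
  have heI : π e = 0 := by
    change (Ideal.Quotient.mk M) (algebraMap A AT e) = 0
    rw [Ideal.Quotient.eq_zero_iff_mem]
    exact hIM (Ideal.mem_map_of_mem _ (Ideal.subset_span (by simp)))
  have hh : f.IsIntegralElem (π h) := by
    refine integralElem_of_coeff_isUnit f (π h) (P.map (algebraMap S _)) P.natDegree
      natDegree_map_le ?_ ?_
    · rw [coeff_map]
      exact IsLocalization.map_units (Localization.AtPrime p)
        (⟨P.leadingCoeff, hlc⟩ : p.primeCompl)
    · rw [eval₂_map, hfc, ← Polynomial.hom_eval₂, ← aeval_def]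
      exact hPI
  have hA : ∀ a, f.IsIntegralElem (π a) := by
    intro a
    letI algL : Algebra (Localization.AtPrime p) L := f.toAlgebra
    let I₀ := integralClosure (Localization.AtPrime p) L
    have h1 : ∀ F : S[X], π (aeval h F) ∈ I₀ := by
      intro F
      rw [aeval_def, Polynomial.hom_eval₂, eval₂_eq_sum_range]
      refine sum_mem fun i _ => mul_mem ?_ (pow_mem hh _)
      rw [← hfc]
      exact I₀.algebraMap_mem _
    have h2 : IsIntegral I₀ (π a) := by
      obtain ⟨Q, hQ, h0⟩ := hfin.to_isIntegral a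
      refine ⟨Q.map ((π.comp (aeval h : S[X] →ₐ[S] A).toRingHom).codRestrict I₀.toSubring h1),
        hQ.map _, ?_⟩
      rw [eval₂_map]
      have h3 : (algebraMap I₀ L).comp ((π.comp (aeval h : S[X] →ₐ[S] A).toRingHom).codRestrict
          I₀.toSubring h1) = π.comp (aeval h : S[X] →ₐ[S] A).toRingHom := by ext <;> rfl
      rw [h3, ← Polynomial.hom_eval₂, h0, map_zero]
    haveI : Algebra.IsIntegral (Localization.AtPrime p) I₀ := inferInstance
    exact isIntegral_trans (R := Localization.AtPrime p) (π a) h2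
  have hfint : f.IsIntegral := by
    intro y
    obtain ⟨z, rfl⟩ := Ideal.Quotient.mk_surjective y
    obtain ⟨⟨a, ⟨_, s, hs, rfl⟩⟩, hz⟩ := IsLocalization.surj T z
    have h1 : (Ideal.Quotient.mk M) z * π (algebraMap S A s) = π a := by
      have := congrArg (Ideal.Quotient.mk M) hz
      rw [map_mul] at this
      exact this
    have hu := IsLocalization.map_units (Localization.AtPrime p) (⟨s, hs⟩ : p.primeCompl)
    obtain ⟨w, hw⟩ := hu
    have h2 : (Ideal.Quotient.mk M) z = π a * f (↑w⁻¹) := by
      rw [← h1, ← hf, ← hw, mul_assoc, ← map_mul, Units.mul_inv, map_one, mul_one]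
    rw [h2]
    exact RingHom.IsIntegralElem.mul f (hA a) f.isIntegralElem_map
  have hmax : ((⊥ : Ideal L).comap f).IsMaximal :=
    Ideal.isMaximal_comap_of_isIntegral_of_isMaximal' f hfint ⊥
  have hker : (⊥ : Ideal L).comap f = IsLocalRing.maximalIdeal (Localization.AtPrime p) :=
    IsLocalRing.eq_maximalIdeal hmax
  have hp0 : ∀ s, π (algebraMap S A s) = 0 ↔ s ∈ p := by
    intro s
    rw [← hf, ← Ideal.mem_bot, ← Ideal.mem_comap, hker,
      IsLocalization.AtPrime.to_map_mem_maximal_iff (Localization.AtPrime p) p s]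
  have hJ : Ideal.span {e} ⊔ p.map (algebraMap S A) ≤ RingHom.ker π := by
    refine sup_le ?_ ?_
    · rw [Ideal.span_le, Set.singleton_subset_iff]; exact heI
    · rw [Ideal.map_le_iff_le_comap]
      intro s hs
      exact (hp0 s).mpr hs
  have hG0 : π (aeval h G) = 0 := hJ hG
  apply hv₀
  rw [← hp0, ← hPI, hP]
  simp only [map_add, map_mul, map_pow, aeval_X, aeval_C, hG0, mul_zero, zero_add]

/-- the polynomial identity making `h` integral over `S'[h']` -/
lemma integral_of_quot {S' C' : Type*} [CommRing S'] [CommRing C'] [Algebra S S']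
    [Algebra S' C'] [Algebra A C'] [Algebra S C'] [IsScalarTower S S' C'] [IsScalarTower S A C']
    (h e : A) (E : S[X][X]) (hE : E.Monic)
    (hE0 : eval₂ (aeval h : S[X] →ₐ[S] A).toRingHom e E = 0) (P : S[X])
    (hD : ∀ i, (E.coeff i).natDegree < P.natDegree) (hu : IsUnit (algebraMap S S' P.leadingCoeff))
    (e' : C') (he' : algebraMap A C' e * e' = 1) :
    (aeval (algebraMap A C' (aeval h P) * e') : S'[X] →ₐ[S'] C').toRingHom.IsIntegralElem
      (algebraMap A C' h) := by
  set r := E.natDegree with hr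
  set b := P.natDegree with hb
  set h' : C' := algebraMap A C' (aeval h P) * e' with hh'
  let ψ : S'[X] →+* C' := (aeval h' : S'[X] →ₐ[S'] C').toRingHom
  let ι : S →+* S'[X] := C.comp (algebraMap S S')
  have hψι : ψ.comp ι = (algebraMap A C').comp (algebraMap S A) := by
    ext s
    change aeval h' (C (algebraMap S S' s)) = _
    rw [aeval_C, ← IsScalarTower.algebraMap_apply, RingHom.comp_apply,
      ← IsScalarTower.algebraMap_apply]
  have hψX : ψ X = h' := aeval_X h'
  -- evaluation at `h` of a polynomial mapped by `ι`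
  have hev : ∀ F : S[X], eval₂ ψ (algebraMap A C' h) (F.map ι) = algebraMap A C' (aeval h F) := by
    intro F
    rw [eval₂_map, hψι, ← Polynomial.hom_eval₂, aeval_def]
  let Φ : S'[X][X] := ∑ i ∈ Finset.range (r + 1),
    ((E.coeff i).map ι * (P.map ι) ^ i) * C (X ^ (r - i))
  have hterm : ∀ i, i < r → (((E.coeff i).map ι * (P.map ι) ^ i) *
      C (X ^ (r - i) : S'[X])).natDegree < r * b := by
    intro i hi
    refine lt_of_le_of_lt natDegree_mul_le ?_
    rw [natDegree_C, add_zero]
    refine lt_of_le_of_lt natDegree_mul_le ?_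
    have h1 : ((E.coeff i).map ι).natDegree < b := lt_of_le_of_lt natDegree_map_le (hD i)
    have h2 : ((P.map ι) ^ i).natDegree ≤ i * b :=
      natDegree_pow_le.trans (Nat.mul_le_mul le_rfl natDegree_map_le)
    calc _ < b + i * b := Nat.add_lt_add_of_lt_of_le h1 h2
      _ = (i + 1) * b := by ring
      _ ≤ r * b := Nat.mul_le_mul hi le_rfl
  have hΦ : Φ = (∑ i ∈ Finset.range r, ((E.coeff i).map ι * (P.map ι) ^ i) *
      C (X ^ (r - i) : S'[X])) + (P.map ι) ^ r := by
    simp only [Φ]
    rw [Finset.sum_range_succ]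
    congr 1
    have : E.coeff r = 1 := hE
    rw [this, Polynomial.map_one, one_mul, Nat.sub_self, pow_zero, map_one, mul_one]
  have hsum : ∀ s : Finset ℕ, (∀ i ∈ s, i < r) → 0 < r * b ∨ s = ∅ →
      (∑ i ∈ s, ((E.coeff i).map ι * (P.map ι) ^ i) * C (X ^ (r - i) : S'[X])).coeff (r * b) = 0
      := by
    intro s hs _
    rw [finsetSum_coeff]
    refine Finset.sum_eq_zero fun i hi => ?_
    exact coeff_eq_zero_of_natDegree_lt (hterm i (hs i hi))
  refine integralElem_of_coeff_isUnit ψ _ Φ (r * b) ?_ ?_ ?_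
  · rw [hΦ]
    refine (natDegree_add_le _ _).trans (max_le ?_ ?_)
    · refine natDegree_sum_le_of_forall_le _ _ fun i hi => ?_
      exact (hterm i (Finset.mem_range.mp hi)).le
    · exact natDegree_pow_le.trans (Nat.mul_le_mul le_rfl natDegree_map_le)
  · rw [hΦ, coeff_add, hsum _ (fun i hi => Finset.mem_range.mp hi) (by
      rcases Nat.eq_zero_or_pos r with hr0 | hr0
      · right; rw [hr0]; rfl
      · left; exact Nat.mul_pos hr0 (lt_of_le_of_lt (Nat.zero_le _) (hD 0))), zero_add,
      ← Polynomial.map_pow, coeff_map, hb, Polynomial.coeff_pow_mul_natDegree, map_pow]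
    exact (hu.map (C : S' →+* S'[X])).pow r
  · -- evaluate
    have h1 : ∀ i ∈ Finset.range (r + 1), eval₂ ψ (algebraMap A C' h)
        (((E.coeff i).map ι * (P.map ι) ^ i) * C (X ^ (r - i))) =
        algebraMap A C' (aeval h P) ^ r * e' ^ r * algebraMap A C' (aeval h (E.coeff i) * e ^ i)
        := by
      intro i hi
      have hir : i ≤ r := Nat.lt_succ_iff.mp (Finset.mem_range.mp hi)
      rw [eval₂_mul, eval₂_mul, eval₂_pow, hev, hev, eval₂_C, map_pow, hψX, hh', mul_pow,
        map_mul, map_pow]
      obtain ⟨j, hj⟩ := Nat.exists_eq_add_of_le hir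
      have h2 : r - i = j := by omega
      rw [h2, hj, pow_add, pow_add]
      have h3 : algebraMap A C' e ^ i * e' ^ i = 1 := by rw [← mul_pow, he', one_pow]
      calc algebraMap A C' (aeval h (E.coeff i)) * algebraMap A C' (aeval h P) ^ i *
            (algebraMap A C' (aeval h P) ^ j * e' ^ j)
          = algebraMap A C' (aeval h (E.coeff i)) * algebraMap A C' (aeval h P) ^ i *
            (algebraMap A C' (aeval h P) ^ j * e' ^ j) *
              (algebraMap A C' e ^ i * e' ^ i) := by rw [h3, mul_one]
        _ = _ := by ring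
    simp only [Φ]
    rw [eval₂_finsetSum, Finset.sum_congr rfl h1, ← Finset.mul_sum, ← map_sum]
    have h2 : ∑ i ∈ Finset.range (r + 1), aeval h (E.coeff i) * e ^ i = 0 := by
      rw [← hE0, eval₂_eq_sum_range]
      rfl
    rw [h2, map_zero, mul_zero]

/-- the final step -/
theorem final_step {S' C' : Type*} [CommRing S'] [CommRing C'] [Algebra S S']
    [Algebra S' C'] [Algebra A C'] [Algebra S C'] [IsScalarTower S S' C'] [IsScalarTower S A C']
    (h e : A) (hfin : (aeval h : S[X] →ₐ[S] A).toRingHom.Finite) (P : S[X])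
    (v₂ v : S) (hv₂ : algebraMap S A v₂ ∈ Ideal.span {aeval h P, e})
    (hv₂v : v₂ ∣ v) (hv : IsUnit (algebraMap S S' v))
    [IsLocalization.Away (e * algebraMap S A v) C']
    (e' : C') (he' : algebraMap A C' e * e' = 1)
    (hint : (aeval (algebraMap A C' (aeval h P) * e') :
      S'[X] →ₐ[S'] C').toRingHom.IsIntegralElem (algebraMap A C' h)) :
    (aeval (algebraMap A C' (aeval h P) * e') : S'[X] →ₐ[S'] C').toRingHom.Finite := by
  set h' : C' := algebraMap A C' (aeval h P) * e' with hh'
  letI algh' : Algebra S'[X] C' := (aeval h' : S'[X] →ₐ[S'] C').toRingHom.toAlgebra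
  haveI : IsScalarTower S' S'[X] C' := IsScalarTower.of_algebraMap_eq fun x => by
    change _ = aeval h' (C x)
    rw [aeval_C]
  let I₀ : Subalgebra S'[X] C' := integralClosure S'[X] C'
  have hS' : ∀ s : S', algebraMap S' C' s ∈ I₀ := fun s => by
    rw [IsScalarTower.algebraMap_apply S' S'[X] C']; exact I₀.algebraMap_mem _
  have hS : ∀ s : S, algebraMap S C' s ∈ I₀ := fun s => by
    rw [IsScalarTower.algebraMap_apply S S' C']; exact hS' _
  have hh : algebraMap A C' h ∈ I₀ := hint
  have hF : ∀ F : S[X], algebraMap A C' (aeval h F) ∈ I₀ := by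
    intro F
    rw [aeval_def, Polynomial.hom_eval₂, eval₂_eq_sum_range]
    refine sum_mem fun i _ => mul_mem ?_ (pow_mem hh _)
    rw [RingHom.comp_apply, ← IsScalarTower.algebraMap_apply]
    exact hS _
  have hA : ∀ a : A, algebraMap A C' a ∈ I₀ := by
    intro a
    have h2 : IsIntegral I₀ (algebraMap A C' a) := by
      obtain ⟨Q, hQ, h0⟩ := hfin.to_isIntegral a
      refine ⟨Q.map (((algebraMap A C').comp (aeval h : S[X] →ₐ[S] A).toRingHom).codRestrict
        I₀.toSubring hF), hQ.map _, ?_⟩
      rw [eval₂_map]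
      have h3 : (algebraMap I₀ C').comp (((algebraMap A C').comp
          (aeval h : S[X] →ₐ[S] A).toRingHom).codRestrict I₀.toSubring hF) =
          (algebraMap A C').comp (aeval h : S[X] →ₐ[S] A).toRingHom := by ext <;> rfl
      rw [h3, ← Polynomial.hom_eval₂, h0, map_zero]
    exact isIntegral_trans (R := S'[X]) _ h2
  have hv₂S' : IsUnit (algebraMap S S' v₂) := isUnit_of_dvd_unit (map_dvd _ hv₂v) hv
  have he'I : e' ∈ I₀ := by
    obtain ⟨α, β, hαβ⟩ := Ideal.mem_span_pair.mp hv₂
    obtain ⟨w, hw⟩ := hv₂S'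
    have h1 : algebraMap S C' v₂ * e' = algebraMap A C' α * h' + algebraMap A C' β := by
      calc algebraMap S C' v₂ * e' = algebraMap A C' (algebraMap S A v₂) * e' := by
            rw [← IsScalarTower.algebraMap_apply]
        _ = algebraMap A C' α * h' + algebraMap A C' β * (algebraMap A C' e * e') := by
            rw [← hαβ, map_add, map_mul, map_mul, hh']; ring
        _ = _ := by rw [he', mul_one]
    have h2 : e' = algebraMap S' C' (↑w⁻¹) * (algebraMap A C' α * h' + algebraMap A C' β) := by
      rw [← h1, IsScalarTower.algebraMap_apply S S' C', ← hw, ← mul_assoc, ← map_mul,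
        Units.inv_mul, map_one, one_mul]
    rw [h2]
    have h3 : h' ∈ I₀ := by
      have : h' = algebraMap S'[X] C' X := (aeval_X h').symm
      rw [this]; exact I₀.algebraMap_mem _
    exact mul_mem (hS' _) (add_mem (mul_mem (hA _) h3) (hA _))
  have hint' : (aeval h' : S'[X] →ₐ[S'] C').toRingHom.IsIntegral := by
    intro y
    obtain ⟨⟨a, ⟨_, n, rfl⟩⟩, hy⟩ := IsLocalization.surj (Submonoid.powers
      (e * algebraMap S A v)) y
    obtain ⟨w, hw⟩ := hv
    have hvw : algebraMap S C' v * algebraMap S' C' (↑w⁻¹) = 1 := by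
      rw [IsScalarTower.algebraMap_apply S S' C', ← hw, ← map_mul, Units.mul_inv, map_one]
    have h1 : y * (algebraMap A C' e * algebraMap S C' v) ^ n = algebraMap A C' a := by
      rw [← hy, map_pow, map_mul, ← IsScalarTower.algebraMap_apply S A C']
    have h2 : y = algebraMap A C' a * (e' * algebraMap S' C' (↑w⁻¹)) ^ n := by
      rw [← h1, mul_assoc, ← mul_pow]
      have : algebraMap A C' e * algebraMap S C' v * (e' * algebraMap S' C' (↑w⁻¹)) = 1 := by
        calc _ = (algebraMap A C' e * e') * (algebraMap S C' v * algebraMap S' C' (↑w⁻¹)) := by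
              ring
          _ = 1 := by rw [he', hvw, mul_one]
      rw [this, one_pow, mul_one]
    have h3 : y ∈ I₀ := by
      rw [h2]
      exact mul_mem (hA _) (pow_mem (mul_mem he'I (hS' _)) _)
    exact h3
  refine hint'.to_finite ?_
  -- finite type
  letI algh : Algebra S[X] A := (aeval h : S[X] →ₐ[S] A).toRingHom.toAlgebra
  haveI : IsScalarTower S S[X] A := IsScalarTower.of_algebraMap_eq fun x => by
    change _ = aeval h (C x)
    rw [aeval_C]
  haveI : Module.Finite S[X] A := hfin
  haveI : Algebra.FiniteType S A := Algebra.FiniteType.trans (S := S[X]) inferInstance inferInstance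
  haveI : Algebra.FinitePresentation A C' :=
    IsLocalization.Away.finitePresentation (e * algebraMap S A v)
  haveI : Algebra.FiniteType A C' := inferInstance
  haveI : Algebra.FiniteType S C' := Algebra.FiniteType.trans (S := A) inferInstance inferInstance
  haveI : Algebra.FiniteType S' C' := Algebra.FiniteType.of_restrictScalars_finiteType S S' C'
  have : Algebra.FiniteType S'[X] C' :=
    Algebra.FiniteType.of_restrictScalars_finiteType S' S'[X] C'
  exact this

end Final

end K837.RC
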