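import Groth.Agent.MovLem.K837.RC2

set_option autoImplicit false
set_option linter.style.haveILetI false
universe u v
open Polynomial

/-! Relative curves over a base: the core theorem. -/

namespace K837.RC

/-- a point of a finite type algebra which is both minimal and maximal in its fibre is
quasi-finite -/
lemma quasiFiniteAt_of_isolated {R S : Type*} [CommRing R] [CommRing S] [Algebra R S]
    [Algebra.FiniteType R S] (q : Ideal S) [hq : q.IsPrime]
    (h : ∀ q' : Ideal S, q'.IsPrime → q'.comap (algebraMap R S) = q.comap (algebraMap R S) →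
      (q' ≤ q ∨ q ≤ q') → q' = q) : Algebra.QuasiFiniteAt R q := by
  let x : PrimeSpectrum S := ⟨q, hq⟩
  let p := x.comap (algebraMap R S)
  let e := PrimeSpectrum.preimageHomeomorphFiber R S p
  let eo := PrimeSpectrum.preimageOrderIsoFiber R S p
  have hee : ∀ y, e y = eo y := fun y => rfl
  refine Algebra.QuasiFiniteAt.of_isOpen_singleton_fiber x ?_
  change IsOpen {(⟨x, rfl⟩ : PrimeSpectrum.comap (algebraMap R S) ⁻¹' {p})}
  rw [← e.isOpen_image, Set.image_singleton]
  haveI : IsNoetherianRing (p.asIdeal.Fiber S) :=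
    Algebra.FiniteType.isNoetherianRing p.asIdeal.ResidueField _
  haveI : IsJacobsonRing (p.asIdeal.Fiber S) :=
    isJacobsonRing_of_finiteType (A := p.asIdeal.ResidueField)
  rw [(PrimeSpectrum.isOpen_singleton_tfae_of_isNoetherian_of_isJacobsonRing _).out 0 2 rfl rfl,
    PrimeSpectrum.isClosed_singleton_iff_isMaximal, ← PrimeSpectrum.isMax_iff,
    PrimeSpectrum.stableUnderGeneralization_singleton, ← PrimeSpectrum.isMin_iff]
  have key : ∀ y : PrimeSpectrum.comap (algebraMap R S) ⁻¹' {p}, (y ≤ ⟨x, rfl⟩ ∨ ⟨x, rfl⟩ ≤ y) →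
      y = ⟨x, rfl⟩ := by
    intro y hy
    apply Subtype.ext
    apply PrimeSpectrum.ext
    refine h y.1.asIdeal y.1.2 ?_ hy
    have h1 : PrimeSpectrum.comap (algebraMap R S) y.1 = p := y.2
    exact congrArg PrimeSpectrum.asIdeal h1
  constructor
  · rw [hee, OrderIso.isMax_apply]
    intro y hy
    exact (key y (Or.inr hy)).le
  · rw [hee, OrderIso.isMin_apply]
    intro y hy
    exact (key y (Or.inl hy)).ge

section Main

variable {S B N : Type*} [CommRing S] [CommRing B] [CommRing N] [Algebra S B] [Algebra S N]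
  [Algebra B N] [IsScalarTower S B N]

/-- if `g` is algebraic modulo `η`, so is `h` -/
lemma algM_h_of_algM_g (p : Ideal S) [p.IsPrime]
    (g ε ε' : B) (u h : N) (hp : HProp (S := S) g ε ε' u h)
    (η : Ideal N) [η.IsPrime] (hη : η.comap (algebraMap S N) = p)
    (hg : AlgM p (η.comap (algebraMap B N)) g) : AlgM p η h := by
  set ξ := η.comap (algebraMap B N) with hξdef
  have hξ : ξ.comap (algebraMap S B) = p := by
    rw [hξdef, Ideal.comap_comap, ← IsScalarTower.algebraMap_eq, hη]
  let K := η.ResidueField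
  let ρN : N →+* K := algebraMap N K
  have hρN : RingHom.ker ρN = η := Ideal.ker_algebraMap_residueField η
  let ρ : B →+* K := ρN.comp (algebraMap B N)
  have hρ : RingHom.ker ρ = ξ := by rw [← RingHom.comap_ker, hρN]
  let σ : S →+* K := ρN.comp (algebraMap S N)
  have hσρ' : ρ.comp (algebraMap S B) = σ := by
    ext s; simp only [σ, ρ, RingHom.comp_apply, ← IsScalarTower.algebraMap_apply]
  rw [algM_iff p η h ρN hρN hη]
  change IsAlgebraic σ.range (ρN h)
  have hcompu : ρN.comp (aeval u : S[X] →ₐ[S] N).toRingHom = eval₂RingHom σ (ρN u) := by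
    apply Polynomial.ringHom_ext
    · intro a
      simp only [RingHom.comp_apply, coe_eval₂RingHom, eval₂_C]
      change ρN (aeval u (C a)) = _
      rw [aeval_C]; rfl
    · simp only [RingHom.comp_apply, coe_eval₂RingHom, eval₂_X]
      change ρN (aeval u X) = _
      rw [aeval_X]
  have hhint : (eval₂RingHom σ (ρN u)).IsIntegralElem (ρN h) := by
    obtain ⟨P, hP, h0⟩ := hp.int
    refine ⟨P, hP, ?_⟩
    rw [← hcompu, ← Polynomial.hom_eval₂, h0, map_zero]
  have hgu : ρ g * ρN u = 1 := by
    change ρN (algebraMap B N g) * ρN u = 1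
    rw [← map_mul, hp.hu, map_one]
  have hgL : IsAlgebraic σ.range (ρ g) := by
    have := (algM_iff p ξ g ρ hρ hξ).mp hg
    rwa [hσρ'] at this
  have huL : IsAlgebraic σ.range (ρN u) := by
    have h1 : ρN u = (ρ g)⁻¹ := eq_inv_of_mul_eq_one_right hgu
    rw [h1]
    exact hgL.inv
  exact isAlgebraic_of_integralElem σ _ (isAlgebraic_eval₂ σ _ huL) _ hhint

lemma comap_injective_of_away (g : B) [IsLocalization.Away g N] (η η' : Ideal N) [η.IsPrime]
    [η'.IsPrime] (h : η.comap (algebraMap B N) = η'.comap (algebraMap B N)) : η = η' := by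
  have := PrimeSpectrum.localization_comap_injective N (Submonoid.powers g)
    (a₁ := ⟨η, ‹_›⟩) (a₂ := ⟨η', ‹_›⟩) (PrimeSpectrum.ext h)
  exact congrArg PrimeSpectrum.asIdeal this

lemma le_of_comap_le (g : B) [IsLocalization.Away g N] (η η' : Ideal N)
    (h : η.comap (algebraMap B N) ≤ η'.comap (algebraMap B N)) : η ≤ η' := by
  intro x hx
  obtain ⟨⟨b, s⟩, hb⟩ := IsLocalization.surj (Submonoid.powers g) x
  have h1 : algebraMap B N b ∈ η := by rw [← hb]; exact η.mul_mem_right _ hx
  have h2 : algebraMap B N b ∈ η' := h h1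
  rw [← hb] at h2
  obtain ⟨w, hw⟩ := IsLocalization.map_units N s
  have h3 := η'.mul_mem_right (↑w⁻¹ : N) h2
  rwa [mul_assoc, ← hw, Units.mul_inv, mul_one] at h3

/-- `S[h] → N` is quasi-finite at the chosen point -/
lemma quasiFiniteAt_h [Algebra.FiniteType S N] (p : Ideal S) [p.IsPrime] (n₀ : Ideal B)
    [n₀.IsPrime] (hn₀ : n₀.comap (algebraMap S B) = p)
    (g ε ε' : B) (sep : Sep p n₀ g ε ε') [IsLocalization.Away g N]
    (u h : N) (hp : HProp (S := S) g ε ε' u h) (halg : AlgM p n₀ g)
    (m : Ideal N) [m.IsPrime] (hm : m.comap (algebraMap B N) = n₀) :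
    letI : Algebra S[X] N := (aeval h : S[X] →ₐ[S] N).toRingHom.toAlgebra
    Algebra.QuasiFiniteAt S[X] m := by
  letI algh : Algebra S[X] N := (aeval h : S[X] →ₐ[S] N).toRingHom.toAlgebra
  haveI : IsScalarTower S S[X] N := IsScalarTower.of_algebraMap_eq fun x => by
    change _ = aeval h (C x)
    rw [aeval_C]
  haveI : Algebra.FiniteType S[X] N :=
    Algebra.FiniteType.of_restrictScalars_finiteType S S[X] N
  have hmS : m.comap (algebraMap S N) = p := by
    rw [IsScalarTower.algebraMap_eq S B N, ← Ideal.comap_comap, hm, hn₀]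
  refine quasiFiniteAt_of_isolated m fun q' hq' hcom hle => ?_
  have hq'S : q'.comap (algebraMap S N) = p := by
    rw [IsScalarTower.algebraMap_eq S S[X] N, ← Ideal.comap_comap, hcom, Ideal.comap_comap,
      ← IsScalarTower.algebraMap_eq, hmS]
  have hq'B : (q'.comap (algebraMap B N)).comap (algebraMap S B) = p := by
    rw [Ideal.comap_comap, ← IsScalarTower.algebraMap_eq, hq'S]
  haveI : (q'.comap (algebraMap B N)).IsPrime := Ideal.comap_isPrime _ _
  rcases hle with hle | hle
  · by_contra hne
    have hlt : q'.comap (algebraMap B N) < n₀ := by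
      refine lt_of_le_of_ne ?_ ?_
      · rw [← hm]; exact Ideal.comap_mono hle
      · intro heq
        exact hne (comap_injective_of_away g q' m (heq.trans hm.symm))
    have h1 := not_algM_of_lt p n₀ hn₀ g ε ε' sep u h hp q' hq'S hlt
    obtain ⟨F, hF, h0⟩ := algM_h_of_algM_g p g ε ε' u h hp m hmS (by rw [hm]; exact halg)
    refine h1 ⟨F, hF, ?_⟩
    have h2 : F ∈ m.comap (algebraMap S[X] N) := h0
    rw [← hcom] at h2
    exact h2
  · have h1 : n₀ ≤ q'.comap (algebraMap B N) := by rw [← hm]; exact Ideal.comap_mono hle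
    have h2 := eq_of_le_of_algM p n₀ (q'.comap (algebraMap B N)) g sep.fin hn₀ hq'B h1 halg
    exact comap_injective_of_away g q' m (h2.symm.trans hm.symm)

/-- a subalgebra with the same localization -/
lemma isLocalization_of_sub (A : Subalgebra S N) (e f : A) (hef : e ∣ f)
    (hsurj : ∀ x : N, ∃ m : ℕ, (e : N) ^ m * x ∈ A) (C' : Type*) [CommRing C'] [Algebra N C']
    [IsLocalization.Away (f : N) C'] :
    IsLocalization.Away f C' := by
  have hmap : ∀ a : A, algebraMap A C' a = algebraMap N C' (a : N) := fun a => rfl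
  refine ⟨?_, ?_, ?_⟩
  · rintro ⟨_, n, rfl⟩
    have h1 := IsLocalization.Away.algebraMap_isUnit (S := C') (f : N)
    rw [← hmap] at h1
    change IsUnit (algebraMap A C' (f ^ n))
    rw [map_pow]
    exact h1.pow n
  · intro z
    obtain ⟨⟨x, ⟨_, n, rfl⟩⟩, hz⟩ := IsLocalization.surj (Submonoid.powers (f : N)) z
    obtain ⟨m, hm⟩ := hsurj x
    obtain ⟨d, hd⟩ := hef
    refine ⟨(d ^ m * ⟨_, hm⟩, ⟨f ^ (n + m), n + m, rfl⟩), ?_⟩
    have hz' : z * algebraMap N C' ((f : N) ^ n) = algebraMap N C' x := hz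
    change z * algebraMap A C' (f ^ (n + m)) = algebraMap A C' (d ^ m * ⟨_, hm⟩)
    rw [hmap, hmap]
    have h1 : ((f ^ (n + m) : A) : N) = (f : N) ^ n * ((d : N) ^ m * (e : N) ^ m) := by
      rw [pow_add, hd]
      push_cast
      ring
    have h2 : ((d ^ m * ⟨_, hm⟩ : A) : N) = ((d : N) ^ m * (e : N) ^ m) * x := by
      push_cast
      ring
    rw [h1, h2, map_mul, map_mul _ _ x, ← mul_assoc, hz', mul_comm]
  · intro a b hab
    rw [hmap, hmap] at hab
    obtain ⟨⟨_, n, rfl⟩, hc⟩ := (IsLocalization.eq_iff_exists (Submonoid.powers (f : N)) C').mp hab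
    refine ⟨⟨f ^ n, n, rfl⟩, ?_⟩
    apply Subtype.ext
    exact hc

end Main

theorem core {S : Type u} {B : Type v} [CommRing S] [CommRing B] [Algebra S B]
    [IsNoetherianRing S] (p : Ideal S) [p.IsPrime] (n₀ : Ideal B) [hn₀p : n₀.IsPrime]
    (hn₀ : n₀.comap (algebraMap S B) = p)
    (g ε ε' c s₀ : B) (hε : ε + ε' = 1) (hmul : ε * ε' = g * c) (sep : Sep p n₀ g ε ε')
    (halg : AlgM p n₀ g) (hg : g ∉ n₀) (hs₀ : s₀ ∉ n₀) :
    ∃ (v : S) (b : B) (C' : Type v) (_ : CommRing C') (_ : Algebra B C') (_ : Algebra S C')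
      (_ : IsScalarTower S B C') (_ : Algebra (Localization.Away v) C')
      (_ : IsScalarTower S (Localization.Away v) C') (h' : C'), v ∉ p ∧ b ∉ n₀ ∧ s₀ ∣ b ∧
      IsLocalization.Away b C' ∧
      (aeval h' : (Localization.Away v)[X] →ₐ[Localization.Away v] C').toRingHom.Finite := by
  classical
  let N := Localization.Away g
  let u : N := IsLocalization.Away.invSelf g
  have hu : algebraMap B N g * u = 1 := IsLocalization.Away.mul_invSelf g
  obtain ⟨h, a, k, w, b, hint, heps', heps⟩ := exists_h g ε ε' c sep.fin hmul u hu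
  have hp : HProp (S := S) g ε ε' u h := ⟨hu, hint, ⟨k, b, heps'⟩, ⟨a, w, heps⟩⟩
  haveI : Algebra.FiniteType S B := by
    letI algg : Algebra S[X] B := (aeval g : S[X] →ₐ[S] B).toRingHom.toAlgebra
    haveI : IsScalarTower S S[X] B := IsScalarTower.of_algebraMap_eq fun x => by
      change _ = aeval g (C x)
      rw [aeval_C]
    haveI : Module.Finite S[X] B := sep.fin
    exact Algebra.FiniteType.trans (S := S[X]) inferInstance inferInstance
  haveI : Algebra.FinitePresentation B N := IsLocalization.Away.finitePresentation g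
  haveI : Algebra.FiniteType S N := Algebra.FiniteType.trans (S := B) inferInstance inferInstance
  let m : Ideal N := n₀.map (algebraMap B N)
  have hdisj : Disjoint (Submonoid.powers g : Set B) n₀ :=
    (Ideal.disjoint_powers_iff_notMem_of_isPrime g).mpr hg
  haveI hmp : m.IsPrime := IsLocalization.isPrime_of_isPrime_disjoint (.powers g) _ _ hn₀p hdisj
  have hm : m.comap (algebraMap B N) = n₀ :=
    IsLocalization.under_map_of_isPrime_disjoint (.powers g) _ hn₀p hdisj
  have hqf := quasiFiniteAt_h p n₀ hn₀ g ε ε' sep u h hp halg m hm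
  letI algh : Algebra S[X] N := (aeval h : S[X] →ₐ[S] N).toRingHom.toAlgebra
  haveI : IsScalarTower S S[X] N := IsScalarTower.of_algebraMap_eq fun x => by
    change _ = aeval h (C x)
    rw [aeval_C]
  haveI : Algebra.FiniteType S[X] N :=
    Algebra.FiniteType.of_restrictScalars_finiteType S S[X] N
  haveI : Algebra.QuasiFiniteAt S[X] m := hqf
  obtain ⟨A'', hA''fg, r, hrm, hbij⟩ :=
    Algebra.QuasiFiniteAt.exists_fg_and_exists_notMem_and_awayMap_bijective (R := S[X]) m
  let A : Subalgebra S N := A''.restrictScalars S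
  have hhA : h ∈ A := by
    have h1 : algebraMap S[X] N X ∈ A'' := A''.algebraMap_mem X
    have h2 : algebraMap S[X] N X = h := aeval_X h
    rw [h2] at h1
    exact h1
  let hA : A := ⟨h, hhA⟩
  have haev : ∀ F : S[X], ((aeval hA F : A) : N) = aeval h F := fun F => by
    have h1 : algebraMap A N (aeval hA F) = aeval (algebraMap A N hA) F :=
      (aeval_algebraMap_apply N hA F).symm
    exact h1
  have hfinA : (aeval hA : S[X] →ₐ[S] A).toRingHom.Finite := by
    haveI : Module.Finite S[X] A'' := ⟨(Submodule.fg_top _).mpr hA''fg⟩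
    let ι : A'' →+* A :=
      { toFun := fun x => ⟨x.1, x.2⟩
        map_one' := rfl
        map_mul' := fun _ _ => rfl
        map_zero' := rfl
        map_add' := fun _ _ => rfl }
    have hι : Function.Surjective ι := fun x => ⟨⟨x.1, x.2⟩, rfl⟩
    have h1 : (ι.comp (algebraMap S[X] A'')).Finite :=
      RingHom.Finite.comp (RingHom.Finite.of_surjective ι hι)
        (RingHom.finite_algebraMap.mpr inferInstance)
    have h2 : (aeval hA : S[X] →ₐ[S] A).toRingHom = ι.comp (algebraMap S[X] A'') := by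
      ext F
      · exact (haev _)
      · exact (haev _)
    rw [h2]
    exact h1
  have hsurj : ∀ x : N, ∃ n : ℕ, (r : N) ^ n * x ∈ A := by
    intro x
    obtain ⟨y, n, hy⟩ := Localization.awayMap_surjective_iff.mp hbij.2 x
    refine ⟨n, ?_⟩
    have h1 : ((r : N)) ^ n * x = (y : N) := hy.symm
    rw [h1]
    exact y.2
  obtain ⟨j, hj⟩ := hsurj (algebraMap B N s₀)
  let rA : A := ⟨r.1, r.2⟩
  let sA : A := ⟨(r : N) ^ j * algebraMap B N s₀, hj⟩
  let e : A := rA * sA
  have hem : (e : N) ∉ m := by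
    intro h1
    have h2 : (r : N) * ((r : N) ^ j * algebraMap B N s₀) ∈ m := h1
    rcases hmp.mem_or_mem h2 with h3 | h3
    · exact hrm h3
    · rcases hmp.mem_or_mem h3 with h4 | h4
      · exact hrm (hmp.mem_of_pow_mem _ h4)
      · exact hs₀ (by rw [← hm]; exact h4)
  have hsurj' : ∀ x : N, ∃ n : ℕ, (e : N) ^ n * x ∈ A := by
    intro x
    obtain ⟨n, hn⟩ := hsurj x
    refine ⟨n, ?_⟩
    have h1 : (e : N) ^ n * x = (sA : N) ^ n * ((r : N) ^ n * x) := by
      have : (e : N) = (r : N) * (sA : N) := rfl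
      rw [this]; ring
    rw [h1]
    exact A.mul_mem (A.pow_mem sA.2 n) hn
  have hcomp : ∀ Q : Ideal A, Q.IsPrime → Q.comap (algebraMap S A) = p → ¬ AlgM p Q hA →
      e ∉ Q := by
    intro Q hQp hQ hQh heQ
    obtain ⟨η, hηp, hηA, hηB⟩ := exists_over_of_not_algM p n₀ g ε ε' hε sep u h hp A hhA Q hQ hQh
    have h1 : η ≤ m := le_of_comap_le g η m (by rw [hm]; exact hηB)
    apply hem
    apply h1
    rw [← hηA] at heQ
    exact heQ
  obtain ⟨G, hG, hGJ⟩ := exists_poly_mem p hA e hfinA hcomp
  obtain ⟨E, hE, hE0⟩ := hfinA.to_isIntegral e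
  let D := E.support.sup fun i => (E.coeff i).natDegree
  set v₀ := G.leadingCoeff with hv₀
  have hv₀0 : v₀ ≠ 0 := fun h0 => hG (by rw [h0]; exact p.zero_mem)
  let P : S[X] := X ^ (D + 1) * G + C v₀
  haveI : Nontrivial S := ⟨⟨v₀, 0, hv₀0⟩⟩
  have hG0 : G ≠ 0 := fun h0 => hv₀0 (by rw [hv₀, h0, leadingCoeff_zero])
  have hdeg1 : (X ^ (D + 1) * G).natDegree = G.natDegree + (D + 1) := by
    rw [mul_comm, natDegree_mul_X_pow (D + 1) hG0]
  have hdegC : (C v₀ : S[X]).natDegree < (X ^ (D + 1) * G).natDegree := by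
    rw [natDegree_C, hdeg1]; omega
  have hPdeg : P.natDegree = G.natDegree + (D + 1) := by
    rw [← hdeg1]
    exact natDegree_add_eq_left_of_natDegree_lt hdegC
  have hPlc : P.leadingCoeff = v₀ := by
    have h1 : P.leadingCoeff = (X ^ (D + 1) * G).leadingCoeff :=
      leadingCoeff_add_of_degree_lt' (by
        refine degree_lt_degree hdegC)
    rw [h1, leadingCoeff_monic_mul (monic_X_pow _)]
  have hED : ∀ i, (E.coeff i).natDegree < P.natDegree := by
    intro i
    by_cases hi : i ∈ E.support
    · have := Finset.le_sup (f := fun i => (E.coeff i).natDegree) hi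
      have h2 : (E.coeff i).natDegree ≤ D := this
      omega
    · rw [Polynomial.notMem_support_iff.mp hi, natDegree_zero]
      omega
  obtain ⟨v₂, hv₂, hv₂I⟩ := exists_mem_span p hA e hfinA G P hGJ v₀ hG (D + 1) rfl
    (by rw [hPlc]; exact hG)
  let v : S := v₀ * v₂
  have hvp : v ∉ p := fun h1 => (‹p.IsPrime›.mem_or_mem h1).elim hG hv₂
  let S' := Localization.Away v
  have hvS' : IsUnit (algebraMap S S' v) := IsLocalization.Away.algebraMap_isUnit v
  let fA : A := e * algebraMap S A v
  let C' := Localization.Away (fA : N)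
  have hfC : IsUnit (algebraMap N C' (fA : N)) := IsLocalization.Away.algebraMap_isUnit _
  have hfN : (fA : N) = (e : N) * algebraMap S N v := rfl
  have hfC2 : algebraMap N C' (fA : N) =
      algebraMap N C' (e : N) * algebraMap N C' (algebraMap S N v) := by
    rw [← map_mul]; rfl
  have heC : IsUnit (algebraMap N C' (e : N)) := by
    rw [hfC2] at hfC
    exact isUnit_of_mul_isUnit_left hfC
  have hvC : IsUnit (algebraMap S C' v) := by
    rw [hfC2] at hfC
    rw [IsScalarTower.algebraMap_apply S N C']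
    exact isUnit_of_mul_isUnit_right hfC
  letI algS'C' : Algebra S' C' := (IsLocalization.Away.lift v hvC).toAlgebra
  haveI tow : IsScalarTower S S' C' := IsScalarTower.of_algebraMap_eq fun x =>
    (IsLocalization.Away.lift_eq v hvC x).symm
  haveI : IsLocalization.Away fA C' := isLocalization_of_sub A e fA ⟨_, rfl⟩ hsurj' C'
  haveI : IsLocalization.Away (e * algebraMap S A v) C' := this
  obtain ⟨eu, heu⟩ := heC
  have he' : algebraMap A C' e * (↑eu⁻¹ : C') = 1 := by
    have h1 : algebraMap A C' e = algebraMap N C' (e : N) := rfl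
    rw [h1, ← heu, Units.mul_inv]
  have hlcu : IsUnit (algebraMap S S' P.leadingCoeff) := by
    rw [hPlc]
    exact isUnit_of_dvd_unit (map_dvd _ ⟨v₂, rfl⟩) hvS'
  have hint2 := integral_of_quot (S' := S') (C' := C') hA e E hE hE0 P hED hlcu _ he'
  have hfinal := final_step (S' := S') (C' := C') hA e hfinA P v₂ v hv₂I ⟨v₀, mul_comm _ _⟩
    hvS' _ he' hint2
  -- now the description of `C'` as a localization of `B`
  obtain ⟨⟨e₁, ⟨_, n, rfl⟩⟩, he₁⟩ := IsLocalization.surj (Submonoid.powers g) (e : N)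
  have he₁' : (e : N) * algebraMap B N g ^ n = algebraMap B N e₁ := by rw [← map_pow]; exact he₁
  have hgN : IsUnit (algebraMap B N g) := IsLocalization.Away.algebraMap_isUnit g
  let y : B := e₁ * algebraMap S B v * s₀
  have hyN : algebraMap B N y = (fA : N) * (algebraMap B N g ^ n * algebraMap B N s₀) := by
    simp only [y, map_mul, ← he₁', hfN, ← IsScalarTower.algebraMap_apply S B N]
    ring
  have hsC : IsUnit (algebraMap N C' (algebraMap B N s₀)) := by
    have h1 : IsUnit (algebraMap N C' (e : N)) := ⟨eu, heu⟩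
    have h2 : (e : N) = (r : N) * (r : N) ^ j * algebraMap B N s₀ := by
      change (r : N) * ((r : N) ^ j * algebraMap B N s₀) = _
      rw [mul_assoc]
    rw [h2, map_mul] at h1
    exact isUnit_of_mul_isUnit_right h1
  have hyunit : IsUnit (algebraMap N C' (algebraMap B N g ^ n * algebraMap B N s₀)) := by
    rw [map_mul, map_pow]
    exact ((hgN.map (algebraMap N C')).pow n).mul hsC
  haveI hyaway : IsLocalization.Away (algebraMap B N y) C' := by
    rw [hyN]
    haveI : IsLocalization.Away (algebraMap N C' (algebraMap B N g ^ n * algebraMap B N s₀)) C' :=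
      IsLocalization.away_of_isUnit_of_bijective C' hyunit Function.bijective_id
    exact IsLocalization.Away.mul' C' C' (fA : N) _
  haveI : IsLocalization.Away (g * y) C' := IsLocalization.Away.mul' N C' g y
  refine ⟨v, g * y, C', inferInstance, inferInstance, inferInstance, inferInstance, algS'C', tow,
    algebraMap A C' (aeval hA P) * (↑eu⁻¹ : C'), hvp, ?_, ?_, this, hfinal⟩
  · intro h1
    rcases hn₀p.mem_or_mem h1 with h2 | h2
    · exact hg h2
    · rw [← hm] at h2
      have h3 : algebraMap B N y ∈ m := h2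
      rw [hyN] at h3
      rcases hmp.mem_or_mem h3 with h4 | h4
      · rw [hfN] at h4
        rcases hmp.mem_or_mem h4 with h5 | h5
        · exact hem h5
        · apply hvp
          rw [← hn₀, ← hm, Ideal.comap_comap, ← IsScalarTower.algebraMap_eq]
          exact h5
      · rcases hmp.mem_or_mem h4 with h5 | h5
        · exact hg (by rw [← hm]; exact hmp.mem_of_pow_mem _ h5)
        · exact hs₀ (by rw [← hm]; exact h5)
  · exact Dvd.intro_left (g * (e₁ * algebraMap S B v)) (by simp only [y]; ring)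

end K837.RC
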