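import Groth.Agent.MovLem.K837.RC3

set_option autoImplicit false
set_option linter.style.haveILetI false
universe u v
open Polynomial TensorProduct

/-! Trivial residue extensions and étale base change. -/

namespace K837.RC

/-- `q` lies over `p` and the residue extension is trivial -/
def TrivRes {R A : Type*} [CommRing R] [CommRing A] [Algebra R A] (p : Ideal R) (q : Ideal A) :
    Prop :=
  q.comap (algebraMap R A) = p ∧
    ∀ x : A, ∃ a b : R, b ∉ p ∧ algebraMap R A b * x - algebraMap R A a ∈ q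

section TrivRes

variable {R A : Type*} [CommRing R] [CommRing A] [Algebra R A]

lemma TrivRes.trans {A' : Type*} [CommRing A'] [Algebra A A'] [Algebra R A']
    [IsScalarTower R A A'] {p : Ideal R} {q : Ideal A} {q' : Ideal A'} [p.IsPrime] [q.IsPrime]
    [q'.IsPrime] (h1 : TrivRes p q) (h2 : TrivRes q q') : TrivRes p q' := by
  refine ⟨?_, fun x => ?_⟩
  · rw [IsScalarTower.algebraMap_eq R A A', ← Ideal.comap_comap, h2.1, h1.1]
  · obtain ⟨a', b', hb', hx⟩ := h2.2 x
    obtain ⟨a₁, b₁, hb₁, h₁⟩ := h1.2 b'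
    obtain ⟨a₂, b₂, hb₂, h₂⟩ := h1.2 a'
    have ha₁ : a₁ ∉ p := by
      intro h
      rw [← h1.1] at h
      have h3 : algebraMap R A b₁ * b' ∈ q := by
        have := q.add_mem h₁ h
        rwa [sub_add_cancel] at this
      rcases ‹q.IsPrime›.mem_or_mem h3 with h4 | h4
      · exact hb₁ (by rw [← h1.1]; exact h4)
      · exact hb' h4
    refine ⟨b₁ * a₂, a₁ * b₂, fun h => (‹p.IsPrime›.mem_or_mem h).elim ha₁ hb₂, ?_⟩
    have hmem : ∀ y ∈ q, algebraMap A A' y ∈ q' := fun y hy => by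
      rw [← h2.1] at hy; exact hy
    have e : algebraMap R A' (a₁ * b₂) * x - algebraMap R A' (b₁ * a₂) =
        - (algebraMap R A' b₂ * x * algebraMap A A' (algebraMap R A b₁ * b' - algebraMap R A a₁)) +
        algebraMap R A' (b₁ * b₂) * (algebraMap A A' b' * x - algebraMap A A' a') +
        algebraMap R A' b₁ * algebraMap A A' (algebraMap R A b₂ * a' - algebraMap R A a₂) := by
      simp only [map_mul, map_sub, IsScalarTower.algebraMap_apply R A A']
      ring
    rw [e]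
    exact q'.add_mem (q'.add_mem (q'.neg_mem (q'.mul_mem_left _ (hmem _ h₁)))
      (q'.mul_mem_left _ hx)) (q'.mul_mem_left _ (hmem _ h₂))

lemma trivRes_of_isLocalization (M : Submonoid R) [IsLocalization M A] (q : Ideal A) [q.IsPrime] :
    TrivRes (q.comap (algebraMap R A)) q := by
  refine ⟨rfl, fun x => ?_⟩
  obtain ⟨⟨a, m⟩, h⟩ := IsLocalization.surj M x
  refine ⟨a, m, fun hm => ?_, ?_⟩
  · exact ‹q.IsPrime›.ne_top (Ideal.eq_top_of_isUnit_mem _ hm (IsLocalization.map_units A m))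
  · have h' : x * algebraMap R A m = algebraMap R A a := h
    rw [← h', mul_comm, sub_self]
    exact q.zero_mem

lemma trivRes_of_surjective (p : Ideal R) (q : Ideal A) [p.IsPrime] [q.IsPrime] [q.LiesOver p]
    (H : Function.Surjective (Ideal.ResidueField.mapₐ p q (Algebra.ofId _ _) (q.over_def p))) :
    TrivRes p q := by
  refine ⟨(q.over_def p).symm, fun x => ?_⟩
  obtain ⟨z, hz⟩ := H (algebraMap A _ x)
  obtain ⟨⟨a, b⟩, hab⟩ := IsLocalization.surj (nonZeroDivisors (R ⧸ p)) z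
  obtain ⟨a, rfl⟩ := Ideal.Quotient.mk_surjective a
  obtain ⟨b, hb⟩ := b
  obtain ⟨b, rfl⟩ := Ideal.Quotient.mk_surjective b
  have hb' : b ∉ p := by
    intro h
    rw [mem_nonZeroDivisors_iff_ne_zero] at hb
    exact hb (Ideal.Quotient.eq_zero_iff_mem.mpr h)
  refine ⟨a, b, hb', ?_⟩
  have h1 := congrArg (Ideal.ResidueField.mapₐ p q (Algebra.ofId _ _) (q.over_def p)) hab
  rw [map_mul, hz] at h1
  have h2 : ∀ r : R, (Ideal.ResidueField.mapₐ p q (Algebra.ofId _ _) (q.over_def p))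
      (algebraMap (R ⧸ p) p.ResidueField (Ideal.Quotient.mk p r)) =
      algebraMap A q.ResidueField (algebraMap R A r) := by
    intro r
    have h3 : algebraMap (R ⧸ p) p.ResidueField (Ideal.Quotient.mk p r) =
        algebraMap R p.ResidueField r := rfl
    rw [h3, AlgHom.commutes, ← IsScalarTower.algebraMap_apply]
  rw [h2, h2] at h1
  rw [← Ideal.ker_algebraMap_residueField q, RingHom.mem_ker, map_sub, map_mul, mul_comm, h1,
    sub_self]

lemma TrivRes.bijective (p : Ideal R) (q : Ideal A) [p.IsPrime] [q.IsPrime] [q.LiesOver p]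
    (h : TrivRes p q) :
    Function.Bijective (Ideal.ResidueField.mapₐ p q (Algebra.ofId _ _) (q.over_def p)) := by
  set f := Ideal.ResidueField.mapₐ p q (Algebra.ofId _ _) (q.over_def p) with hf
  refine ⟨f.toRingHom.injective, fun z => ?_⟩
  have key : ∀ x : A, ∃ w, f w = algebraMap A q.ResidueField x := by
    intro x
    obtain ⟨a, b, hb, hx⟩ := h.2 x
    have hb0 : algebraMap R p.ResidueField b ≠ 0 := by
      intro h0
      exact hb (by rw [← Ideal.ker_algebraMap_residueField p]; exact h0)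
    refine ⟨algebraMap R p.ResidueField a * (algebraMap R p.ResidueField b)⁻¹, ?_⟩
    rw [map_mul, map_inv₀, AlgHom.commutes, AlgHom.commutes]
    have hb1 : algebraMap R q.ResidueField b ≠ 0 := by
      rw [← f.commutes]
      exact (map_ne_zero_iff f.toRingHom f.toRingHom.injective).mpr hb0
    rw [← div_eq_mul_inv, div_eq_iff hb1, eq_comm, ← sub_eq_zero,
      IsScalarTower.algebraMap_apply R A, IsScalarTower.algebraMap_apply R A q.ResidueField a,
      ← map_mul, ← map_sub, ← RingHom.mem_ker, Ideal.ker_algebraMap_residueField, mul_comm]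
    exact hx
  obtain ⟨⟨a, b⟩, hab⟩ := IsLocalization.surj (nonZeroDivisors (A ⧸ q)) z
  obtain ⟨a, rfl⟩ := Ideal.Quotient.mk_surjective a
  obtain ⟨b, hb⟩ := b
  obtain ⟨b, rfl⟩ := Ideal.Quotient.mk_surjective b
  obtain ⟨wa, hwa⟩ := key a
  obtain ⟨wb, hwb⟩ := key b
  refine ⟨wa * wb⁻¹, ?_⟩
  rw [map_mul, map_inv₀, hwa, hwb]
  have hb0 : algebraMap A q.ResidueField b ≠ 0 := by
    intro h0
    rw [mem_nonZeroDivisors_iff_ne_zero] at hb
    refine hb (Ideal.Quotient.eq_zero_iff_mem.mpr ?_)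
    rw [← Ideal.ker_algebraMap_residueField q]; exact h0
  rw [← div_eq_mul_inv, div_eq_iff hb0]
  exact hab.symm

end TrivRes

section Tensor

variable {R R' B : Type*} [CommRing R] [CommRing R'] [CommRing B] [Algebra R R'] [Algebra R B]

lemma exists_approx (p : Ideal R) [p.IsPrime] (p' : Ideal R') (h : TrivRes p p')
    (x : R' ⊗[R] B) : ∃ (r : R) (b : B), r ∉ p ∧
      algebraMap R (R' ⊗[R] B) r * x - 1 ⊗ₜ b ∈ p'.map (algebraMap R' (R' ⊗[R] B)) := by
  induction x with
  | zero => exact ⟨1, 0, ‹p.IsPrime›.one_notMem, by simp⟩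
  | tmul x b =>
    obtain ⟨a, r, hr, hx⟩ := h.2 x
    refine ⟨r, algebraMap R B a * b, hr, ?_⟩
    have : algebraMap R (R' ⊗[R] B) r * x ⊗ₜ b - 1 ⊗ₜ (algebraMap R B a * b) =
        algebraMap R' (R' ⊗[R] B) (algebraMap R R' r * x - algebraMap R R' a) * (1 ⊗ₜ b) := by
      rw [Algebra.TensorProduct.algebraMap_apply, Algebra.TensorProduct.algebraMap_apply,
        Algebra.algebraMap_self_apply, Algebra.TensorProduct.tmul_mul_tmul,
        Algebra.TensorProduct.tmul_mul_tmul, one_mul, mul_one, sub_tmul,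
        ← Algebra.smul_def a b, tmul_smul, smul_tmul', Algebra.algebraMap_eq_smul_one (A := R') a]
    rw [this]
    exact Ideal.mul_mem_right _ _ (Ideal.mem_map_of_mem _ hx)
  | add x y hx hy =>
    obtain ⟨r, b, hr, hx⟩ := hx
    obtain ⟨s, c, hs, hy⟩ := hy
    refine ⟨r * s, algebraMap R B s * b + algebraMap R B r * c,
      fun h => (‹p.IsPrime›.mem_or_mem h).elim hr hs, ?_⟩
    have h1 : ∀ (t : R) (d : B), (1 : R') ⊗ₜ[R] (algebraMap R B t * d) =
        algebraMap R (R' ⊗[R] B) t * (1 ⊗ₜ d) := by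
      intro t d
      rw [← Algebra.smul_def, ← Algebra.smul_def, tmul_smul]
    have : algebraMap R (R' ⊗[R] B) (r * s) * (x + y) -
        (1 : R') ⊗ₜ[R] (algebraMap R B s * b + algebraMap R B r * c) =
        algebraMap R (R' ⊗[R] B) s * (algebraMap R (R' ⊗[R] B) r * x - 1 ⊗ₜ b) +
        algebraMap R (R' ⊗[R] B) r * (algebraMap R (R' ⊗[R] B) s * y - 1 ⊗ₜ c) := by
      rw [tmul_add, h1, h1, map_mul]
      ring
    rw [this]
    exact Ideal.add_mem _ (Ideal.mul_mem_left _ _ hx) (Ideal.mul_mem_left _ _ hy)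

/-- comparison of primes of the base change over `p'` -/
lemma prime_tensor_le (p : Ideal R) [p.IsPrime] (p' : Ideal R') (h : TrivRes p p')
    (N N' : Ideal (R' ⊗[R] B)) [N.IsPrime] [N'.IsPrime]
    (hN : N.comap (algebraMap R' _) = p') (hN' : N'.comap (algebraMap R' _) = p')
    (hle : N.comap (Algebra.TensorProduct.includeRight : B →ₐ[R] R' ⊗[R] B) ≤
      N'.comap (Algebra.TensorProduct.includeRight : B →ₐ[R] R' ⊗[R] B)) : N ≤ N' := by
  intro x hx
  obtain ⟨r, b, hr, hrb⟩ := exists_approx p p' h x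
  have h1 : p'.map (algebraMap R' (R' ⊗[R] B)) ≤ N := by
    rw [Ideal.map_le_iff_le_comap, hN]
  have h2 : p'.map (algebraMap R' (R' ⊗[R] B)) ≤ N' := by
    rw [Ideal.map_le_iff_le_comap, hN']
  have h3 : (1 : R') ⊗ₜ[R] b ∈ N := by
    have := N.sub_mem (N.mul_mem_left (algebraMap R (R' ⊗[R] B) r) hx) (h1 hrb)
    rwa [sub_sub_cancel] at this
  have h4 : (1 : R') ⊗ₜ[R] b ∈ N' := hle h3
  have h5 : algebraMap R (R' ⊗[R] B) r * x ∈ N' := by
    have := N'.add_mem (h2 hrb) h4
    rwa [sub_add_cancel] at this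
  refine (‹N'.IsPrime›.mem_or_mem h5).resolve_left fun h6 => hr ?_
  rw [← h.1, ← hN', Ideal.comap_comap]
  exact h6

/-- existence of the prime of the base change -/
lemma exists_prime_tensor (p : Ideal R) [p.IsPrime] (p' : Ideal R') [p'.IsPrime]
    (h : TrivRes p p') (n₀ : Ideal B) [n₀.IsPrime] (hn₀ : n₀.comap (algebraMap R B) = p) :
    ∃ N : Ideal (R' ⊗[R] B), N.IsPrime ∧ N.comap (algebraMap R' _) = p' ∧
      N.comap (Algebra.TensorProduct.includeRight : B →ₐ[R] R' ⊗[R] B) = n₀ := by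
  haveI : p'.LiesOver p := ⟨h.1.symm⟩
  haveI : n₀.LiesOver p := ⟨hn₀.symm⟩
  have H := h.bijective
  let N := (Ideal.fiberIsoOfBijectiveResidueField (S := B) H).symm ⟨n₀, ‹_›, ‹_›⟩
  refine ⟨N.1, N.2.1, ?_, ?_⟩
  · exact (N.2.2.over).symm
  · exact Ideal.comap_fiberIsoOfBijectiveResidueField_symm H ⟨n₀, ‹_›, ‹_›⟩

/-- the residue extension of the prime of the base change is trivial -/
lemma trivRes_tensor (p : Ideal R) [p.IsPrime] (p' : Ideal R') (h : TrivRes p p')
    (N : Ideal (R' ⊗[R] B)) [N.IsPrime] (hN : N.comap (algebraMap R' _) = p')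
    (x : R' ⊗[R] B) : ∃ a b : B,
      b ∉ N.comap (Algebra.TensorProduct.includeRight : B →ₐ[R] R' ⊗[R] B) ∧
      (1 : R') ⊗ₜ[R] b * x - 1 ⊗ₜ[R] a ∈ N := by
  obtain ⟨r, a, hr, hra⟩ := exists_approx p p' h x
  have h1 : p'.map (algebraMap R' (R' ⊗[R] B)) ≤ N := by
    rw [Ideal.map_le_iff_le_comap, hN]
  have h2 : (1 : R') ⊗ₜ[R] (algebraMap R B r) = algebraMap R (R' ⊗[R] B) r := by
    rw [Algebra.TensorProduct.algebraMap_apply', Algebra.algebraMap_eq_smul_one, tmul_smul]
  refine ⟨a, algebraMap R B r, fun h3 => hr ?_, ?_⟩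
  · have h4 : (1 : R') ⊗ₜ[R] (algebraMap R B r) ∈ N := h3
    rw [h2] at h4
    rw [← h.1, ← hN, Ideal.comap_comap]
    exact h4
  · rw [h2]
    exact h1 hra

end Tensor

end K837.RC
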