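import Groth.Agent.MovLem.K837.RC4

set_option autoImplicit false
set_option linter.style.haveILetI false
universe u v
set_option maxHeartbeats 400000
open Polynomial TensorProduct

/-! Relative curves: the étale local splitting. -/

namespace K837.RC

section Prelim

variable {S B R' : Type*} [CommRing S] [CommRing B] [Algebra S B] [CommRing R'] [Algebra S R']

lemma finite_quot (g : B) (hfin : (aeval g : S[X] →ₐ[S] B).toRingHom.Finite) :
    Module.Finite S (B ⧸ Ideal.span {g}) := by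
  have h1 : ((Ideal.Quotient.mk (Ideal.span {g})).comp (aeval g : S[X] →ₐ[S] B).toRingHom).Finite :=
    RingHom.Finite.comp (RingHom.Finite.of_surjective _ Ideal.Quotient.mk_surjective) hfin
  have h2 : (Ideal.Quotient.mk (Ideal.span {g})).comp (aeval g : S[X] →ₐ[S] B).toRingHom =
      (algebraMap S (B ⧸ Ideal.span {g})).comp (Polynomial.constantCoeff) := by
    apply Polynomial.ringHom_ext
    · intro a
      change Ideal.Quotient.mk _ (aeval g (C a)) = algebraMap S _ (constantCoeff (C a))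
      rw [aeval_C, constantCoeff_apply, coeff_C_zero]
      rfl
    · change Ideal.Quotient.mk _ (aeval g X) = algebraMap S _ (constantCoeff X)
      rw [aeval_X, constantCoeff_apply, coeff_X_zero, map_zero, Ideal.Quotient.eq_zero_iff_mem]
      exact Ideal.mem_span_singleton_self g
  rw [h2] at h1
  exact RingHom.finite_algebraMap.mp (RingHom.Finite.of_comp_finite h1)

lemma aeval_one_tmul (g : B) (F : S[X]) :
    aeval ((1 : R') ⊗ₜ[S] g) (F.map (algebraMap S R')) = (1 : R') ⊗ₜ[S] (aeval g F) := by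
  rw [aeval_map_algebraMap]
  exact aeval_algHom_apply (Algebra.TensorProduct.includeRight : B →ₐ[S] R' ⊗[S] B) g F

lemma finite_baseChange (g : B) (hfin : (aeval g : S[X] →ₐ[S] B).toRingHom.Finite) :
    (aeval ((1 : R') ⊗ₜ[S] g) : R'[X] →ₐ[R'] R' ⊗[S] B).toRingHom.Finite := by
  classical
  letI algB : Algebra S[X] B := (aeval g : S[X] →ₐ[S] B).toRingHom.toAlgebra
  letI algB' : Algebra R'[X] (R' ⊗[S] B) :=
    (aeval ((1 : R') ⊗ₜ[S] g) : R'[X] →ₐ[R'] R' ⊗[S] B).toRingHom.toAlgebra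
  haveI : Module.Finite S[X] B := hfin
  obtain ⟨s, hs⟩ := (Module.Finite.fg_top : (⊤ : Submodule S[X] B).FG)
  have hsm : ∀ (F : R'[X]) (x : R' ⊗[S] B), F • x = aeval ((1 : R') ⊗ₜ[S] g) F * x :=
    fun F x => rfl
  have hsmB : ∀ (F : S[X]) (x : B), F • x = aeval g F * x := fun F x => rfl
  change Module.Finite R'[X] (R' ⊗[S] B)
  refine ⟨⟨s.image (fun b => (1 : R') ⊗ₜ[S] b), ?_⟩⟩
  rw [eq_top_iff]
  set W := Submodule.span R'[X] ((s.image (fun b => (1 : R') ⊗ₜ[S] b) : Finset (R' ⊗[S] B)) :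
    Set (R' ⊗[S] B)) with hW
  have h1 : ∀ b : B, (1 : R') ⊗ₜ[S] b ∈ W := by
    intro b
    have hb : b ∈ Submodule.span S[X] (s : Set B) := by rw [hs]; trivial
    induction hb using Submodule.span_induction with
    | mem x hx =>
      exact Submodule.subset_span (Finset.mem_coe.mpr (Finset.mem_image_of_mem _ hx))
    | zero => rw [tmul_zero]; exact W.zero_mem
    | add x y _ _ hx hy => rw [tmul_add]; exact W.add_mem hx hy
    | smul F x _ hx =>
      have : (1 : R') ⊗ₜ[S] (F • x) = (F.map (algebraMap S R')) • ((1 : R') ⊗ₜ[S] x) := by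
        rw [hsm, hsmB, aeval_one_tmul, Algebra.TensorProduct.tmul_mul_tmul, one_mul]
      rw [this]
      exact W.smul_mem _ hx
  intro x _
  induction x with
  | zero => exact W.zero_mem
  | tmul r b =>
    have : r ⊗ₜ[S] b = (C r : R'[X]) • ((1 : R') ⊗ₜ[S] b) := by
      rw [hsm, aeval_C, Algebra.TensorProduct.algebraMap_apply, Algebra.algebraMap_self_apply,
        Algebra.TensorProduct.tmul_mul_tmul, mul_one, one_mul]
    rw [this]
    exact W.smul_mem _ (h1 b)
  | add x y hx hy => exact W.add_mem (hx trivial) (hy trivial)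

lemma algM_tensor (p : Ideal S) (P : Ideal R') (hP : P.comap (algebraMap S R') = p)
    (N : Ideal (R' ⊗[S] B)) (g : B)
    (h : AlgM p (N.comap (Algebra.TensorProduct.includeRight : B →ₐ[S] R' ⊗[S] B)) g) :
    AlgM P N ((1 : R') ⊗ₜ[S] g) := by
  obtain ⟨F, hF, h0⟩ := h
  refine ⟨F.map (algebraMap S R'), fun h1 => hF ?_, ?_⟩
  · rw [Ideal.mem_map_C_iff] at h1 ⊢
    intro n
    have := h1 n
    rw [coeff_map] at this
    rw [← hP]
    exact this
  · rw [aeval_one_tmul]
    exact h0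

end Prelim

/-- reduction modulo `g` after base change -/
noncomputable def thq {S B R' : Type*} [CommRing S] [CommRing B] [Algebra S B] [CommRing R'] [Algebra S R'] (g : B) :
    R' ⊗[S] B →ₐ[R'] R' ⊗[S] (B ⧸ Ideal.span {g}) :=
  Algebra.TensorProduct.map (AlgHom.id R' R') (Ideal.Quotient.mkₐ S (Ideal.span {g}))

lemma thq_surj {S B R' : Type*} [CommRing S] [CommRing B] [Algebra S B] [CommRing R'] [Algebra S R'] (g : B) :
   Function.Surjective (thq (R' := R') (S := S) g) := by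
  intro x
  induction x with
  | zero => exact ⟨0, map_zero _⟩
  | tmul r b =>
    obtain ⟨b, rfl⟩ := Ideal.Quotient.mk_surjective b
    exact ⟨r ⊗ₜ b, by simp [thq]⟩
  | add x y hx hy =>
    obtain ⟨a, rfl⟩ := hx
    obtain ⟨b, rfl⟩ := hy
    exact ⟨a + b, map_add _ _ _⟩

lemma thq_ker {S B R' : Type*} [CommRing S] [CommRing B] [Algebra S B] [CommRing R'] [Algebra S R'] (g : B) :
   RingHom.ker (thq (R' := R') (S := S) g).toRingHom = Ideal.span {(1 : R') ⊗ₜ[S] g} := by
  have h1 := Algebra.TensorProduct.lTensor_ker (A := R') (Ideal.Quotient.mkₐ S (Ideal.span {g}))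
      Ideal.Quotient.mk_surjective
  have h2 : RingHom.ker (Ideal.Quotient.mkₐ S (Ideal.span {g})) = Ideal.span {g} :=
    Ideal.Quotient.mkₐ_ker S _
  rw [h2, Ideal.map_span, Set.image_singleton] at h1
  ext x
  rw [RingHom.mem_ker]
  have h3 : (thq (R' := R') (S := S) g).toRingHom x = (Algebra.TensorProduct.map (AlgHom.id S R') (Ideal.Quotient.mkₐ S (Ideal.span {g}))) x := rfl
  rw [h3, ← RingHom.mem_ker, h1]
  rfl

/-- étale local structure statement -/
def Concl (S B : Type u) [CommRing S] [CommRing B] [Algebra S B] (p : Ideal S) (n₁ : Ideal B)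
    (s₀ : B) : Prop :=
  ∃ (S' : Type u) (_ : CommRing S') (_ : Algebra S S') (p' : Ideal S') (C' : Type u)
    (_ : CommRing C') (_ : Algebra B C') (_ : Algebra S C') (_ : Algebra S' C') (h' : C'),
    Algebra.Etale S S' ∧ p'.IsPrime ∧ TrivRes p p' ∧ Algebra.Etale B C' ∧
    IsScalarTower S S' C' ∧ IsScalarTower S B C' ∧ IsUnit (algebraMap B C' s₀) ∧
    (aeval h' : S'[X] →ₐ[S'] C').toRingHom.Finite ∧
    ∀ n₀ : Ideal B, n₀.IsPrime → n₀.comap (algebraMap S B) = p → n₀ ≤ n₁ →
      ∃ n₀' : Ideal C', n₀'.IsPrime ∧ n₀'.comap (algebraMap S' C') = p' ∧ TrivRes n₀ n₀'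

/-- the idempotent splitting good and bad components -/
lemma exists_eps {S B : Type u} [CommRing S] [CommRing B] [Algebra S B]
    (p : Ideal S) [p.IsPrime] (n₁ : Ideal B) [n₁.IsPrime] (hn₁ : n₁.comap (algebraMap S B) = p)
    (g : B) (hfin : (aeval g : S[X] →ₐ[S] B).toRingHom.Finite)
    (hpair : ∀ ξ ξ' n : Ideal B, ξ.IsPrime → ξ'.IsPrime → n.IsPrime →
      ξ.comap (algebraMap S B) = p → ξ'.comap (algebraMap S B) = p →
      n.comap (algebraMap S B) = p → ξ ≤ n → ξ' ≤ n → g ∈ n → ¬ AlgM p ξ g → ¬ AlgM p ξ' g →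
      ξ ≤ n₁ → ξ' ≤ n₁) :
    ∃ (R' : Type u) (_ : CommRing R') (_ : Algebra S R') (P : Ideal R') (_ : Algebra.Etale S R')
      (_ : P.IsPrime) (_ : TrivRes p P) (N₁ : Ideal (R' ⊗[S] B)) (ε ε' c : R' ⊗[S] B),
      N₁.IsPrime ∧ N₁.comap (algebraMap R' _) = P ∧
      N₁.comap (Algebra.TensorProduct.includeRight : B →ₐ[S] R' ⊗[S] B) = n₁ ∧
      ε + ε' = 1 ∧ ε * ε' = (1 ⊗ₜ g) * c ∧ Sep P N₁ ((1 : R') ⊗ₜ[S] g) ε ε' := by
  classical
  haveI := finite_quot g hfin
  obtain ⟨R', _, _, hEt, P, hP, hPp, k, e, he, P', hP', hP'P, hbij, heP', H⟩ :=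
    Algebra.exists_etale_completeOrthogonalIdempotents_forall_liesOver_eq
      (R := S) (S := B ⧸ Ideal.span {g}) p
  have hTR : TrivRes p P := trivRes_of_surjective p P hbij.2
  obtain ⟨N₁, hN₁p, hN₁P, hN₁B⟩ := exists_prime_tensor p P hTR n₁ hn₁
  let θ : R' ⊗[S] B →ₐ[R'] R' ⊗[S] (B ⧸ Ideal.span {g}) := thq g
  have hθs : Function.Surjective θ := thq_surj g
  have hθk : RingHom.ker θ.toRingHom = Ideal.span {(1 : R') ⊗ₜ[S] g} := thq_ker g
  have hθR : ∀ r : R', θ (algebraMap R' _ r) = algebraMap R' _ r := fun r => θ.commutes r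
  clear_value θ
  let G : Fin k → Prop := fun i => ∃ ξ : Ideal (R' ⊗[S] B), ξ.IsPrime ∧
    ξ.comap (algebraMap R' _) = P ∧ ¬ AlgM P ξ ((1 : R') ⊗ₜ[S] g) ∧
    ξ ≤ (P' i).comap θ.toRingHom ∧ ξ ≤ N₁
  let sG : Finset (Fin (k + 1)) := (Finset.univ.filter G).map Fin.castSuccEmb
  have hsG : ∀ i : Fin k, i.castSucc ∈ sG ↔ G i := by
    intro i
    simp only [sG, Finset.mem_map, Finset.mem_filter, Finset.mem_univ, true_and,
      Fin.coe_castSuccEmb]
    constructor
    · rintro ⟨j, hj, hji⟩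
      rwa [← Fin.castSucc_injective _ hji]
    · intro h
      exact ⟨i, h, rfl⟩
  let ebar : R' ⊗[S] (B ⧸ Ideal.span {g}) := ∑ i ∈ sG, e i
  have hidem : ebar * ebar = ebar := he.toOrthogonalIdempotents.isIdempotentElem_sum
  obtain ⟨ε, hε⟩ := hθs ebar
  have hker : ε * (1 - ε) ∈ RingHom.ker θ.toRingHom := by
    rw [RingHom.mem_ker]
    change θ (ε * (1 - ε)) = 0
    rw [map_mul, map_sub, map_one, hε, mul_sub, mul_one, hidem, sub_self]
  rw [hθk, Ideal.mem_span_singleton] at hker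
  obtain ⟨c, hc⟩ := hker
  -- the primes containing `g`
  have hprime : ∀ n : Ideal (R' ⊗[S] B), n.IsPrime → n.comap (algebraMap R' _) = P →
      (1 : R') ⊗ₜ[S] g ∈ n → ∃ j : Fin k, n = (P' j).comap θ.toRingHom ∧
        (G j → ε ∉ n) ∧ (¬ G j → ε ∈ n) := by
    intro n hn hnP hgn
    have hkn : RingHom.ker θ.toRingHom ≤ n := by
      rw [hθk, Ideal.span_le, Set.singleton_subset_iff]; exact hgn
    have hθs' : Function.Surjective θ.toRingHom := hθs
    let nb := n.map θ.toRingHom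
    haveI hnbp : nb.IsPrime := Ideal.map_isPrime_of_surjective hθs' hkn
    have hnb : nb.comap θ.toRingHom = n := by
      rw [Ideal.comap_map_of_surjective _ hθs']
      exact sup_eq_left.mpr hkn
    have hnbP : nb.LiesOver P := by
      refine ⟨?_⟩
      rw [← hnP, ← hnb, Ideal.comap_comap]
      ext r
      rw [Ideal.mem_comap, RingHom.comp_apply]
      change θ (algebraMap R' _ r) ∈ nb ↔ _
      rw [hθR]
      rfl
    obtain ⟨hlast, hH⟩ := H nb hnbp hnbP
    obtain ⟨i, hi⟩ : ∃ i : Fin (k + 1), e i ∉ nb := by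
      by_contra hcon
      push Not at hcon
      refine hnbp.one_notMem ?_
      rw [← he.complete]
      exact sum_mem fun i _ => hcon i
    have hil : i ≠ Fin.last k := fun h => hi (h ▸ hlast)
    obtain ⟨j, rfl⟩ := Fin.exists_castSucc_eq.mpr hil
    have hnj := hH j hi
    have hεn : ε ∈ n ↔ ebar ∈ nb := by
      rw [← hnb, Ideal.mem_comap]
      change θ ε ∈ nb ↔ _
      rw [hε]
    refine ⟨j, by rw [← hnj, hnb], fun hG hεmem => ?_, fun hG => ?_⟩
    · rw [hεn] at hεmem
      have h1 := he.toOrthogonalIdempotents.mul_sum_of_mem ((hsG j).mpr hG)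
      exact hi (h1 ▸ nb.mul_mem_left _ hεmem)
    · rw [hεn]
      have h1 := he.toOrthogonalIdempotents.mul_sum_of_notMem (fun h => hG ((hsG j).mp h))
      have h2 : e j.castSucc * ebar ∈ nb := by rw [h1]; exact nb.zero_mem
      exact (hnbp.mem_or_mem h2).resolve_left hi
  refine ⟨R', inferInstance, inferInstance, P, hEt, hP, hTR, N₁, ε, 1 - ε, c, hN₁p, hN₁P, hN₁B,
    add_sub_cancel _ _, hc, finite_baseChange g hfin, ?_, ?_⟩
  · intro ξ n hξp hnp hξn hξP hξg hnP hgn hξN
    obtain ⟨j, hj, hjG, -⟩ := hprime n hnp hnP hgn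
    exact hjG ⟨ξ, hξp, hξP, hξg, hj ▸ hξn, hξN⟩
  · intro ξ n hξp hnp hξn hξP hξg hnP hgn hξN hmem
    obtain ⟨j, hj, -, hjG⟩ := hprime n hnp hnP hgn
    have hnG : ¬ G j := by
      rintro ⟨ξ₂, hξ₂p, hξ₂P, hξ₂g, hξ₂n, hξ₂N⟩
      rw [← hj] at hξ₂n
      apply hξN
      have hover : ∀ I : Ideal (R' ⊗[S] B), I.comap (algebraMap R' _) = P →
          (I.comap (Algebra.TensorProduct.includeRight : B →ₐ[S] R' ⊗[S] B)).comap
            (algebraMap S B) = p := by
        intro I hI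
        rw [← hTR.1, ← hI, Ideal.comap_comap]
        ext s
        rw [Ideal.mem_comap, Ideal.mem_comap, Ideal.mem_comap]
        rw [AlgHom.commutes]
        rfl
      have hprimeB : ∀ I : Ideal (R' ⊗[S] B), I.IsPrime →
          (I.comap (Algebra.TensorProduct.includeRight : B →ₐ[S] R' ⊗[S] B)).IsPrime :=
        fun I hI => Ideal.comap_isPrime _ _
      have h1 := hpair _ _ _ (hprimeB _ hξ₂p) (hprimeB _ hξp) (hprimeB _ hnp) (hover _ hξ₂P)
        (hover _ hξP) (hover _ hnP) (Ideal.comap_mono hξ₂n) (Ideal.comap_mono hξn) hgn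
        (fun h => hξ₂g (algM_tensor p P hTR.1 ξ₂ g h)) (fun h => hξg (algM_tensor p P hTR.1 ξ g h))
        (by rw [← hN₁B]; exact Ideal.comap_mono hξ₂N)
      refine prime_tensor_le p P hTR ξ N₁ hξP hN₁P ?_
      rw [hN₁B]
      exact h1
    have hεn := hjG hnG
    refine hnp.one_notMem ?_
    have h2 := n.add_mem hεn hmem
    rwa [add_sub_cancel] at h2

/-- étaleness of the base change, for the right algebra structure -/
lemma etale_right {S B R' : Type u} [CommRing S] [CommRing B] [Algebra S B] [CommRing R']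
    [Algebra S R'] [Algebra.Etale S R'] :
    letI : Algebra B (R' ⊗[S] B) := Algebra.TensorProduct.rightAlgebra
    Algebra.Etale B (R' ⊗[S] B) := by
  letI : Algebra B (R' ⊗[S] B) := Algebra.TensorProduct.rightAlgebra
  let e : B ⊗[S] R' ≃ₐ[B] R' ⊗[S] B :=
    AlgEquiv.ofRingEquiv (f := (Algebra.TensorProduct.comm S B R').toRingEquiv) (fun b => by
      change (Algebra.TensorProduct.comm S B R') (b ⊗ₜ 1) = 1 ⊗ₜ b
      rw [Algebra.TensorProduct.comm_tmul])
  exact Algebra.Etale.of_equiv e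

theorem stage2 {S B : Type u} [CommRing S] [IsNoetherianRing S] [CommRing B] [Algebra S B]
    (p : Ideal S) [p.IsPrime] (n₁ : Ideal B) [n₁.IsPrime] (hn₁ : n₁.comap (algebraMap S B) = p)
    (g s₀ : B) (hfin : (aeval g : S[X] →ₐ[S] B).toRingHom.Finite) (halg : AlgM p n₁ g)
    (hg : g ∉ n₁) (hs₀ : s₀ ∉ n₁)
    (hpair : ∀ ξ ξ' n : Ideal B, ξ.IsPrime → ξ'.IsPrime → n.IsPrime →
      ξ.comap (algebraMap S B) = p → ξ'.comap (algebraMap S B) = p →
      n.comap (algebraMap S B) = p → ξ ≤ n → ξ' ≤ n → g ∈ n → ¬ AlgM p ξ g → ¬ AlgM p ξ' g →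
      ξ ≤ n₁ → ξ' ≤ n₁) : Concl S B p n₁ s₀ := by
  obtain ⟨R', _, _, P, hEt, hPp, hTR, N₁, ε, ε', c, hN₁p, hN₁P, hN₁B, hε, hc, sep⟩ :=
    exists_eps p n₁ hn₁ g hfin hpair
  haveI : IsNoetherianRing R' := Algebra.FiniteType.isNoetherianRing S R'
  have hmem : ∀ b : B, (1 : R') ⊗ₜ[S] b ∈ N₁ ↔ b ∈ n₁ := fun b => by
    conv_rhs => rw [← hN₁B]
    rfl
  obtain ⟨v, b, C', _, algB'C', algR'C', tow1, algS'C', tow2, h', hv, hb, hsb, hloc, hfinal⟩ :=
    core P N₁ hN₁P ((1 : R') ⊗ₜ[S] g) ε ε' c ((1 : R') ⊗ₜ[S] s₀) hε hc sep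
      (algM_tensor p P hTR.1 N₁ g (by rw [hN₁B]; exact halg))
      (fun h => hg ((hmem g).mp h)) (fun h => hs₀ ((hmem s₀).mp h))
  letI algBB' : Algebra B (R' ⊗[S] B) := Algebra.TensorProduct.rightAlgebra
  letI algBC' : Algebra B C' :=
    ((algebraMap (R' ⊗[S] B) C').comp (algebraMap B (R' ⊗[S] B))).toAlgebra
  haveI towB : IsScalarTower B (R' ⊗[S] B) C' := IsScalarTower.of_algebraMap_eq fun x => rfl
  letI algSC' : Algebra S C' := ((algebraMap B C').comp (algebraMap S B)).toAlgebra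
  haveI towSB : IsScalarTower S B C' := IsScalarTower.of_algebraMap_eq fun x => rfl
  haveI hEtB : Algebra.Etale B (R' ⊗[S] B) := etale_right
  haveI hEtC : Algebra.Etale (R' ⊗[S] B) C' := Algebra.Etale.of_isLocalizationAway b
  haveI hEtBC : Algebra.Etale B C' := Algebra.Etale.comp B (R' ⊗[S] B) C'
  haveI hEtR : Algebra.Etale R' (Localization.Away v) := Algebra.Etale.of_isLocalizationAway v
  haveI hEtS : Algebra.Etale S (Localization.Away v) := Algebra.Etale.comp S R' _
  have hSR'C' : ∀ s : S, algebraMap R' C' (algebraMap S R' s) = algebraMap S C' s := fun s => by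
    change algebraMap R' C' (algebraMap S R' s) =
      algebraMap (R' ⊗[S] B) C' (1 ⊗ₜ (algebraMap S B s))
    rw [IsScalarTower.algebraMap_apply R' (R' ⊗[S] B) C']
    congr 1
    rw [Algebra.TensorProduct.algebraMap_apply, Algebra.algebraMap_self_apply,
      Algebra.algebraMap_eq_smul_one, Algebra.algebraMap_eq_smul_one, tmul_smul, smul_tmul']
  haveI towSS' : IsScalarTower S (Localization.Away v) C' := IsScalarTower.of_algebraMap_eq
    fun s => by
      rw [← hSR'C', IsScalarTower.algebraMap_apply S R' (Localization.Away v),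
        ← IsScalarTower.algebraMap_apply R' (Localization.Away v) C']
  have hdisjv : Disjoint (Submonoid.powers v : Set R') P :=
    (Ideal.disjoint_powers_iff_notMem_of_isPrime v).mpr hv
  let p' : Ideal (Localization.Away v) := P.map (algebraMap R' _)
  haveI hp'p : p'.IsPrime := IsLocalization.isPrime_of_isPrime_disjoint (.powers v) _ _ hPp hdisjv
  have hp'P : p'.comap (algebraMap R' _) = P :=
    IsLocalization.under_map_of_isPrime_disjoint (.powers v) _ hPp hdisjv
  have hTRp' : TrivRes P p' := by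
    have := trivRes_of_isLocalization (Submonoid.powers v) p'
    rwa [hp'P] at this
  refine ⟨Localization.Away v, inferInstance, inferInstance, p', C', inferInstance, algBC', algSC',
    algS'C', h', hEtS, hp'p, hTR.trans hTRp', hEtBC, towSS', towSB, ?_, hfinal, ?_⟩
  · obtain ⟨d, hd⟩ := hsb
    have h1 : IsUnit (algebraMap (R' ⊗[S] B) C' b) := IsLocalization.Away.algebraMap_isUnit b
    rw [hd, map_mul] at h1
    exact isUnit_of_mul_isUnit_left h1
  · intro n₀ hn₀p hn₀ hle
    obtain ⟨N₀, hN₀p, hN₀P, hN₀B⟩ := exists_prime_tensor p P hTR n₀ hn₀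
    have hN₀₁ : N₀ ≤ N₁ := prime_tensor_le p P hTR N₀ N₁ hN₀P hN₁P (by
      rw [hN₀B, hN₁B]; exact hle)
    have hdisjb : Disjoint (Submonoid.powers b : Set (R' ⊗[S] B)) N₀ :=
      (Ideal.disjoint_powers_iff_notMem_of_isPrime b).mpr fun h => hb (hN₀₁ h)
    let n₀' : Ideal C' := N₀.map (algebraMap (R' ⊗[S] B) C')
    haveI hn₀'p : n₀'.IsPrime :=
      IsLocalization.isPrime_of_isPrime_disjoint (.powers b) _ _ hN₀p hdisjb
    have hn₀'N : n₀'.comap (algebraMap (R' ⊗[S] B) C') = N₀ :=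
      IsLocalization.under_map_of_isPrime_disjoint (.powers b) _ hN₀p hdisjb
    refine ⟨n₀', hn₀'p, ?_, ?_⟩
    · have h1 : (n₀'.comap (algebraMap (Localization.Away v) C')).comap
          (algebraMap R' (Localization.Away v)) = p'.comap (algebraMap R' _) := by
        rw [Ideal.comap_comap, ← IsScalarTower.algebraMap_eq, hp'P,
          IsScalarTower.algebraMap_eq R' (R' ⊗[S] B) C', ← Ideal.comap_comap, hn₀'N, hN₀P]
      haveI : (n₀'.comap (algebraMap (Localization.Away v) C')).IsPrime :=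
        Ideal.comap_isPrime _ _
      exact comap_injective_of_away v _ _ h1
    · have h1 : TrivRes n₀ N₀ := by
        refine ⟨hN₀B, fun x => ?_⟩
        obtain ⟨a, b, hb, hx⟩ := trivRes_tensor p P hTR N₀ hN₀P x
        rw [hN₀B] at hb
        exact ⟨a, b, hb, hx⟩
      have h2 : TrivRes N₀ n₀' := by
        have := trivRes_of_isLocalization (Submonoid.powers b) n₀'
        rwa [hn₀'N] at this
      exact h1.trans h2

end K837.RC
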