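import Groth.Agent.MovLem.K837.RC5

set_option autoImplicit false
set_option linter.style.haveILetI false
universe u v
open Polynomial TensorProduct

/-! Relative curves: choice of the divisor. -/

namespace K837.RC

section Choice

variable {S B : Type u} [CommRing S] [CommRing B] [Algebra S B]

/-- distinct generic primes are comaximal up to a polynomial in `t` -/
lemma exists_poly_sup (p : Ideal S) [p.IsPrime] (t : B)
    (hfin : (aeval t : S[X] →ₐ[S] B).toRingHom.Finite) (ξ ξ' : Ideal B) [ξ.IsPrime] [ξ'.IsPrime]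
    (hξ : ξ.comap (aeval t : S[X] →ₐ[S] B).toRingHom = p.map (C : S →+* S[X]))
    (hξ' : ξ'.comap (aeval t : S[X] →ₐ[S] B).toRingHom = p.map (C : S →+* S[X]))
    (hne : ξ ≠ ξ') : ∃ F : S[X], F ∉ p.map (C : S →+* S[X]) ∧ aeval t F ∈ ξ ⊔ ξ' := by
  letI algB : Algebra S[X] B := (aeval t : S[X] →ₐ[S] B).toRingHom.toAlgebra
  haveI : Module.Finite S[X] B := hfin
  haveI : Algebra.IsIntegral S[X] B := Algebra.IsIntegral.of_finite _ _
  by_contra hcon
  push Not at hcon
  have h1 : (ξ ⊔ ξ').comap (algebraMap S[X] B) ≤ p.map (C : S →+* S[X]) := by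
    intro F hF
    by_contra hF'
    exact hcon F hF' hF
  obtain ⟨Q, hQ, hQp, hQc⟩ := Ideal.exists_ideal_over_prime_of_isIntegral
    (p.map (C : S →+* S[X])) (ξ ⊔ ξ') h1
  have key : ∀ η : Ideal B, η.IsPrime →
      η.comap (algebraMap S[X] B) = p.map (C : S →+* S[X]) → η ≤ Q → η = Q := by
    intro η hη hηc hle
    by_contra hne
    have hlt : η < Q := lt_of_le_of_ne hle hne
    have := Ideal.IsIntegral.comap_lt_comap (R := S[X]) hlt
    rw [hηc, hQc] at this
    exact lt_irrefl _ this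
  exact hne ((key ξ ‹_› hξ (le_sup_left.trans hQ)).trans
    (key ξ' ‹_› hξ' (le_sup_right.trans hQ)).symm)

lemma algM_poly (p : Ideal S) [p.IsPrime] (ξ : Ideal B) [ξ.IsPrime]
    (hξ : ξ.comap (algebraMap S B) = p) (t : B) (P : S[X]) (h : AlgM p ξ t) :
    AlgM p ξ (aeval t P) := by
  let L := ξ.ResidueField
  let ρ : B →+* L := algebraMap B L
  have hρ : RingHom.ker ρ = ξ := Ideal.ker_algebraMap_residueField ξ
  rw [algM_iff p ξ _ ρ hρ hξ] at h ⊢
  have : ρ (aeval t P) = eval₂RingHom (ρ.comp (algebraMap S B)) (ρ t) P := by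
    rw [aeval_def, Polynomial.hom_eval₂]; rfl
  rw [this]
  exact isAlgebraic_eval₂ _ _ h P

/-- choice of the polynomial -/
lemma exists_good_poly (p : Ideal S) [p.IsPrime] (n₁ : Ideal B) [n₁.IsPrime]
    (hn₁ : n₁.comap (algebraMap S B) = p) (t : B)
    (hfin : (aeval t : S[X] →ₐ[S] B).toRingHom.Finite) (halg : AlgM p n₁ t) :
    ∃ P : S[X], P.leadingCoeff ∉ p ∧ 0 < P.natDegree ∧ aeval t P ∉ n₁ ∧
      ∀ ξ ξ' n : Ideal B, ξ.IsPrime → ξ'.IsPrime → n.IsPrime →
        ξ.comap (algebraMap S B) = p → ξ'.comap (algebraMap S B) = p →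
        n.comap (algebraMap S B) = p → ξ ≤ n → ξ' ≤ n → aeval t P ∈ n →
        ¬ AlgM p ξ (aeval t P) → ¬ AlgM p ξ' (aeval t P) → ξ = ξ' := by
  classical
  letI algB : Algebra S[X] B := (aeval t : S[X] →ₐ[S] B).toRingHom.toAlgebra
  haveI : Module.Finite S[X] B := hfin
  have hfinset : ((p.map (C : S →+* S[X])).primesOver B).Finite :=
    Algebra.QuasiFinite.finite_primesOver _
  let T := hfinset.toFinset
  have hT : ∀ ξ : Ideal B, ξ ∈ T ↔ ξ.IsPrime ∧
      ξ.comap (aeval t : S[X] →ₐ[S] B).toRingHom = p.map (C : S →+* S[X]) := by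
    intro ξ
    rw [Set.Finite.mem_toFinset]
    constructor
    · rintro ⟨h1, h2⟩
      exact ⟨h1, h2.over.symm⟩
    · rintro ⟨h1, h2⟩
      exact ⟨h1, ⟨h2.symm⟩⟩
  have hF : ∀ q : Ideal B × Ideal B, ∃ F : S[X], F ∉ p.map (C : S →+* S[X]) ∧
      (q.1 ∈ T → q.2 ∈ T → q.1 ≠ q.2 → aeval t F ∈ q.1 ⊔ q.2) := by
    intro q
    by_cases h : q.1 ∈ T ∧ q.2 ∈ T ∧ q.1 ≠ q.2
    · obtain ⟨h1, h2, h3⟩ := h
      haveI := ((hT _).mp h1).1
      haveI := ((hT _).mp h2).1
      obtain ⟨F, hF, hF'⟩ := exists_poly_sup p t hfin q.1 q.2 ((hT _).mp h1).2 ((hT _).mp h2).2 h3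
      exact ⟨F, hF, fun _ _ _ => hF'⟩
    · refine ⟨1, fun h1 => ?_, fun h1 h2 h3 => absurd ⟨h1, h2, h3⟩ h⟩
      have hp : (p.map (C : S →+* S[X])).IsPrime := inferInstance
      exact hp.one_notMem h1
  choose Fq hFq hFq' using hF
  obtain ⟨F₀, hF₀, hF₀'⟩ := halg
  have hpX : (p.map (C : S →+* S[X])).IsPrime := inferInstance
  let F : S[X] := F₀ * ∏ q ∈ T ×ˢ T, Fq q
  have hFp : F ∉ p.map (C : S →+* S[X]) := by
    intro h
    rcases hpX.mem_or_mem h with h1 | h1
    · exact hF₀ h1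
    · obtain ⟨q, _, hq⟩ := (hpX.prod_mem_iff).mp h1
      exact hFq q hq
  obtain ⟨G, hG, hGF⟩ := exists_lc_not_mem p F hFp
  have hFG : ∀ I : Ideal B, p ≤ I.comap (algebraMap S B) → aeval t F ∈ I → aeval t G ∈ I := by
    intro I hI hFI
    have h1 : aeval t G = aeval t F - aeval t (F - G) := by rw [map_sub, sub_sub_cancel]
    rw [h1]
    refine I.sub_mem hFI ?_
    have h2 := aeval_mem_map p t _ hGF
    exact (Ideal.map_le_iff_le_comap.mpr hI) h2
  set u := G.leadingCoeff with hu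
  have hu0 : u ≠ 0 := fun h0 => hG (by rw [h0]; exact p.zero_mem)
  haveI : Nontrivial S := ⟨⟨u, 0, hu0⟩⟩
  have hG0 : G ≠ 0 := fun h0 => hu0 (by rw [hu, h0, leadingCoeff_zero])
  let P : S[X] := X * G + C u
  have hdeg1 : (X * G).natDegree = G.natDegree + 1 := natDegree_X_mul hG0
  have hdegC : (C u : S[X]).natDegree < (X * G).natDegree := by
    rw [natDegree_C, hdeg1]; omega
  have hPdeg : P.natDegree = G.natDegree + 1 := by
    rw [← hdeg1]
    exact natDegree_add_eq_left_of_natDegree_lt hdegC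
  have hPlc : P.leadingCoeff = u := by
    have h1 : P.leadingCoeff = (X * G).leadingCoeff :=
      leadingCoeff_add_of_degree_lt' (degree_lt_degree hdegC)
    rw [h1, leadingCoeff_monic_mul monic_X]
  have hPt : aeval t P = t * aeval t G + algebraMap S B u := by
    simp only [P, map_add, map_mul, aeval_X, aeval_C]
  have hnot : ∀ n : Ideal B, n.IsPrime → n.comap (algebraMap S B) = p → aeval t F ∈ n →
      aeval t P ∉ n := by
    intro n hn hnp hFn hPn
    have h1 := hFG n hnp.ge hFn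
    rw [hPt] at hPn
    have h2 : algebraMap S B u ∈ n := (n.add_mem_iff_right (n.mul_mem_left t h1)).mp hPn
    exact hG (by rw [← hnp]; exact h2)
  refine ⟨P, by rw [hPlc]; exact hG, by rw [hPdeg]; omega, ?_, ?_⟩
  · refine hnot n₁ ‹_› hn₁ ?_
    simp only [F, map_mul]
    exact n₁.mul_mem_right _ hF₀'
  · intro ξ ξ' n hξp hξ'p hnp hξ hξ' hn hξn hξ'n hPn hξP hξ'P
    by_contra hne
    have h1 : ξ ∈ T := (hT ξ).mpr ⟨hξp, (comap_aeval_eq p ξ t hξ).mpr
      fun h => hξP (algM_poly p ξ hξ t P h)⟩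
    have h2 : ξ' ∈ T := (hT ξ').mpr ⟨hξ'p, (comap_aeval_eq p ξ' t hξ').mpr
      fun h => hξ'P (algM_poly p ξ' hξ' t P h)⟩
    refine hnot n hnp hn ?_ hPn
    have h3 : aeval t (Fq (ξ, ξ')) ∈ n := (sup_le hξn hξ'n) (hFq' (ξ, ξ') h1 h2 hne)
    have h4 : aeval t (∏ q ∈ T ×ˢ T, Fq q) ∈ n := by
      rw [map_prod]
      exact Ideal.mem_of_dvd n (Finset.dvd_prod_of_mem _
        (Finset.mem_product.mpr ⟨h1, h2⟩ : (ξ, ξ') ∈ T ×ˢ T)) h3
    simp only [F, map_mul]
    exact n.mul_mem_left _ h4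

end Choice

lemma algM_map {S B S₁ B₁ : Type*} [CommRing S] [CommRing B] [CommRing S₁] [CommRing B₁]
    [Algebra S B] [Algebra S S₁] [Algebra B B₁] [Algebra S₁ B₁] [Algebra S B₁]
    [IsScalarTower S B B₁] [IsScalarTower S S₁ B₁]
    (p : Ideal S) (P : Ideal S₁) (hP : P.comap (algebraMap S S₁) = p)
    (N : Ideal B₁) (g : B) (h : AlgM p (N.comap (algebraMap B B₁)) g) :
    AlgM P N (algebraMap B B₁ g) := by
  obtain ⟨F, hF, h0⟩ := h
  refine ⟨F.map (algebraMap S S₁), fun h1 => hF ?_, ?_⟩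
  · rw [Ideal.mem_map_C_iff] at h1 ⊢
    intro n
    have := h1 n
    rw [coeff_map] at this
    rw [← hP]
    exact this
  · rw [aeval_map_algebraMap, aeval_algebraMap_apply]
    exact h0

/-- an algebra generated by integral things -/
lemma finite_of_localization {S B S₁ B₁ : Type u} [CommRing S] [CommRing B] [CommRing S₁]
    [CommRing B₁] [Algebra S B] [Algebra S S₁] [Algebra B B₁] [Algebra S₁ B₁] [Algebra S B₁]
    [IsScalarTower S B B₁] [IsScalarTower S S₁ B₁] (u : S) (hu : IsUnit (algebraMap S S₁ u))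
    [IsLocalization.Away (algebraMap S B u) B₁] (t : B)
    (hfin : (aeval t : S[X] →ₐ[S] B).toRingHom.Finite) (P : S[X]) (hlc : P.leadingCoeff = u)
    (hdeg : 0 < P.natDegree) :
    (aeval (algebraMap B B₁ (aeval t P)) : S₁[X] →ₐ[S₁] B₁).toRingHom.Finite := by
  set g₁ : B₁ := algebraMap B B₁ (aeval t P) with hg₁
  letI algg : Algebra S₁[X] B₁ := (aeval g₁ : S₁[X] →ₐ[S₁] B₁).toRingHom.toAlgebra
  haveI : IsScalarTower S₁ S₁[X] B₁ := IsScalarTower.of_algebraMap_eq fun x => by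
    change _ = aeval g₁ (C x)
    rw [aeval_C]
  let I₀ : Subalgebra S₁[X] B₁ := integralClosure S₁[X] B₁
  have hS₁ : ∀ s : S₁, algebraMap S₁ B₁ s ∈ I₀ := fun s => by
    rw [IsScalarTower.algebraMap_apply S₁ S₁[X] B₁]; exact I₀.algebraMap_mem _
  have hS : ∀ s : S, algebraMap S B₁ s ∈ I₀ := fun s => by
    rw [IsScalarTower.algebraMap_apply S S₁ B₁]; exact hS₁ _
  have ht : algebraMap B B₁ t ∈ I₀ := by
    let ψ : S₁[X] →+* B₁ := (aeval g₁ : S₁[X] →ₐ[S₁] B₁).toRingHom
    let ι : S →+* S₁[X] := C.comp (algebraMap S S₁)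
    have hψι : ψ.comp ι = (algebraMap B B₁).comp (algebraMap S B) := by
      ext s
      change aeval g₁ (C (algebraMap S S₁ s)) = _
      rw [aeval_C, ← IsScalarTower.algebraMap_apply, RingHom.comp_apply,
        ← IsScalarTower.algebraMap_apply]
    have hψX : ψ X = g₁ := aeval_X g₁
    have : ψ.IsIntegralElem (algebraMap B B₁ t) := by
      refine integralElem_of_coeff_isUnit ψ _ (P.map ι - C X) P.natDegree ?_ ?_ ?_
      · refine (natDegree_sub_le _ _).trans (max_le natDegree_map_le ?_)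
        rw [natDegree_C]; exact Nat.zero_le _
      · rw [coeff_sub, coeff_map, coeff_C, if_neg hdeg.ne', sub_zero]
        have : P.coeff P.natDegree = u := hlc
        rw [this]
        exact hu.map (C : S₁ →+* S₁[X])
      · rw [eval₂_sub, eval₂_map, hψι, eval₂_C, hψX, ← Polynomial.hom_eval₂, hg₁, aeval_def,
          sub_self]
    exact this
  have hF : ∀ F : S[X], algebraMap B B₁ (aeval t F) ∈ I₀ := by
    intro F
    rw [aeval_def, Polynomial.hom_eval₂, eval₂_eq_sum_range]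
    refine sum_mem fun i _ => mul_mem ?_ (pow_mem ht _)
    rw [RingHom.comp_apply, ← IsScalarTower.algebraMap_apply]
    exact hS _
  have hB : ∀ a : B, algebraMap B B₁ a ∈ I₀ := by
    intro a
    have h2 : IsIntegral I₀ (algebraMap B B₁ a) := by
      obtain ⟨Q, hQ, h0⟩ := hfin.to_isIntegral a
      refine ⟨Q.map (((algebraMap B B₁).comp (aeval t : S[X] →ₐ[S] B).toRingHom).codRestrict
        I₀.toSubring hF), hQ.map _, ?_⟩
      rw [eval₂_map]
      have h3 : (algebraMap I₀ B₁).comp (((algebraMap B B₁).comp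
          (aeval t : S[X] →ₐ[S] B).toRingHom).codRestrict I₀.toSubring hF) =
          (algebraMap B B₁).comp (aeval t : S[X] →ₐ[S] B).toRingHom := by ext <;> rfl
      rw [h3, ← Polynomial.hom_eval₂, h0, map_zero]
    exact isIntegral_trans (R := S₁[X]) _ h2
  have hint' : (aeval g₁ : S₁[X] →ₐ[S₁] B₁).toRingHom.IsIntegral := by
    intro y
    obtain ⟨⟨a, ⟨_, n, rfl⟩⟩, hy⟩ := IsLocalization.surj (Submonoid.powers (algebraMap S B u)) y
    obtain ⟨w, hw⟩ := hu
    have hvw : algebraMap S B₁ u * algebraMap S₁ B₁ (↑w⁻¹) = 1 := by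
      rw [IsScalarTower.algebraMap_apply S S₁ B₁, ← hw, ← map_mul, Units.mul_inv, map_one]
    have h1 : y * (algebraMap S B₁ u) ^ n = algebraMap B B₁ a := by
      rw [← hy, map_pow, ← IsScalarTower.algebraMap_apply S B B₁]
    have h2 : y = algebraMap B B₁ a * (algebraMap S₁ B₁ (↑w⁻¹)) ^ n := by
      rw [← h1, mul_assoc, ← mul_pow, hvw, one_pow, mul_one]
    have h3 : y ∈ I₀ := by
      rw [h2]
      exact mul_mem (hB _) (pow_mem (hS₁ _) _)
    exact h3
  refine hint'.to_finite ?_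
  letI algt : Algebra S[X] B := (aeval t : S[X] →ₐ[S] B).toRingHom.toAlgebra
  haveI : IsScalarTower S S[X] B := IsScalarTower.of_algebraMap_eq fun x => by
    change _ = aeval t (C x)
    rw [aeval_C]
  haveI : Module.Finite S[X] B := hfin
  haveI : Algebra.FiniteType S B := Algebra.FiniteType.trans (S := S[X]) inferInstance inferInstance
  haveI : Algebra.FinitePresentation B B₁ :=
    IsLocalization.Away.finitePresentation (algebraMap S B u)
  haveI : Algebra.FiniteType B B₁ := inferInstance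
  haveI : Algebra.FiniteType S B₁ := Algebra.FiniteType.trans (S := B) inferInstance inferInstance
  haveI : Algebra.FiniteType S₁ B₁ := Algebra.FiniteType.of_restrictScalars_finiteType S S₁ B₁
  have : Algebra.FiniteType S₁[X] B₁ :=
    Algebra.FiniteType.of_restrictScalars_finiteType S₁ S₁[X] B₁
  exact this

theorem stage1 {S B : Type u} [CommRing S] [IsNoetherianRing S] [CommRing B] [Algebra S B]
    (p : Ideal S) [hpp : p.IsPrime] (n₁ : Ideal B) [hn₁p : n₁.IsPrime]
    (hn₁ : n₁.comap (algebraMap S B) = p)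
    (t s₀ : B) (hfin : (aeval t : S[X] →ₐ[S] B).toRingHom.Finite) (halg : AlgM p n₁ t)
    (hs₀ : s₀ ∉ n₁) : Concl S B p n₁ s₀ := by
  obtain ⟨P, hPlc, hPdeg, hPn₁, hpair⟩ := exists_good_poly p n₁ hn₁ t hfin halg
  set u := P.leadingCoeff with hu
  let S₁ := Localization.Away u
  let B₁ := Localization.Away (algebraMap S B u)
  have huB₁ : IsUnit (algebraMap S B₁ u) := by
    rw [IsScalarTower.algebraMap_apply S B B₁]
    exact IsLocalization.Away.algebraMap_isUnit (algebraMap S B u)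
  letI algS₁B₁ : Algebra S₁ B₁ := (IsLocalization.Away.lift u huB₁).toAlgebra
  haveI tow : IsScalarTower S S₁ B₁ := IsScalarTower.of_algebraMap_eq fun x =>
    (IsLocalization.Away.lift_eq u huB₁ x).symm
  haveI : IsNoetherianRing S₁ := IsLocalization.isNoetherianRing (.powers u) S₁ inferInstance
  have huS₁ : IsUnit (algebraMap S S₁ u) := IsLocalization.Away.algebraMap_isUnit u
  set g₀ : B := aeval t P with hg₀
  have hfin₁ : (aeval (algebraMap B B₁ g₀) : S₁[X] →ₐ[S₁] B₁).toRingHom.Finite :=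
    finite_of_localization u huS₁ t hfin P rfl hPdeg
  -- primes
  have hun₁ : algebraMap S B u ∉ n₁ := fun h => hPlc (by rw [← hn₁]; exact h)
  have hdisju : Disjoint (Submonoid.powers u : Set S) p :=
    (Ideal.disjoint_powers_iff_notMem_of_isPrime u).mpr hPlc
  let p₁ : Ideal S₁ := p.map (algebraMap S S₁)
  haveI hp₁p : p₁.IsPrime := IsLocalization.isPrime_of_isPrime_disjoint (.powers u) _ _ hpp hdisju
  have hp₁ : p₁.comap (algebraMap S S₁) = p :=
    IsLocalization.under_map_of_isPrime_disjoint (.powers u) _ hpp hdisju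
  have hTRp : TrivRes p p₁ := by
    have := trivRes_of_isLocalization (Submonoid.powers u) p₁
    rwa [hp₁] at this
  have hprimes : ∀ n : Ideal B, n.IsPrime → n.comap (algebraMap S B) = p →
      (n.map (algebraMap B B₁)).IsPrime ∧ (n.map (algebraMap B B₁)).comap (algebraMap B B₁) = n ∧
      (n.map (algebraMap B B₁)).comap (algebraMap S₁ B₁) = p₁ ∧
      TrivRes n (n.map (algebraMap B B₁)) := by
    intro n hn hnp
    have hun : algebraMap S B u ∉ n := fun h => hPlc (by rw [← hnp]; exact h)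
    have hdisj : Disjoint (Submonoid.powers (algebraMap S B u) : Set B) n :=
      (Ideal.disjoint_powers_iff_notMem_of_isPrime _).mpr hun
    haveI h1 : (n.map (algebraMap B B₁)).IsPrime :=
      IsLocalization.isPrime_of_isPrime_disjoint (.powers (algebraMap S B u)) _ _ hn hdisj
    have h2 : (n.map (algebraMap B B₁)).comap (algebraMap B B₁) = n :=
      IsLocalization.under_map_of_isPrime_disjoint (.powers (algebraMap S B u)) _ hn hdisj
    refine ⟨h1, h2, ?_, ?_⟩
    · haveI : ((n.map (algebraMap B B₁)).comap (algebraMap S₁ B₁)).IsPrime :=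
        Ideal.comap_isPrime _ _
      refine comap_injective_of_away u _ _ ?_
      rw [Ideal.comap_comap, ← IsScalarTower.algebraMap_eq, hp₁,
        IsScalarTower.algebraMap_eq S B B₁, ← Ideal.comap_comap, h2, hnp]
    · have := trivRes_of_isLocalization (Submonoid.powers (algebraMap S B u))
        (n.map (algebraMap B B₁))
      rwa [h2] at this
  obtain ⟨hN₁p, hN₁B, hN₁S, -⟩ := hprimes n₁ hn₁p hn₁
  set N₁ := n₁.map (algebraMap B B₁) with hN₁
  have hcontr : ∀ ξ : Ideal B₁, ξ.comap (algebraMap S₁ B₁) = p₁ →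
      (ξ.comap (algebraMap B B₁)).comap (algebraMap S B) = p := by
    intro ξ hξ
    rw [Ideal.comap_comap, ← IsScalarTower.algebraMap_eq, IsScalarTower.algebraMap_eq S S₁ B₁,
      ← Ideal.comap_comap, hξ, hp₁]
  obtain ⟨S', _, algS₁S', p', C', _, algB₁C', algS₁C', algS'C', h', hEt, hp'p, hTR, hEtC, tow1, tow2,
      hunit, hfinal, hlift⟩ := stage2 p₁ N₁ hN₁S (algebraMap B B₁ g₀) (algebraMap B B₁ s₀) hfin₁
    (algM_map p p₁ hp₁ N₁ g₀ (by
      rw [hN₁B]
      exact algM_poly p n₁ hn₁ t P halg))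
    (fun h => hPn₁ (by rw [← hN₁B]; exact h))
    (fun h => hs₀ (by rw [← hN₁B]; exact h))
    (by
      intro ξ ξ' n hξp hξ'p hnp hξ hξ' hn hξn hξ'n hgn hξg hξ'g hle
      have h1 : ξ.comap (algebraMap B B₁) = ξ'.comap (algebraMap B B₁) :=
        hpair _ _ (n.comap (algebraMap B B₁)) (Ideal.comap_isPrime _ _) (Ideal.comap_isPrime _ _)
          (Ideal.comap_isPrime _ _) (hcontr ξ hξ) (hcontr ξ' hξ') (hcontr n hn)
          (Ideal.comap_mono hξn) (Ideal.comap_mono hξ'n) hgn
          (fun h => hξg (algM_map p p₁ hp₁ ξ g₀ h)) (fun h => hξ'g (algM_map p p₁ hp₁ ξ' g₀ h))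
      rw [← comap_injective_of_away (algebraMap S B u) ξ ξ' h1]
      exact hle)
  letI algSS' : Algebra S S' := ((algebraMap S₁ S').comp (algebraMap S S₁)).toAlgebra
  haveI tow3 : IsScalarTower S S₁ S' := IsScalarTower.of_algebraMap_eq fun x => rfl
  letI algBC' : Algebra B C' := ((algebraMap B₁ C').comp (algebraMap B B₁)).toAlgebra
  haveI tow4 : IsScalarTower B B₁ C' := IsScalarTower.of_algebraMap_eq fun x => rfl
  letI algSC' : Algebra S C' := ((algebraMap S₁ C').comp (algebraMap S S₁)).toAlgebra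
  haveI tow5 : IsScalarTower S S₁ C' := IsScalarTower.of_algebraMap_eq fun x => rfl
  haveI tow6 : IsScalarTower S S' C' := IsScalarTower.of_algebraMap_eq fun x => by
    rw [IsScalarTower.algebraMap_apply S S₁ C', IsScalarTower.algebraMap_apply S S₁ S',
      ← IsScalarTower.algebraMap_apply S₁ S' C']
  haveI tow7 : IsScalarTower S B C' := IsScalarTower.of_algebraMap_eq fun x => by
    rw [IsScalarTower.algebraMap_apply B B₁ C', ← IsScalarTower.algebraMap_apply S B B₁,
      IsScalarTower.algebraMap_apply S S₁ C', IsScalarTower.algebraMap_apply S S₁ B₁,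
      ← IsScalarTower.algebraMap_apply S₁ B₁ C']
  haveI hEtS : Algebra.Etale S S₁ := Algebra.Etale.of_isLocalizationAway u
  haveI hEtB : Algebra.Etale B B₁ := Algebra.Etale.of_isLocalizationAway (algebraMap S B u)
  haveI hEtS' : Algebra.Etale S S' := Algebra.Etale.comp S S₁ S'
  haveI hEtC' : Algebra.Etale B C' := Algebra.Etale.comp B B₁ C'
  refine ⟨S', inferInstance, algSS', p', C', inferInstance, algBC', algSC', algS'C', h', hEtS',
    hp'p, hTRp.trans hTR, hEtC', tow6, tow7, hunit, hfinal, ?_⟩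
  intro n₀ hn₀p hn₀ hle
  obtain ⟨h1, h2, h3, h4⟩ := hprimes n₀ hn₀p hn₀
  obtain ⟨n₀', hn₀'p, hn₀'S, hn₀'T⟩ := hlift _ h1 h3 (Ideal.map_mono hle)
  exact ⟨n₀', hn₀'p, hn₀'S, h4.trans hn₀'T⟩

end K837.RC
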