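import Groth.Agent.MovLem.K837.RC6

set_option autoImplicit false
set_option linter.style.haveILetI false
universe u v
open Polynomial TensorProduct

/-! Relative curves: the local structure theorem. -/

namespace K837.RC

/-- Zariski's main theorem in the form used here -/
lemma exists_finite_subalgebra {S D : Type u} [CommRing S] [CommRing D] [Algebra S D]
    [Algebra.FiniteType S D] (q : Ideal D) [hqp : q.IsPrime] (t : D)
    (hqf : letI : Algebra S[X] D := (aeval t : S[X] →ₐ[S] D).toRingHom.toAlgebra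
      Algebra.QuasiFiniteAt S[X] q) :
    ∃ (B : Subalgebra S D) (ht : t ∈ B) (s₀ : B), (s₀ : D) ∉ q ∧
      (aeval (⟨t, ht⟩ : B) : S[X] →ₐ[S] B).toRingHom.Finite ∧
      ∀ x : D, ∃ n : ℕ, (s₀ : D) ^ n * x ∈ B := by
  letI algh : Algebra S[X] D := (aeval t : S[X] →ₐ[S] D).toRingHom.toAlgebra
  haveI : IsScalarTower S S[X] D := IsScalarTower.of_algebraMap_eq fun x => by
    change _ = aeval t (C x)
    rw [aeval_C]
  haveI : Algebra.FiniteType S[X] D :=
    Algebra.FiniteType.of_restrictScalars_finiteType S S[X] D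
  haveI : Algebra.QuasiFiniteAt S[X] q := hqf
  obtain ⟨A'', hA''fg, r, hrm, hbij⟩ :=
    Algebra.QuasiFiniteAt.exists_fg_and_exists_notMem_and_awayMap_bijective (R := S[X]) q
  let A : Subalgebra S D := A''.restrictScalars S
  have hhA : t ∈ A := by
    have h1 : algebraMap S[X] D X ∈ A'' := A''.algebraMap_mem X
    have h2 : algebraMap S[X] D X = t := aeval_X t
    rw [h2] at h1
    exact h1
  let hA : A := ⟨t, hhA⟩
  have haev : ∀ F : S[X], ((aeval hA F : A) : D) = aeval t F := fun F => by
    have h1 : algebraMap A D (aeval hA F) = aeval (algebraMap A D hA) F :=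
      (aeval_algebraMap_apply D hA F).symm
    exact h1
  refine ⟨A, hhA, ⟨r.1, r.2⟩, hrm, ?_, ?_⟩
  · haveI : Module.Finite S[X] A'' := ⟨(Submodule.fg_top _).mpr hA''fg⟩
    let ι : A'' →+* A :=
      { toFun := fun x => ⟨x.1, x.2⟩
        map_one' := rfl
        map_mul' := fun _ _ => rfl
        map_zero' := rfl
        map_add' := fun _ _ => rfl }
    have hι : Function.Surjective ι := fun x => ⟨⟨x.1, x.2⟩, rfl⟩
    have h1 : (ι.comp (algebraMap S[X] A'')).Finite :=
      RingHom.Finite.comp (RingHom.Finite.of_surjective ι hι)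
        (RingHom.finite_algebraMap.mpr inferInstance)
    have h2 : (aeval hA : S[X] →ₐ[S] A).toRingHom = ι.comp (algebraMap S[X] A'') := by
      ext F
      · exact (haev _)
      · exact (haev _)
    rw [h2]
    exact h1
  · intro x
    obtain ⟨y, n, hy⟩ := Localization.awayMap_surjective_iff.mp hbij.2 x
    refine ⟨n, ?_⟩
    have h1 : ((r : D)) ^ n * x = (y : D) := hy.symm
    change (r : D) ^ n * x ∈ A
    rw [h1]
    exact y.2

/-- a specialization closed in its fibre -/
lemma exists_closed_specialization {S B : Type u} [CommRing S] [CommRing B] [Algebra S B]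
    [Algebra.FiniteType S B] (p : Ideal S) [p.IsPrime] (n₀ : Ideal B) [hn₀p : n₀.IsPrime]
    (hn₀ : n₀.comap (algebraMap S B) = p) (s₀ : B) (hs₀ : s₀ ∉ n₀) (t : B) :
    ∃ n₁ : Ideal B, n₁.IsPrime ∧ n₁.comap (algebraMap S B) = p ∧ n₀ ≤ n₁ ∧ s₀ ∉ n₁ ∧
      AlgM p n₁ t := by
  let D := Localization.Away s₀
  haveI : Algebra.FinitePresentation B D := IsLocalization.Away.finitePresentation s₀
  haveI : Algebra.FiniteType S D := Algebra.FiniteType.trans (S := B) inferInstance inferInstance
  have hdisj : Disjoint (Submonoid.powers s₀ : Set B) n₀ :=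
    (Ideal.disjoint_powers_iff_notMem_of_isPrime s₀).mpr hs₀
  let n : Ideal D := n₀.map (algebraMap B D)
  haveI hnp : n.IsPrime := IsLocalization.isPrime_of_isPrime_disjoint (.powers s₀) _ _ hn₀p hdisj
  have hnB : n.comap (algebraMap B D) = n₀ :=
    IsLocalization.under_map_of_isPrime_disjoint (.powers s₀) _ hn₀p hdisj
  have hnS : n.comap (algebraMap S D) = p := by
    rw [IsScalarTower.algebraMap_eq S B D, ← Ideal.comap_comap, hnB, hn₀]
  let e := PrimeSpectrum.primesOverOrderIsoFiber S D p
  let x : PrimeSpectrum (p.Fiber D) := e ⟨n, hnp, ⟨hnS.symm⟩⟩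
  obtain ⟨M, hM, hxM⟩ := Ideal.exists_le_maximal x.asIdeal x.2.ne_top
  let y : p.primesOver D := e.symm ⟨M, hM.isPrime⟩
  have hny : n ≤ y.1 := by
    have h1 : (⟨n, hnp, ⟨hnS.symm⟩⟩ : p.primesOver D) ≤ y := by
      rw [← e.le_iff_le, e.apply_symm_apply]
      exact hxM
    exact h1
  have hyp : y.1.IsPrime := y.2.1
  have hyS : y.1.comap (algebraMap S D) = p := y.2.2.over.symm
  have hyM : y.1 = M.comap (Algebra.TensorProduct.includeRight : D →ₐ[S] p.Fiber D) := rfl
  refine ⟨y.1.comap (algebraMap B D), Ideal.comap_isPrime _ _, ?_, ?_, ?_, ?_⟩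
  · rw [Ideal.comap_comap, ← IsScalarTower.algebraMap_eq, hyS]
  · rw [← hnB]; exact Ideal.comap_mono hny
  · intro h
    have h1 : IsUnit (algebraMap B D s₀) := IsLocalization.Away.algebraMap_isUnit s₀
    exact hyp.ne_top (Ideal.eq_top_of_isUnit_mem _ h h1)
  · let L := p.Fiber D ⧸ M
    letI : Field L := Ideal.Quotient.field M
    haveI : Algebra.FiniteType p.ResidueField L :=
      Algebra.FiniteType.trans (S := p.Fiber D) inferInstance inferInstance
    haveI : Module.Finite p.ResidueField L :=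
      finite_of_finite_type_of_isJacobsonRing p.ResidueField L
    let ρD : D →+* L := (Ideal.Quotient.mk M).comp
      (Algebra.TensorProduct.includeRight : D →ₐ[S] p.Fiber D).toRingHom
    have hρD : RingHom.ker ρD = y.1 := by
      rw [hyM, ← RingHom.comap_ker, Ideal.mk_ker]
      rfl
    let ρ : B →+* L := ρD.comp (algebraMap B D)
    have hρ : RingHom.ker ρ = y.1.comap (algebraMap B D) := by
      rw [← RingHom.comap_ker, hρD]
    rw [algM_iff p _ t ρ hρ (by rw [Ideal.comap_comap, ← IsScalarTower.algebraMap_eq, hyS])]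
    set τ : S →+* L := ρ.comp (algebraMap S B) with hτ
    have hτκ : ∀ s : S, algebraMap p.ResidueField L (algebraMap S p.ResidueField s) = τ s := by
      intro s
      change (Ideal.Quotient.mk M) (algebraMap p.ResidueField (p.Fiber D)
        (algebraMap S p.ResidueField s)) =
        (Ideal.Quotient.mk M) ((Algebra.TensorProduct.includeRight : D →ₐ[S] p.Fiber D)
          (algebraMap B D (algebraMap S B s)))
      rw [← IsScalarTower.algebraMap_apply S p.ResidueField (p.Fiber D),
        ← IsScalarTower.algebraMap_apply S B D, AlgHom.commutes]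
    refine isAlgebraic_of_integralElem τ (algebraMap p.ResidueField L) ?_ _
      (Algebra.IsIntegral.isIntegral (R := p.ResidueField) (ρ t))
    intro z
    obtain ⟨⟨a, b⟩, hab⟩ := IsLocalization.surj (nonZeroDivisors (S ⧸ p)) z
    obtain ⟨a, rfl⟩ := Ideal.Quotient.mk_surjective a
    obtain ⟨b, hb⟩ := b
    obtain ⟨b, rfl⟩ := Ideal.Quotient.mk_surjective b
    have halg : ∀ s : S, IsAlgebraic τ.range (τ s) := fun s =>
      isAlgebraic_algebraMap (⟨τ s, ⟨s, rfl⟩⟩ : τ.range)
    have h1 := congrArg (algebraMap p.ResidueField L) hab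
    rw [map_mul] at h1
    have h2 : ∀ r : S, algebraMap p.ResidueField L
        (algebraMap (S ⧸ p) p.ResidueField (Ideal.Quotient.mk p r)) = τ r := fun r => hτκ r
    rw [h2, h2] at h1
    have hb0 : τ b ≠ 0 := by
      intro h0
      have h3 : b ∈ RingHom.ker τ := h0
      rw [hτ, ← RingHom.comap_ker, hρ, Ideal.comap_comap, ← IsScalarTower.algebraMap_eq,
        hyS] at h3
      rw [mem_nonZeroDivisors_iff_ne_zero] at hb
      exact hb (Ideal.Quotient.eq_zero_iff_mem.mpr h3)
    have h4 : algebraMap p.ResidueField L z = τ a * (τ b)⁻¹ := by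
      rw [← h1, mul_assoc, mul_inv_cancel₀ hb0, mul_one]
    rw [h4]
    exact (halg a).mul (halg b).inv

/-- conclusion of the local structure theorem for relative curves -/
def RCConcl (S D : Type u) [CommRing S] [CommRing D] [Algebra S D] (p : Ideal S) (q : Ideal D) :
    Prop :=
  ∃ (S' : Type u) (_ : CommRing S') (_ : Algebra S S') (p' : Ideal S') (D' : Type u)
    (_ : CommRing D') (_ : Algebra D D') (_ : Algebra S D') (_ : Algebra S' D') (q' : Ideal D')
    (h' : D'),
    Algebra.Etale S S' ∧ p'.IsPrime ∧ TrivRes p p' ∧ Algebra.Etale D D' ∧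
    IsScalarTower S S' D' ∧ IsScalarTower S D D' ∧
    (aeval h' : S'[X] →ₐ[S'] D').toRingHom.Finite ∧
    q'.IsPrime ∧ q'.comap (algebraMap S' D') = p' ∧ TrivRes q q'

/-- **local structure of relative curves**: étale locally with trivial residue extensions, a
relative curve is finite over the affine line over the base -/
theorem RC {S D : Type u} [CommRing S] [IsNoetherianRing S] [CommRing D] [Algebra S D]
    [Algebra.FiniteType S D] (p : Ideal S) [p.IsPrime] (q : Ideal D) [hqp : q.IsPrime]
    (hq : q.comap (algebraMap S D) = p) (t : D)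
    (hqf : letI : Algebra S[X] D := (aeval t : S[X] →ₐ[S] D).toRingHom.toAlgebra
      Algebra.QuasiFiniteAt S[X] q) : RCConcl S D p q := by
  obtain ⟨B, ht, s₀, hs₀, hfin, hsurj⟩ := exists_finite_subalgebra q t hqf
  let tB : B := ⟨t, ht⟩
  haveI : Algebra.FiniteType S B := by
    letI algg : Algebra S[X] B := (aeval tB : S[X] →ₐ[S] B).toRingHom.toAlgebra
    haveI : IsScalarTower S S[X] B := IsScalarTower.of_algebraMap_eq fun x => by
      change _ = aeval tB (C x)
      rw [aeval_C]
    haveI : Module.Finite S[X] B := hfin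
    exact Algebra.FiniteType.trans (S := S[X]) inferInstance inferInstance
  let n₀ : Ideal B := q.comap (algebraMap B D)
  haveI hn₀p : n₀.IsPrime := Ideal.comap_isPrime _ _
  have hn₀ : n₀.comap (algebraMap S B) = p := by
    rw [Ideal.comap_comap, ← IsScalarTower.algebraMap_eq, hq]
  obtain ⟨n₁, hn₁p, hn₁, hle, hs₀n₁, halg⟩ := exists_closed_specialization p n₀ hn₀ s₀ hs₀ tB
  obtain ⟨S', _, algSS', p', D', _, algBD', algSD', algS'D', h', hEtS, hp'p, hTR, hEtB, tow1, tow2,
    hunit, hfinal, hlift⟩ := stage1 p n₁ hn₁ tB s₀ hfin halg hs₀n₁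
  obtain ⟨q', hq'p, hq'S, hq'T⟩ := hlift n₀ hn₀p hn₀ hle
  let Ds := Localization.Away (s₀ : D)
  haveI locB : IsLocalization.Away s₀ Ds := isLocalization_of_sub B s₀ s₀ dvd_rfl hsurj Ds
  letI algDsD' : Algebra Ds D' := (IsLocalization.Away.lift s₀ hunit).toAlgebra
  haveI tow3 : IsScalarTower B Ds D' := IsScalarTower.of_algebraMap_eq fun x =>
    (IsLocalization.Away.lift_eq s₀ hunit x).symm
  letI algDD' : Algebra D D' := ((algebraMap Ds D').comp (algebraMap D Ds)).toAlgebra
  haveI tow4 : IsScalarTower D Ds D' := IsScalarTower.of_algebraMap_eq fun x => rfl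
  have hBD' : ∀ b : B, algebraMap D D' (b : D) = algebraMap B D' b := fun b => by
    rw [IsScalarTower.algebraMap_apply B Ds D']
    rfl
  haveI hEt1 : Algebra.Etale B Ds := Algebra.Etale.of_isLocalizationAway s₀
  haveI hEt2 : Algebra.Etale Ds D' := Algebra.Etale.of_restrictScalars B Ds D'
  haveI hEt3 : Algebra.Etale D Ds := Algebra.Etale.of_isLocalizationAway (s₀ : D)
  haveI hEt4 : Algebra.Etale D D' := Algebra.Etale.comp D Ds D'
  haveI tow5 : IsScalarTower S D D' := IsScalarTower.of_algebraMap_eq fun x => by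
    rw [IsScalarTower.algebraMap_apply S B D']
    exact (hBD' (algebraMap S B x)).symm
  have hcomap : q'.comap (algebraMap D D') = q := by
    have hs₀q' : algebraMap D D' (s₀ : D) ∉ q' := by
      rw [hBD']
      exact fun h => hq'p.ne_top (Ideal.eq_top_of_isUnit_mem _ h hunit)
    have hB : ∀ b : B, algebraMap D D' (b : D) ∈ q' ↔ (b : D) ∈ q := by
      intro b
      rw [hBD', ← Ideal.mem_comap, hq'T.1]
      rfl
    ext x
    obtain ⟨n, hn⟩ := hsurj x
    have h1 := hB ⟨_, hn⟩
    simp only [map_mul, map_pow] at h1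
    rw [Ideal.mem_comap]
    constructor
    · intro h
      have h2 := h1.mp (q'.mul_mem_left _ h)
      exact (hqp.mem_or_mem h2).resolve_left fun h3 => hs₀ (hqp.mem_of_pow_mem _ h3)
    · intro h
      have h2 := h1.mpr (q.mul_mem_left _ h)
      exact (hq'p.mem_or_mem h2).resolve_left fun h3 => hs₀q' (hq'p.mem_of_pow_mem _ h3)
  refine ⟨S', inferInstance, algSS', p', D', inferInstance, algDD', algSD', algS'D', q', h', hEtS,
    hp'p, hTR, hEt4, tow1, tow5, hfinal, hq'p, hq'S, hcomap, fun x => ?_⟩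
  obtain ⟨a, b, hb, hx⟩ := hq'T.2 x
  refine ⟨(a : D), (b : D), hb, ?_⟩
  rw [hBD', hBD']
  exact hx

end K837.RC
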