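import Groth.Agent.MovLem.K837.RC7
import Mathlib.RingTheory.RingHom.Etale
import Mathlib.RingTheory.Unramified.LocalStructure

set_option autoImplicit false
set_option linter.style.haveILetI false
universe u v
open Polynomial TensorProduct

/-! Étale local finiteness over affine space. -/

namespace K837.RC

lemma finite_mapRingHom {R S : Type*} [CommRing R] [CommRing S] (f : R →+* S) (hf : f.Finite) :
    (mapRingHom f).Finite := by
  classical
  letI algRS : Algebra R S := f.toAlgebra
  haveI : Module.Finite R S := hf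
  letI algX : Algebra R[X] S[X] := (mapRingHom f).toAlgebra
  change Module.Finite R[X] S[X]
  have hsm : ∀ (F : R[X]) (G : S[X]), F • G = F.map f * G := fun F G => rfl
  have hsm' : ∀ (a : R) (b : S), a • b = f a * b := fun a b => rfl
  obtain ⟨s, hs⟩ := (Module.Finite.fg_top : (⊤ : Submodule R S).FG)
  refine ⟨⟨s.image (C : S → S[X]), ?_⟩⟩
  rw [eq_top_iff]
  set W := Submodule.span R[X] ((s.image (C : S → S[X]) : Finset S[X]) : Set S[X]) with hW
  have h1 : ∀ b : S, (C b : S[X]) ∈ W := by
    intro b
    have hb : b ∈ Submodule.span R (s : Set S) := by rw [hs]; trivial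
    induction hb using Submodule.span_induction with
    | mem x hx =>
      exact Submodule.subset_span (Finset.mem_coe.mpr (Finset.mem_image_of_mem _ hx))
    | zero => rw [C_0]; exact W.zero_mem
    | add x y _ _ hx hy => rw [C_add]; exact W.add_mem hx hy
    | smul a x _ hx =>
      have : (C (a • x) : S[X]) = (C a : R[X]) • (C x : S[X]) := by
        rw [hsm, hsm', Polynomial.map_C, C_mul]
      rw [this]
      exact W.smul_mem _ hx
  intro F _
  induction F using Polynomial.induction_on' with
  | add F G hF hG => exact W.add_mem (hF trivial) (hG trivial)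
  | monomial n a =>
    have : (monomial n a : S[X]) = (X ^ n : R[X]) • (C a : S[X]) := by
      rw [hsm, Polynomial.map_pow, Polynomial.map_X, ← C_mul_X_pow_eq_monomial, mul_comm]
    rw [this]
    exact W.smul_mem _ (h1 a)

/-- conclusion of the local structure theorem -/
def TConcl (A D : Type u) [CommRing A] [CommRing D] [Algebra A D] (d : ℕ) (p : Ideal A)
    (q : Ideal D) : Prop :=
  ∃ (A' : Type u) (_ : CommRing A') (_ : Algebra A A') (p' : Ideal A') (D' : Type u)
    (_ : CommRing D') (_ : Algebra D D') (_ : Algebra A D') (_ : Algebra A' D') (q' : Ideal D')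
    (f : MvPolynomial (Fin d) A' →ₐ[A'] D'),
    Algebra.Etale A A' ∧ p'.IsPrime ∧ TrivRes p p' ∧ Algebra.Etale D D' ∧
    IsScalarTower A A' D' ∧ IsScalarTower A D D' ∧ f.toRingHom.Finite ∧
    q'.IsPrime ∧ q'.comap (algebraMap A' D') = p' ∧ TrivRes q q'

/-- quasi-finite algebras are étale locally finite -/
theorem TConcl_zero {A D : Type u} [CommRing A] [CommRing D] [Algebra A D]
    [Algebra.FiniteType A D] (p : Ideal A) [p.IsPrime] (q : Ideal D) [hqp : q.IsPrime]
    (hq : q.comap (algebraMap A D) = p) [Algebra.QuasiFiniteAt A q] : TConcl A D 0 p q := by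
  haveI : q.LiesOver p := ⟨hq.symm⟩
  obtain ⟨R', _, _, hEt, P, hPp, hPl, e, he, P', hP'p, hP'l, hP'q, heP', hbij, hfin, -⟩ :=
    Algebra.exists_etale_isIdempotentElem_forall_liesOver_eq (R := A) (S := D) p q
  have hTR : TrivRes p P := trivRes_of_surjective p P hbij.2
  have hP'P : P'.comap (algebraMap R' _) = P := hP'l.over.symm
  let D' := Localization.Away e
  letI algD : Algebra D (R' ⊗[A] D) := Algebra.TensorProduct.rightAlgebra
  haveI tow1 : IsScalarTower D (R' ⊗[A] D) D' := inferInstance
  haveI hEt1 : Algebra.Etale D (R' ⊗[A] D) := etale_right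
  haveI hEt2 : Algebra.Etale (R' ⊗[A] D) D' := Algebra.Etale.of_isLocalizationAway e
  haveI hEt3 : Algebra.Etale D D' := Algebra.Etale.comp D (R' ⊗[A] D) D'
  have hdisj : Disjoint (Submonoid.powers e : Set (R' ⊗[A] D)) P' :=
    (Ideal.disjoint_powers_iff_notMem_of_isPrime e).mpr heP'
  let q' : Ideal D' := P'.map (algebraMap (R' ⊗[A] D) D')
  haveI hq'p : q'.IsPrime := IsLocalization.isPrime_of_isPrime_disjoint (.powers e) _ _ hP'p hdisj
  have hq' : q'.comap (algebraMap (R' ⊗[A] D) D') = P' :=
    IsLocalization.under_map_of_isPrime_disjoint (.powers e) _ hP'p hdisj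
  have hT1 : TrivRes q P' := by
    refine ⟨hP'q, fun x => ?_⟩
    obtain ⟨a, b, hb, hx⟩ := trivRes_tensor p P hTR P' hP'P x
    refine ⟨a, b, ?_, hx⟩
    intro h
    exact hb (by rw [← hP'q] at h; exact h)
  have hT2 : TrivRes P' q' := by
    have := trivRes_of_isLocalization (Submonoid.powers e) q'
    rwa [hq'] at this
  let f : MvPolynomial (Fin 0) R' →ₐ[R'] D' :=
    MvPolynomial.aeval (R := R') (S₁ := D') (fun i : Fin 0 => i.elim0)
  have hfin' : f.toRingHom.Finite := by
    refine RingHom.Finite.of_comp_finite (f := (MvPolynomial.C : R' →+* MvPolynomial (Fin 0) R')) ?_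
    have : f.toRingHom.comp MvPolynomial.C = algebraMap R' D' := by
      ext x
      change f (MvPolynomial.C x) = _
      exact MvPolynomial.aeval_C _ _
    rw [this]
    exact RingHom.finite_algebraMap.mpr hfin
  refine ⟨R', inferInstance, inferInstance, P, D', inferInstance, inferInstance, inferInstance,
    inferInstance, q', f, hEt, hPp, hTR, hEt3, inferInstance, ?_, hfin', hq'p, ?_, hT1.trans hT2⟩
  · refine IsScalarTower.of_algebraMap_eq fun x => ?_
    change _ = algebraMap (R' ⊗[A] D) D' ((1 : R') ⊗ₜ (algebraMap A D x))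
    rw [IsScalarTower.algebraMap_apply A (R' ⊗[A] D) D']
    congr 1
    exact ((Algebra.TensorProduct.includeRight : D →ₐ[A] R' ⊗[A] D).commutes x).symm
  · rw [IsScalarTower.algebraMap_eq R' (R' ⊗[A] D) D', ← Ideal.comap_comap, hq', hP'P]

/-- **étale local structure of finite type algebras**: if `A[x₁, …, x_d] → D` is quasi-finite at
`q`, then étale locally (with trivial residue extensions) `D` is finite over affine space -/
theorem TConcl_all (d : ℕ) : ∀ {A D : Type u} [CommRing A] [IsNoetherianRing A] [CommRing D]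
    [Algebra A D] [Algebra.FiniteType A D] (p : Ideal A) [p.IsPrime] (q : Ideal D) [q.IsPrime]
    (_ : q.comap (algebraMap A D) = p) (x : Fin d → D)
    (_ : letI : Algebra (MvPolynomial (Fin d) A) D :=
        (MvPolynomial.aeval x : MvPolynomial (Fin d) A →ₐ[A] D).toRingHom.toAlgebra
      Algebra.QuasiFiniteAt (MvPolynomial (Fin d) A) q), TConcl A D d p q := by
  induction d with
  | zero =>
    intro A D _ _ _ _ _ p _ q hqp hq x hqf
    letI algM : Algebra (MvPolynomial (Fin 0) A) D :=
      (MvPolynomial.aeval x : MvPolynomial (Fin 0) A →ₐ[A] D).toRingHom.toAlgebra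
    haveI : IsScalarTower A (MvPolynomial (Fin 0) A) D :=
      IsScalarTower.of_algebraMap_eq fun a => by
        change _ = MvPolynomial.aeval x (MvPolynomial.C a)
        rw [MvPolynomial.aeval_C]
    haveI : Algebra.QuasiFiniteAt (MvPolynomial (Fin 0) A) q := hqf
    haveI : Module.Finite A (MvPolynomial (Fin 0) A) :=
      Module.Finite.equiv (MvPolynomial.isEmptyAlgEquiv A (Fin 0)).symm.toLinearEquiv
    haveI : Algebra.QuasiFiniteAt A q :=
      Algebra.QuasiFinite.trans A (MvPolynomial (Fin 0) A) (Localization.AtPrime q)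
    exact TConcl_zero p q hq
  | succ d ih =>
    intro A D _ _ _ _ _ p _ q hqp hq x hqf
    let S := MvPolynomial (Fin d) A
    let M := MvPolynomial (Fin (d + 1)) A
    letI algMD : Algebra M D :=
      (MvPolynomial.aeval x : MvPolynomial (Fin (d + 1)) A →ₐ[A] D).toRingHom.toAlgebra
    haveI : Algebra.QuasiFiniteAt M q := hqf
    letI algSD : Algebra S D :=
      (MvPolynomial.aeval (x ∘ Fin.succ) : MvPolynomial (Fin d) A →ₐ[A] D).toRingHom.toAlgebra
    haveI towASD : IsScalarTower A S D := IsScalarTower.of_algebraMap_eq fun a => by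
      change _ = MvPolynomial.aeval (x ∘ Fin.succ) (MvPolynomial.C a)
      rw [MvPolynomial.aeval_C]
    haveI : Algebra.FiniteType S D := Algebra.FiniteType.of_restrictScalars_finiteType A S D
    letI algSXD : Algebra S[X] D := (aeval (x 0) : S[X] →ₐ[S] D).toRingHom.toAlgebra
    let e : M →+* S[X] := (MvPolynomial.finSuccEquiv A d).toRingEquiv.toRingHom
    letI algMSX : Algebra M S[X] := e.toAlgebra
    haveI : IsScalarTower M S[X] D := IsScalarTower.of_algebraMap_eq' (by
      refine MvPolynomial.ringHom_ext (fun a => ?_) (fun i => ?_)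
      · change MvPolynomial.aeval x (MvPolynomial.C a) =
          aeval (x 0) (MvPolynomial.finSuccEquiv A d (MvPolynomial.C a))
        have h1 : MvPolynomial.finSuccEquiv A d (MvPolynomial.C a) = C (MvPolynomial.C a) := by
          simp [MvPolynomial.finSuccEquiv]
        rw [h1, aeval_C, MvPolynomial.aeval_C]
        change _ = MvPolynomial.aeval (x ∘ Fin.succ) (MvPolynomial.C a)
        rw [MvPolynomial.aeval_C]
      · change MvPolynomial.aeval x (MvPolynomial.X i) =
          aeval (x 0) (MvPolynomial.finSuccEquiv A d (MvPolynomial.X i))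
        refine Fin.cases ?_ (fun j => ?_) i
        · rw [MvPolynomial.finSuccEquiv_X_zero, aeval_X, MvPolynomial.aeval_X]
        · rw [MvPolynomial.finSuccEquiv_X_succ, aeval_C, MvPolynomial.aeval_X]
          change _ = MvPolynomial.aeval (x ∘ Fin.succ) (MvPolynomial.X j)
          rw [MvPolynomial.aeval_X]
          rfl)
    haveI : Algebra.QuasiFinite M (Localization.AtPrime q) := hqf
    haveI hqf2 : Algebra.QuasiFiniteAt S[X] q :=
      Algebra.QuasiFinite.of_restrictScalars M S[X] (Localization.AtPrime q)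
    let pS : Ideal S := q.comap (algebraMap S D)
    haveI : pS.IsPrime := Ideal.comap_isPrime _ _
    have hpS : pS.comap (algebraMap A S) = p := by
      rw [Ideal.comap_comap, ← IsScalarTower.algebraMap_eq, hq]
    obtain ⟨S', _, algSS', s', D₁, _, algDD₁, algSD₁, algS'D₁, q₁, h₁, hEtS, hs'p, hTRs, hEtD, tow1,
      tow2, hfin₁, hq₁p, hq₁S, hTRq⟩ := RC pS q rfl (x 0) hqf2
    letI algAS' : Algebra A S' := ((algebraMap S S').comp (algebraMap A S)).toAlgebra
    haveI towASS' : IsScalarTower A S S' := IsScalarTower.of_algebraMap_eq fun a => rfl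
    haveI : Algebra.FiniteType A S' := Algebra.FiniteType.trans (S := S) inferInstance inferInstance
    have hs'A : s'.comap (algebraMap A S') = p := by
      rw [IsScalarTower.algebraMap_eq A S S', ← Ideal.comap_comap, hTRs.1, hpS]
    let x' : Fin d → S' := fun i => algebraMap S S' (MvPolynomial.X i)
    have hx' : (MvPolynomial.aeval x' : MvPolynomial (Fin d) A →ₐ[A] S').toRingHom =
        algebraMap S S' := by
      refine MvPolynomial.ringHom_ext (fun a => ?_) (fun i => ?_)
      · change MvPolynomial.aeval x' (MvPolynomial.C a) = _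
        rw [MvPolynomial.aeval_C]
        rfl
      · change MvPolynomial.aeval x' (MvPolynomial.X i) = _
        rw [MvPolynomial.aeval_X]
    have hEt' : (MvPolynomial.aeval x' : MvPolynomial (Fin d) A →ₐ[A] S').toRingHom.Etale := by
      rw [hx']
      exact RingHom.etale_algebraMap.mpr hEtS
    obtain ⟨A', _, algAA', p', S'', _, algS'S'', algAS'', algA'S'', s'', f, hEtA, hp'p, hTRp, hEtS',
      tow3, tow4, hfinf, hs''p, hs''A', hTRs'⟩ := ih p s' hs'A x' (by
        letI : Algebra (MvPolynomial (Fin d) A) S' :=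
          (MvPolynomial.aeval x' : MvPolynomial (Fin d) A →ₐ[A] S').toRingHom.toAlgebra
        haveI : Algebra.Etale (MvPolynomial (Fin d) A) S' := hEt'
        exact (inferInstance : Algebra.QuasiFinite (MvPolynomial (Fin d) A)
          (Localization.AtPrime s')))
    haveI : s'.IsPrime := hs'p
    haveI : s''.IsPrime := hs''p
    haveI : q₁.IsPrime := hq₁p
    let D₂ := S'' ⊗[S'] D₁
    obtain ⟨N, hNp, hNS, hND⟩ := exists_prime_tensor s' s'' hTRs' q₁ hq₁S
    letI algD₁D₂ : Algebra D₁ D₂ := Algebra.TensorProduct.rightAlgebra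
    haveI hEt₂ : Algebra.Etale D₁ D₂ := etale_right
    have hTRN : TrivRes q₁ N := by
      refine ⟨hND, fun y => ?_⟩
      obtain ⟨a, b, hb, hy⟩ := trivRes_tensor s' s'' hTRs' N hNS y
      rw [hND] at hb
      exact ⟨a, b, hb, hy⟩
    letI algDD₂ : Algebra D D₂ := ((algebraMap D₁ D₂).comp (algebraMap D D₁)).toAlgebra
    haveI tow5 : IsScalarTower D D₁ D₂ := IsScalarTower.of_algebraMap_eq fun y => rfl
    haveI hEtDD₂ : Algebra.Etale D D₂ := Algebra.Etale.comp D D₁ D₂
    haveI tow6 : IsScalarTower A' S'' D₂ := inferInstance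
    haveI tow7 : IsScalarTower A A' D₂ := IsScalarTower.of_algebraMap_eq fun y => by
      rw [IsScalarTower.algebraMap_apply A' S'' D₂, ← IsScalarTower.algebraMap_apply A A' S'']
      rfl
    have hS'D₂ : ∀ y : S', algebraMap S'' D₂ (algebraMap S' S'' y) =
        algebraMap D₁ D₂ (algebraMap S' D₁ y) := by
      intro y
      change (algebraMap S'' (S'' ⊗[S'] D₁)) (algebraMap S' S'' y) =
        (1 : S'') ⊗ₜ[S'] (algebraMap S' D₁ y)
      rw [Algebra.TensorProduct.algebraMap_apply, Algebra.algebraMap_self_apply,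
        Algebra.algebraMap_eq_smul_one, Algebra.algebraMap_eq_smul_one, tmul_smul, smul_tmul']
    haveI tow8 : IsScalarTower A D D₂ := IsScalarTower.of_algebraMap_eq fun a => by
      change algebraMap A D₂ a = algebraMap D₁ D₂ (algebraMap D D₁ (algebraMap A D a))
      rw [IsScalarTower.algebraMap_apply A A' D₂, IsScalarTower.algebraMap_apply A' S'' D₂,
        ← IsScalarTower.algebraMap_apply A A' S'', IsScalarTower.algebraMap_apply A S' S'',
        hS'D₂, IsScalarTower.algebraMap_apply A S S', ← IsScalarTower.algebraMap_apply S S' D₁,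
        IsScalarTower.algebraMap_apply S D D₁, ← IsScalarTower.algebraMap_apply A S D]
    let F₂ : S''[X] →ₐ[S''] D₂ := aeval ((1 : S'') ⊗ₜ[S'] h₁)
    have hF₂ : F₂.toRingHom.Finite := finite_baseChange h₁ hfin₁
    let z : Fin (d + 1) → D₂ := Fin.cons ((1 : S'') ⊗ₜ[S'] h₁)
      (fun i => algebraMap S'' D₂ (f (MvPolynomial.X i)))
    let f' : MvPolynomial (Fin (d + 1)) A' →ₐ[A'] D₂ := MvPolynomial.aeval z
    have hf' : f'.toRingHom = F₂.toRingHom.comp ((mapRingHom f.toRingHom).comp
        (MvPolynomial.finSuccEquiv A' d).toRingEquiv.toRingHom) := by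
      refine MvPolynomial.ringHom_ext (fun a => ?_) (fun i => ?_)
      · change MvPolynomial.aeval z (MvPolynomial.C a) =
          aeval ((1 : S'') ⊗ₜ[S'] h₁) (mapRingHom f.toRingHom
            (MvPolynomial.finSuccEquiv A' d (MvPolynomial.C a)))
        have h1 : MvPolynomial.finSuccEquiv A' d (MvPolynomial.C a) = C (MvPolynomial.C a) := by
          simp [MvPolynomial.finSuccEquiv]
        rw [h1, coe_mapRingHom, Polynomial.map_C, aeval_C, MvPolynomial.aeval_C]
        change algebraMap A' D₂ a = algebraMap S'' D₂ (f (MvPolynomial.C a))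
        rw [MvPolynomial.algHom_C]
        rfl
      · change MvPolynomial.aeval z (MvPolynomial.X i) =
          aeval ((1 : S'') ⊗ₜ[S'] h₁) (mapRingHom f.toRingHom
            (MvPolynomial.finSuccEquiv A' d (MvPolynomial.X i)))
        refine Fin.cases ?_ (fun j => ?_) i
        · rw [MvPolynomial.finSuccEquiv_X_zero, coe_mapRingHom, Polynomial.map_X, aeval_X,
            MvPolynomial.aeval_X]
          rfl
        · rw [MvPolynomial.finSuccEquiv_X_succ, coe_mapRingHom, Polynomial.map_C, aeval_C,
            MvPolynomial.aeval_X]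
          rfl
    have hf'fin : f'.toRingHom.Finite := by
      rw [hf']
      exact hF₂.comp ((finite_mapRingHom _ hfinf).comp
        (RingHom.Finite.of_surjective _ (MvPolynomial.finSuccEquiv A' d).surjective))
    refine ⟨A', inferInstance, algAA', p', D₂, inferInstance, algDD₂, inferInstance,
      inferInstance, N, f',
      hEtA, hp'p, hTRp, hEtDD₂, tow7, tow8, hf'fin, hNp, ?_, hTRq.trans hTRN⟩
    rw [IsScalarTower.algebraMap_eq A' S'' D₂, ← Ideal.comap_comap, hNS, hs''A']

end K837.RC
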