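import Groth.Agent.MovLem.K837.RC8

set_option autoImplicit false
set_option linter.style.haveILetI false
universe u v
open Polynomial TensorProduct

/-! Shrinking the base of the étale local structure theorem. -/

namespace K837.RC

/-- if a localization of a Noetherian ring at a prime is a domain, so is a basic open -/
lemma exists_isDomain_away {A : Type u} [CommRing A] [IsNoetherianRing A] (p : Ideal A)
    [hp : p.IsPrime] [IsDomain (Localization.AtPrime p)] :
    ∃ v ∉ p, IsDomain (Localization.Away v) := by
  classical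
  let L := Localization.AtPrime p
  obtain ⟨s, hs⟩ := (inferInstance : IsNoetherianRing A).noetherian (RingHom.ker (algebraMap A L))
  have h1 : ∀ x : A, algebraMap A L x = 0 → ∃ m ∉ p, m * x = 0 := by
    intro x hx
    obtain ⟨⟨m, hm⟩, h⟩ := (IsLocalization.map_eq_zero_iff p.primeCompl L x).mp hx
    exact ⟨m, hm, h⟩
  choose! m hm hm' using h1
  let v : A := ∏ x ∈ s, m x
  have hsK : ∀ x ∈ s, algebraMap A L x = 0 := fun x hx => by
    have : x ∈ RingHom.ker (algebraMap A L) := by
      rw [← hs]; exact Submodule.subset_span hx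
    exact this
  have hv : v ∉ p := by
    intro h
    obtain ⟨x, hx, hx'⟩ := (hp.prod_mem_iff).mp h
    exact hm x (hsK x hx) hx'
  have hvK : ∀ x : A, algebraMap A L x = 0 → v * x = 0 := by
    intro x hx
    have hx' : x ∈ Submodule.span A (s : Set A) := by rw [hs]; exact hx
    induction hx' using Submodule.span_induction with
    | mem y hy =>
      obtain ⟨c, hc⟩ := Finset.dvd_prod_of_mem m hy
      change (∏ x ∈ s, m x) * y = 0
      rw [hc, mul_comm (m y), mul_assoc, hm' y (hsK y hy), mul_zero]
    | zero => rw [mul_zero]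
    | add y z hy hz ihy ihz =>
      rw [mul_add, ihy, ihz, add_zero]
      · exact (by rw [hs] at hz; exact hz : z ∈ RingHom.ker (algebraMap A L))
      · exact (by rw [hs] at hy; exact hy : y ∈ RingHom.ker (algebraMap A L))
    | smul a y hy ihy =>
      rw [smul_eq_mul, mul_left_comm, ihy, mul_zero]
      exact (by rw [hs] at hy; exact hy : y ∈ RingHom.ker (algebraMap A L))
  refine ⟨v, hv, ?_⟩
  have hu : IsUnit (algebraMap A L v) := IsLocalization.map_units L (⟨v, hv⟩ : p.primeCompl)
  let θ : Localization.Away v →+* L := IsLocalization.Away.lift v hu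
  have hθ : ∀ x, θ (algebraMap A _ x) = algebraMap A L x := fun x => IsLocalization.Away.lift_eq v hu x
  have hinj : Function.Injective θ := by
    rw [injective_iff_map_eq_zero]
    intro y hy
    obtain ⟨⟨x, ⟨_, n, rfl⟩⟩, hx⟩ := IsLocalization.surj (Submonoid.powers v) y
    have h2 : algebraMap A L x = 0 := by
      rw [← hθ, ← hx, map_mul, hy, zero_mul]
    have h3 := hvK x h2
    have h4 : algebraMap A (Localization.Away v) x = 0 := by
      have h5 := congrArg (algebraMap A (Localization.Away v)) h3
      rw [map_mul, map_zero] at h5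
      exact (IsLocalization.Away.algebraMap_isUnit v).mul_right_eq_zero.mp h5
    have h6 : y * algebraMap A (Localization.Away v) (v ^ n) = 0 := by
      have : y * algebraMap A (Localization.Away v) (v ^ n) = algebraMap A _ x := hx
      rw [this, h4]
    rw [map_pow] at h6
    exact ((IsLocalization.Away.algebraMap_isUnit v).pow n).mul_left_eq_zero.mp h6
  exact hinj.isDomain θ

/-- finiteness over affine space localizes -/
lemma finite_mv_localization {A D A₁ D₁ : Type u} [CommRing A] [CommRing D] [CommRing A₁]
    [CommRing D₁] [Algebra A D] [Algebra A A₁] [Algebra D D₁] [Algebra A₁ D₁] [Algebra A D₁]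
    [IsScalarTower A D D₁] [IsScalarTower A A₁ D₁] (v : A) (hv : IsUnit (algebraMap A A₁ v))
    [IsLocalization.Away (algebraMap A D v) D₁] (d : ℕ) (f : MvPolynomial (Fin d) A →ₐ[A] D)
    (hf : f.toRingHom.Finite) :
    (MvPolynomial.aeval (fun i => algebraMap D D₁ (f (MvPolynomial.X i))) :
      MvPolynomial (Fin d) A₁ →ₐ[A₁] D₁).toRingHom.Finite := by
  set g : MvPolynomial (Fin d) A₁ →ₐ[A₁] D₁ :=
    MvPolynomial.aeval (fun i => algebraMap D D₁ (f (MvPolynomial.X i))) with hg
  letI algg : Algebra (MvPolynomial (Fin d) A₁) D₁ := g.toRingHom.toAlgebra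
  haveI tow : IsScalarTower A₁ (MvPolynomial (Fin d) A₁) D₁ :=
    IsScalarTower.of_algebraMap_eq fun x => by
      change _ = g (MvPolynomial.C x)
      exact (MvPolynomial.algHom_C g x).symm
  let I₀ : Subalgebra (MvPolynomial (Fin d) A₁) D₁ := integralClosure _ D₁
  have hA₁ : ∀ s : A₁, algebraMap A₁ D₁ s ∈ I₀ := fun s => by
    rw [IsScalarTower.algebraMap_apply A₁ (MvPolynomial (Fin d) A₁) D₁]
    exact I₀.algebraMap_mem _
  have hcomp : (algebraMap D D₁).comp f.toRingHom =
      g.toRingHom.comp (MvPolynomial.map (algebraMap A A₁)) := by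
    refine MvPolynomial.ringHom_ext (fun a => ?_) (fun i => ?_)
    · change algebraMap D D₁ (f (MvPolynomial.C a)) =
        g (MvPolynomial.map (algebraMap A A₁) (MvPolynomial.C a))
      rw [MvPolynomial.map_C, MvPolynomial.algHom_C, MvPolynomial.algHom_C,
        ← IsScalarTower.algebraMap_apply, ← IsScalarTower.algebraMap_apply]
    · change algebraMap D D₁ (f (MvPolynomial.X i)) =
        g (MvPolynomial.map (algebraMap A A₁) (MvPolynomial.X i))
      rw [MvPolynomial.map_X, hg, MvPolynomial.aeval_X]
  have hD : ∀ b : D, algebraMap D D₁ b ∈ I₀ := by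
    intro b
    obtain ⟨P, hP, h0⟩ := hf.to_isIntegral b
    have : g.toRingHom.IsIntegralElem (algebraMap D D₁ b) := by
      refine ⟨P.map (MvPolynomial.map (algebraMap A A₁)), hP.map _, ?_⟩
      rw [eval₂_map, ← hcomp, ← Polynomial.hom_eval₂, h0, map_zero]
    exact this
  have hint' : g.toRingHom.IsIntegral := by
    intro y
    obtain ⟨⟨a, ⟨_, n, rfl⟩⟩, hy⟩ := IsLocalization.surj (Submonoid.powers (algebraMap A D v)) y
    obtain ⟨w, hw⟩ := hv
    have hvw : algebraMap A D₁ v * algebraMap A₁ D₁ (↑w⁻¹) = 1 := by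
      rw [IsScalarTower.algebraMap_apply A A₁ D₁, ← hw, ← map_mul, Units.mul_inv, map_one]
    have h1 : y * (algebraMap A D₁ v) ^ n = algebraMap D D₁ a := by
      rw [← hy, map_pow, ← IsScalarTower.algebraMap_apply A D D₁]
    have h2 : y = algebraMap D D₁ a * (algebraMap A₁ D₁ (↑w⁻¹)) ^ n := by
      rw [← h1, mul_assoc, ← mul_pow, hvw, one_pow, mul_one]
    have h3 : y ∈ I₀ := by
      rw [h2]
      exact mul_mem (hD _) (pow_mem (hA₁ _) _)
    exact h3
  refine hint'.to_finite ?_
  letI algf : Algebra (MvPolynomial (Fin d) A) D := f.toRingHom.toAlgebra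
  haveI : IsScalarTower A (MvPolynomial (Fin d) A) D := IsScalarTower.of_algebraMap_eq fun x => by
    change _ = f (MvPolynomial.C x)
    exact (MvPolynomial.algHom_C f x).symm
  haveI : Module.Finite (MvPolynomial (Fin d) A) D := hf
  haveI : Algebra.FiniteType A D :=
    Algebra.FiniteType.trans (S := MvPolynomial (Fin d) A) inferInstance inferInstance
  haveI : Algebra.FinitePresentation D D₁ :=
    IsLocalization.Away.finitePresentation (algebraMap A D v)
  haveI : Algebra.FiniteType D D₁ := inferInstance
  haveI : Algebra.FiniteType A D₁ := Algebra.FiniteType.trans (S := D) inferInstance inferInstance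
  haveI : Algebra.FiniteType A₁ D₁ := Algebra.FiniteType.of_restrictScalars_finiteType A A₁ D₁
  have : Algebra.FiniteType (MvPolynomial (Fin d) A₁) D₁ :=
    Algebra.FiniteType.of_restrictScalars_finiteType A₁ (MvPolynomial (Fin d) A₁) D₁
  exact this

/-- shrinking the base -/
lemma shrink {A D A' D' : Type u} [CommRing A] [CommRing D] [CommRing A'] [CommRing D']
    [Algebra A D] [Algebra A A'] [Algebra D D'] [Algebra A D'] [Algebra A' D']
    [IsScalarTower A A' D'] [IsScalarTower A D D'] (d : ℕ) (p : Ideal A) [p.IsPrime] (q : Ideal D)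
    [q.IsPrime] (p' : Ideal A') [hp'p : p'.IsPrime] (q' : Ideal D') [hq'p : q'.IsPrime]
    (f : MvPolynomial (Fin d) A' →ₐ[A'] D') [Algebra.Etale A A'] [Algebra.Etale D D']
    (hp : TrivRes p p') (hq : TrivRes q q') (hf : f.toRingHom.Finite)
    (hpq : q'.comap (algebraMap A' D') = p') (v : A') (hv : v ∉ p') :
    ∃ (p'' : Ideal (Localization.Away v)) (D'' : Type u) (_ : CommRing D'') (_ : Algebra D D'')
      (_ : Algebra A D'') (_ : Algebra (Localization.Away v) D'') (q'' : Ideal D'')
      (f'' : MvPolynomial (Fin d) (Localization.Away v) →ₐ[Localization.Away v] D''),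
      p''.IsPrime ∧ TrivRes p p'' ∧ Algebra.Etale D D'' ∧
      IsScalarTower A (Localization.Away v) D'' ∧ IsScalarTower A D D'' ∧ f''.toRingHom.Finite ∧
      q''.IsPrime ∧ q''.comap (algebraMap (Localization.Away v) D'') = p'' ∧ TrivRes q q'' := by
  let A'' := Localization.Away v
  let D'' := Localization.Away (algebraMap A' D' v)
  have hunit : IsUnit (algebraMap A' D'' v) := by
    rw [IsScalarTower.algebraMap_apply A' D' D'']
    exact IsLocalization.Away.algebraMap_isUnit (algebraMap A' D' v)
  letI algA''D'' : Algebra A'' D'' := (IsLocalization.Away.lift v hunit).toAlgebra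
  haveI tow1 : IsScalarTower A' A'' D'' := IsScalarTower.of_algebraMap_eq fun x =>
    (IsLocalization.Away.lift_eq v hunit x).symm
  have hvA'' : IsUnit (algebraMap A' A'' v) := IsLocalization.Away.algebraMap_isUnit v
  haveI tow2 : IsScalarTower A A'' D'' := IsScalarTower.of_algebraMap_eq fun x => by
    rw [IsScalarTower.algebraMap_apply A A' A'', ← IsScalarTower.algebraMap_apply A' A'' D'',
      ← IsScalarTower.algebraMap_apply A A' D'']
  haveI hEt1 : Algebra.Etale D' D'' := Algebra.Etale.of_isLocalizationAway (algebraMap A' D' v)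
  haveI hEt2 : Algebra.Etale D D'' := Algebra.Etale.comp D D' D''
  have hdisj : Disjoint (Submonoid.powers v : Set A') p' :=
    (Ideal.disjoint_powers_iff_notMem_of_isPrime v).mpr hv
  let p'' : Ideal A'' := p'.map (algebraMap A' A'')
  haveI hp''p : p''.IsPrime :=
    IsLocalization.isPrime_of_isPrime_disjoint (.powers v) _ _ hp'p hdisj
  have hp'' : p''.comap (algebraMap A' A'') = p' :=
    IsLocalization.under_map_of_isPrime_disjoint (.powers v) _ hp'p hdisj
  have hvq : algebraMap A' D' v ∉ q' := fun h => hv (by rw [← hpq]; exact h)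
  have hdisj' : Disjoint (Submonoid.powers (algebraMap A' D' v) : Set D') q' :=
    (Ideal.disjoint_powers_iff_notMem_of_isPrime _).mpr hvq
  let q'' : Ideal D'' := q'.map (algebraMap D' D'')
  haveI hq''p : q''.IsPrime :=
    IsLocalization.isPrime_of_isPrime_disjoint (.powers (algebraMap A' D' v)) _ _ hq'p hdisj'
  have hq'' : q''.comap (algebraMap D' D'') = q' :=
    IsLocalization.under_map_of_isPrime_disjoint (.powers (algebraMap A' D' v)) _ hq'p hdisj'
  have hT1 : TrivRes p' p'' := by
    have := trivRes_of_isLocalization (Submonoid.powers v) p''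
    rwa [hp''] at this
  have hT2 : TrivRes q' q'' := by
    have := trivRes_of_isLocalization (Submonoid.powers (algebraMap A' D' v)) q''
    rwa [hq''] at this
  refine ⟨p'', D'', inferInstance, inferInstance, inferInstance, algA''D'', q'', _, hp''p,
    hp.trans hT1, hEt2, tow2, inferInstance, finite_mv_localization v hvA'' d f hf, hq''p, ?_,
    hq.trans hT2⟩
  haveI : (q''.comap (algebraMap A'' D'')).IsPrime := Ideal.comap_isPrime _ _
  refine comap_injective_of_away v _ _ ?_
  rw [Ideal.comap_comap, ← IsScalarTower.algebraMap_eq, hp'',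
    IsScalarTower.algebraMap_eq A' D' D'', ← Ideal.comap_comap, hq'', hpq]

end K837.RC
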