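import Groth.Agent.Ega4fib.H174.EquidimAff
import Mathlib.AlgebraicGeometry.Morphisms.Etale
import Mathlib.AlgebraicGeometry.Morphisms.QuasiFinite
import Mathlib.RingTheory.Unramified.LocalStructure

set_option autoImplicit false
universe u

/-! Surjectivity of the finite morphism to affine space. -/

open CategoryTheory AlgebraicGeometry TopologicalSpace Topology
open Groth.Agent.CycB.RelDim Groth.Agent.Ega4fib.H174.Equidim
  Groth.Agent.Ega4fib.H174.EquidimAff

namespace K837.RCSurj

/-- Etale morphisms are locally quasi-finite. -/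
theorem locallyQuasiFinite_of_etale {X Y : Scheme.{u}} (f : X ⟶ Y) [Etale f] :
    LocallyQuasiFinite f where
  quasiFinite_appLE {U} hU {V} hV e := by
    have h := HasRingHomProperty.appLE @Etale f ‹_› ⟨U, hU⟩ ⟨V, hV⟩ e
    algebraize [(f.appLE U V e).hom]
    change Algebra.QuasiFinite Γ(Y, U) Γ(X, V)
    infer_instance

theorem surjective {S X : Scheme.{u}} [IsIntegral S] (φ : X ⟶ S) [LocallyOfFiniteType φ]
    (d : ℕ) (hrel : Cyc.HasRelDim φ d)
    (hdom : ∀ Z ∈ irreducibleComponents (↥X : Type u), closure (φ.base '' Z) = Set.univ)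
    {Y B' : Scheme.{u}} [IsIntegral B'] (g : Y ⟶ X) [Etale g] (h : B' ⟶ S) [Etale h]
    (ψ : Y ⟶ B') (q : Y ⟶ 𝔸(ULift.{u} (Fin d); B')) [IsFinite q] (hcomm : g ≫ φ = ψ ≫ h)
    (hq : q ≫ (𝔸(ULift.{u} (Fin d); B') ↘ B') = ψ) (y₀ : Y) : Surjective q := by
  have : LocallyQuasiFinite g := locallyQuasiFinite_of_etale g
  have : LocallyQuasiFinite h := locallyQuasiFinite_of_etale h
  obtain ⟨y, hy, -⟩ := exists_maximal_specializes y₀
  -- `g y` is a maximal point of `X`
  have hgy : ∀ z : X, z ⤳ g y → z = g y := by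
    intro z hz
    obtain ⟨w, hw, hwz⟩ := Flat.generalizingMap g hz
    rw [hy w hw] at hwz
    exact hwz.symm
  -- it maps to the generic point of `S`
  have hφ : φ (g y) = genericPoint S := by
    have h1 := hdom _ (mem_irreducibleComponents_iff.mpr ⟨g y, hgy, rfl⟩)
    have h2 : IsGenericPoint (φ (g y)) (closure (φ '' (closure {g y}))) := by
      have h3 : IsGenericPoint (g y) (closure {g y}) := rfl
      exact h3.image φ.continuous
    have h4 : closure (φ '' (closure {g y})) = Set.univ := h1
    rw [h4] at h2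
    exact h2.eq (genericPoint_spec ↑S)
  have hfib : FibGeneric φ (g y) := fun z _ hz => hgy z hz
  have hr1 : rtd φ (g y) = d := rtd_of_fibGeneric hrel hfib
  have hr2 : rtd (g ≫ φ) y = d := by
    rw [rtd_comp, hr1, rtd_eq_zero_of_locallyQuasiFinite g, add_zero]
  have hr3 : rtd ψ y = d := by
    rw [hcomm, rtd_comp, rtd_eq_zero_of_locallyQuasiFinite h, zero_add] at hr2
    exact hr2
  have hr4 : rtd (𝔸(ULift.{u} (Fin d); B') ↘ B') (q y) = d := by
    rw [← hq, rtd_comp, rtd_eq_zero_of_locallyQuasiFinite q, add_zero] at hr3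
    exact hr3
  -- `ψ y` is the generic point of `B'`
  have hψ : (𝔸(ULift.{u} (Fin d); B') ↘ B') (q y) = ψ y := by
    rw [← Scheme.Hom.comp_apply, hq]
  have hhψ : h (ψ y) = genericPoint S := by
    rw [← Scheme.Hom.comp_apply, ← hcomm, Scheme.Hom.comp_apply, hφ]
  have hψgen : ∀ b : B', b ⤳ ψ y → b = ψ y := by
    intro b hb
    by_contra hne
    have h1 : h b = h (ψ y) := by
      have h2 : h b ⤳ genericPoint S := by
        rw [← hhψ]; exact hb.map h.continuous
      have h3 : genericPoint S ⤳ h b := genericPoint_specializes _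
      rw [hhψ]
      exact (h2.antisymm h3).eq
    have h4 := rtd_lt_of_specializes h hb hne h1
    rw [rtd_eq_zero_of_locallyQuasiFinite h, rtd_eq_zero_of_locallyQuasiFinite h] at h4
    exact lt_irrefl _ h4
  have hmax := maximal_of_rtd_affineSpace d (q y) hr4 (fun b hb => by
    rw [hψ] at hb ⊢
    exact hψgen b hb)
  have hirr : IrreducibleSpace ↥𝔸(ULift.{u} (Fin d); B') := by infer_instance
  have hgen : genericPoint ↥𝔸(ULift.{u} (Fin d); B') = q y := hmax _ (genericPoint_specializes _)
  refine ⟨fun z => ?_⟩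
  have hclosed : IsClosed (Set.range q) := q.isClosedMap.isClosed_range
  have h1 : closure {q y} ⊆ Set.range q :=
    closure_minimal (Set.singleton_subset_iff.mpr ⟨y, rfl⟩) hclosed
  apply h1
  rw [← hgen, (genericPoint_spec _).def]
  trivial

end K837.RCSurj
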