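import Groth.Agent.MovLem.K837.RC9
import Groth.Agent.MovLem.K837.RCSurj
import Groth.Agent.FlatB.QfAffSpace
import Groth.Agent.Mor.K383.UH
import Groth.Agent.Etbase.NormalStalk

set_option autoImplicit false
set_option linter.style.haveILetI false
universe u v
open CategoryTheory AlgebraicGeometry TopologicalSpace Topology

/-! Étale local structure of morphisms of finite type: scheme version. -/

namespace K837.RC

/-- the structure theorem with an integral base -/
theorem TConcl.exists_domain {A D : Type u} [CommRing A] [IsNoetherianRing A] [CommRing D]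
    [Algebra A D] {d : ℕ} {p : Ideal A} [p.IsPrime] {q : Ideal D} [q.IsPrime]
    (h : TConcl A D d p q)
    (hdom : ∀ (A' : Type u) [CommRing A'] [Algebra A A'] [Algebra.Etale A A'] (p' : Ideal A')
      [p'.IsPrime], p'.comap (algebraMap A A') = p → IsDomain (Localization.AtPrime p')) :
    ∃ (A' : Type u) (_ : CommRing A') (_ : Algebra A A') (p' : Ideal A') (D' : Type u)
      (_ : CommRing D') (_ : Algebra D D') (_ : Algebra A D') (_ : Algebra A' D') (q' : Ideal D')
      (f : MvPolynomial (Fin d) A' →ₐ[A'] D'),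
      IsDomain A' ∧ Algebra.Etale A A' ∧ p'.IsPrime ∧ TrivRes p p' ∧ Algebra.Etale D D' ∧
      IsScalarTower A A' D' ∧ IsScalarTower A D D' ∧ f.toRingHom.Finite ∧
      q'.IsPrime ∧ q'.comap (algebraMap A' D') = p' ∧ TrivRes q q' := by
  obtain ⟨A', _, _, p', D', _, _, _, _, q', f, hEt, hp', hTp, hEtD, _, _, hf, hq', hpq, hTq⟩ := h
  haveI : Algebra.FinitePresentation A A' := inferInstance
  haveI : IsNoetherianRing A' := Algebra.FiniteType.isNoetherianRing A A'
  haveI : IsDomain (Localization.AtPrime p') := hdom A' p' hTp.1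
  obtain ⟨v, hv, hvd⟩ := exists_isDomain_away p'
  obtain ⟨p'', D'', _, _, _, _, q'', f'', h1, h2, h3, h4, h5, h6, h7, h8, h9⟩ :=
    shrink d p q p' q' f hTp hTq hf hpq v hv
  haveI : Algebra.Etale A' (Localization.Away v) := Algebra.Etale.of_isLocalizationAway v
  exact ⟨Localization.Away v, inferInstance, inferInstance, p'', D'', _, _, _, _, q'', f'', hvd,
    Algebra.Etale.comp A A' (Localization.Away v), h1, h2, h3, h4, h5, h6, h7, h8, h9⟩

lemma isIso_residueFieldMap_comp {X Y Z : Scheme.{u}} (f : X ⟶ Y) (j : Y ⟶ Z)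
    [IsOpenImmersion j] (x : X) (hx : IsIso (f.residueFieldMap x)) :
    IsIso ((f ≫ j).residueFieldMap x) := by
  rw [Scheme.residueFieldMap_comp]
  have h1 : IsIso (j.residueFieldMap (f x)) := by infer_instance
  exact IsIso.comp_isIso' h1 hx

/-- trivial residue extensions, geometrically -/
theorem isIso_residueFieldMap {X : Scheme.{u}} {U : X.Opens} (hU : IsAffineOpen U)
    {D' : Type u} [CommRing D'] (φ : Γ(X, U) →+* D') (q' : Ideal D') (hq' : q'.IsPrime)
    (hT : ∀ x : D', ∃ a b : Γ(X, U), b ∉ q'.comap φ ∧ φ b * x - φ a ∈ q') :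
    IsIso ((Spec.map (CommRingCat.ofHom φ) ≫ hU.fromSpec).residueFieldMap
      (⟨q', hq'⟩ : PrimeSpectrum D')) := by
  have h1 : IsIso ((Spec.map (CommRingCat.ofHom φ)).residueFieldMap
      (⟨q', hq'⟩ : PrimeSpectrum D')) := by
    refine (ConcreteCategory.isIso_iff_bijective _).mpr ⟨RingHom.injective _, ?_⟩
    refine (K383.UH.residue_iff_at φ _).mpr fun b => ?_
    obtain ⟨a, s, hs, h⟩ := hT b
    exact ⟨s, a, hs, h⟩
  exact isIso_residueFieldMap_comp _ _ _ h1

lemma etale_chart {X : Scheme.{u}} {U : X.Opens} (hU : IsAffineOpen U) {D' : Type u}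
    [CommRing D'] [Algebra Γ(X, U) D'] [Algebra.Etale Γ(X, U) D'] :
    Etale (Spec.map (CommRingCat.ofHom (algebraMap Γ(X, U) D')) ≫ hU.fromSpec) := by
  haveI : Etale (Spec.map (CommRingCat.ofHom (algebraMap Γ(X, U) D'))) := by
    refine (HasRingHomProperty.Spec_iff (P := @Etale)).mpr ?_
    exact (RingHom.etale_algebraMap).mpr inferInstance
  infer_instance

lemma chart_apply {X : Scheme.{u}} {U : X.Opens} (hU : IsAffineOpen U) {D' : Type u}
    [CommRing D'] [Algebra Γ(X, U) D'] (q' : Ideal D') (hq' : q'.IsPrime) {x : X} (hx : x ∈ U)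
    (h : q'.comap (algebraMap Γ(X, U) D') = (hU.primeIdealOf ⟨x, hx⟩).asIdeal) :
    (Spec.map (CommRingCat.ofHom (algebraMap Γ(X, U) D')) ≫ hU.fromSpec)
      (⟨q', hq'⟩ : PrimeSpectrum D') = x := by
  rw [Scheme.Hom.comp_apply]
  have h1 : Spec.map (CommRingCat.ofHom (algebraMap Γ(X, U) D')) (⟨q', hq'⟩ : PrimeSpectrum D') =
      hU.primeIdealOf ⟨x, hx⟩ := PrimeSpectrum.ext h
  rw [h1, hU.fromSpec_primeIdealOf]

/-- étale local structure of morphisms of finite type -/
theorem exists_nbhd {S X : Scheme.{u}} [IsLocallyNoetherian S] (φ : X ⟶ S)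
    [LocallyOfFiniteType φ] (x₀ : X) (d : ℕ) (hd : FlatMor.fibreDimAt φ x₀ = d)
    (hN : IsDomain (S.presheaf.stalk (φ x₀)) ∧ IsIntegrallyClosed (S.presheaf.stalk (φ x₀))) :
    ∃ (Y B' : Scheme.{u}) (g : Y ⟶ X) (h : B' ⟶ S) (ψ : Y ⟶ B')
      (y₀ : ↥Y) (b₀ : ↥B') (q : Y ⟶ 𝔸(ULift.{u} (Fin d); B')),
      IsAffine Y ∧ IsAffine B' ∧ IsIntegral B' ∧ Etale g ∧ Etale h ∧
      g.base y₀ = x₀ ∧ h.base b₀ = φ.base x₀ ∧ ψ.base y₀ = b₀ ∧
      IsIso (g.residueFieldMap y₀) ∧ IsIso (h.residueFieldMap b₀) ∧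
      g ≫ φ = ψ ≫ h ∧ q ≫ (𝔸(ULift.{u} (Fin d); B') ↘ B') = ψ ∧ IsFinite q := by
  obtain ⟨V, U, hV, hU, e, φ', hxU, hqf, hC⟩ :=
    Groth.Agent.FlatB.QfAffSpace.exists_chart φ x₀ d hd
  have hxV : φ x₀ ∈ V := e hxU
  let A : Type u := Γ(S, V)
  let D : Type u := Γ(X, U)
  letI algAD : Algebra A D := (φ.appLE V U e).hom.toAlgebra
  haveI : IsNoetherianRing A := IsLocallyNoetherian.component_noetherian ⟨V, hV⟩
  haveI : Algebra.FiniteType A D := φ.finiteType_appLE hV hU e
  let P := hV.primeIdealOf ⟨φ x₀, hxV⟩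
  let Q := hU.primeIdealOf ⟨x₀, hxU⟩
  have hPQ : PrimeSpectrum.comap (φ.appLE V U e).hom Q = P :=
    IsAffineOpen.comap_primeIdealOf_appLE V hV U hU e hxU
  have hPQ' : Q.asIdeal.comap (algebraMap A D) = P.asIdeal := congrArg PrimeSpectrum.asIdeal hPQ
  let x : Fin d → D := fun i => φ' (MvPolynomial.X i)
  have hx : (MvPolynomial.aeval x : MvPolynomial (Fin d) A →ₐ[A] D).toRingHom = φ' := by
    refine MvPolynomial.ringHom_ext (fun a => ?_) (fun i => ?_)
    · change MvPolynomial.aeval x (MvPolynomial.C a) = _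
      rw [MvPolynomial.aeval_C]
      exact congr($hC a).symm
    · change MvPolynomial.aeval x (MvPolynomial.X i) = _
      rw [MvPolynomial.aeval_X]
  have hT : TConcl A D d P.asIdeal Q.asIdeal := by
    refine TConcl_all d P.asIdeal Q.asIdeal hPQ' x ?_
    rw [hx]
    letI := φ'.toAlgebra
    haveI : Algebra.QuasiFinite (MvPolynomial (Fin d) A) D := hqf
    infer_instance
  obtain ⟨A', _, _, p', D', _, _, _, _, q', f, hdm, hEt, hp', hTp, hEtD, _, _, hf, hq', hpq,
    hTq⟩ := hT.exists_domain (by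
    intro A' _ _ _ p' _ hp'
    let h : Spec (CommRingCat.of A') ⟶ S :=
      Spec.map (CommRingCat.ofHom (algebraMap A A')) ≫ hV.fromSpec
    haveI : Etale h := etale_chart hV
    have hb : h (⟨p', inferInstance⟩ : PrimeSpectrum A') = φ x₀ :=
      chart_apply hV p' inferInstance hxV hp'
    have h1 := ((Groth.Agent.Etbase.NormalStalk.normal_stalk_iff_of_etale h
      (⟨p', inferInstance⟩ : PrimeSpectrum A')).mpr (by
        rw [hb]; exact hN)).1
    let e1 : Localization.AtPrime p' ≃+* 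
        (Spec (CommRingCat.of A')).presheaf.stalk (⟨p', inferInstance⟩ : PrimeSpectrum A') :=
      (StructureSheaf.stalkIso A' (⟨p', inferInstance⟩ : PrimeSpectrum A')).toRingEquiv
    exact e1.injective.isDomain e1.toRingHom)
  haveI := hdm
  let h : Spec (CommRingCat.of A') ⟶ S :=
    Spec.map (CommRingCat.ofHom (algebraMap A A')) ≫ hV.fromSpec
  let g : Spec (CommRingCat.of D') ⟶ X :=
    Spec.map (CommRingCat.ofHom (algebraMap D D')) ≫ hU.fromSpec
  let ψ : Spec (CommRingCat.of D') ⟶ Spec (CommRingCat.of A') :=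
    Spec.map (CommRingCat.ofHom (algebraMap A' D'))
  let y₀ : ↥(Spec (CommRingCat.of D')) := (⟨q', hq'⟩ : PrimeSpectrum D')
  let b₀ : ↥(Spec (CommRingCat.of A')) := (⟨p', hp'⟩ : PrimeSpectrum A')
  let c : Spec (.of (MvPolynomial (Fin d) A')) ⟶
      Spec (.of (MvPolynomial (ULift.{u} (Fin d)) A')) :=
    Spec.map (CommRingCat.ofHom (MvPolynomial.renameEquiv A'
      (Equiv.ulift (α := Fin d))).toRingEquiv.toRingHom)
  have hc : IsIso c := by
    have : IsIso (CommRingCat.ofHom (MvPolynomial.renameEquiv A'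
        (Equiv.ulift (α := Fin d))).toRingEquiv.toRingHom) :=
      (ConcreteCategory.isIso_iff_bijective _).mpr (MvPolynomial.renameEquiv A'
        (Equiv.ulift (α := Fin d))).bijective
    infer_instance
  let q : Spec (CommRingCat.of D') ⟶ 𝔸(ULift.{u} (Fin d); Spec (CommRingCat.of A')) :=
    Spec.map (CommRingCat.ofHom f.toRingHom) ≫ c ≫
      (AffineSpace.SpecIso (ULift.{u} (Fin d)) (CommRingCat.of A')).inv
  have hqψ : q ≫ (𝔸(ULift.{u} (Fin d); Spec (CommRingCat.of A')) ↘ Spec (CommRingCat.of A')) =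
      ψ := by
    simp only [q, Category.assoc]
    rw [AffineSpace.SpecIso_inv_over, ← Spec.map_comp, ← Spec.map_comp]
    congr 1
    ext r
    change f (MvPolynomial.rename (Equiv.ulift (α := Fin d)) (MvPolynomial.C r)) = algebraMap A' D' r
    rw [MvPolynomial.rename_C, MvPolynomial.algHom_C]
  have hfin : IsFinite q := by
    haveI : IsFinite (Spec.map (CommRingCat.ofHom f.toRingHom)) :=
      (IsFinite.SpecMap_iff _).mpr hf
    infer_instance
  refine ⟨_, _, g, h, ψ, y₀, b₀, q, inferInstance, inferInstance, inferInstance, etale_chart hU,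
    etale_chart hV, chart_apply hU q' hq' hxU hTq.1, chart_apply hV p' hp' hxV hTp.1,
    PrimeSpectrum.ext hpq,
    isIso_residueFieldMap hU (algebraMap D D') q' hq' fun x => ?_,
    isIso_residueFieldMap hV (algebraMap A A') p' hp' fun x => ?_, ?_, hqψ, hfin⟩
  · obtain ⟨a, b, hb, h⟩ := hTq.2 x
    exact ⟨a, b, by rw [hTq.1]; exact hb, h⟩
  · obtain ⟨a, b, hb, h⟩ := hTp.2 x
    exact ⟨a, b, by rw [hTp.1]; exact hb, h⟩
  · simp only [g, h, ψ, Category.assoc]
    rw [← IsAffineOpen.SpecMap_appLE_fromSpec φ hV hU e, ← Category.assoc, ← Category.assoc,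
      ← Spec.map_comp, ← Spec.map_comp]
    congr 2
    ext r
    change algebraMap D D' (algebraMap A D r) = algebraMap A' D' (algebraMap A A' r)
    rw [← IsScalarTower.algebraMap_apply, ← IsScalarTower.algebraMap_apply]

end K837.RC
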