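import Groth.Agent.MovLem.K837.Diff
import Groth.Agent.VarietyA.SmoothReg

/-!
# Smoothness of a morphism `Spec B ⟶ Spec k[T]` at a point where the differential does not vanish
-/

set_option autoImplicit false
universe u

open CategoryTheory CategoryTheory.Limits AlgebraicGeometry IsLocalRing

namespace K837.SmPoint

/-- `φ : k[T] → B`, `T ↦ v`, over a field `k`: `Spec B ⟶ Spec k[T]` is smooth at every point `q`, smooth over `k`,
where the differential of `v` does not vanish. -/
theorem mem_smoothLocus {k B : Type u} [Field k] [CommRing B] [Algebra k B] [Algebra.FiniteType k B] (v : B)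
    [LocallyOfFinitePresentation (Spec.map (CommRingCat.ofHom (Polynomial.aeval (R := k) v).toRingHom))]
    (q : Spec (CommRingCat.of B)) (hq : Algebra.IsSmoothAt k q.asIdeal)
    (hv : KaehlerDifferential.D k (Localization.AtPrime q.asIdeal) (algebraMap B _ v) ∉
      (maximalIdeal (Localization.AtPrime q.asIdeal) • ⊤ :
        Submodule (Localization.AtPrime q.asIdeal) (KaehlerDifferential k (Localization.AtPrime q.asIdeal)))) :
    q ∈ (Spec.map (CommRingCat.ofHom (Polynomial.aeval (R := k) v).toRingHom)).smoothLocus := by
  let _ : Algebra (Polynomial k) B := (Polynomial.aeval (R := k) v).toRingHom.toAlgebra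
  have : IsScalarTower k (Polynomial k) B := IsScalarTower.of_algebraMap_eq fun r => by
    change _ = Polynomial.aeval v (algebraMap k (Polynomial k) r)
    rw [AlgHom.commutes]
  have h1 : LocallyOfFinitePresentation (Spec.map (CommRingCat.ofHom (algebraMap (Polynomial k) B))) :=
    ‹LocallyOfFinitePresentation (Spec.map (CommRingCat.ofHom (Polynomial.aeval (R := k) v).toRingHom))›
  refine (Groth.Agent.VarietyA.SmoothLocusSch.mem_smoothLocus_SpecMap_iff
    (R := Polynomial k) (S := B) q).mpr ?_
  change Algebra.FormallySmooth (Polynomial k) (Localization.AtPrime q.asIdeal)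
  have : IsScalarTower k (Polynomial k) (Localization.AtPrime q.asIdeal) :=
    IsScalarTower.of_algebraMap_eq fun r => by
      rw [IsScalarTower.algebraMap_apply k B, IsScalarTower.algebraMap_apply (Polynomial k) B,
        ← IsScalarTower.algebraMap_apply k (Polynomial k) B]
  have hq' : Algebra.FormallySmooth k (Localization.AtPrime q.asIdeal) := hq
  refine K837.Diff.formallySmooth_polynomial ?_
  have h2 : algebraMap (Polynomial k) (Localization.AtPrime q.asIdeal) Polynomial.X =
      algebraMap B (Localization.AtPrime q.asIdeal) v := by
    rw [IsScalarTower.algebraMap_apply (Polynomial k) B]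
    congr 1
    exact Polynomial.aeval_X v
  rw [h2]
  exact hv

end K837.SmPoint
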