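import Mathlib.Algebra.MvPolynomial.Basic
import Mathlib.RingTheory.Polynomial.Basic
import Mathlib.RingTheory.MvPolynomial.Homogeneous
import Mathlib.Algebra.Polynomial.BigOperators

/-!
# Twisted translations `x_i ↦ x_i + g_i t^N`: leading coefficients
-/

set_option autoImplicit false
universe u v

open Polynomial

namespace K837.Twist

section

variable {K : Type v} [Field K] {r : ℕ}

/-- the twisted variable `x_i + g_i t^N` -/
noncomputable def Z (N : ℕ) (g : Fin r → K) (i : Fin r) : Polynomial (MvPolynomial (Fin r) K) :=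
  Polynomial.C (MvPolynomial.X i) + Polynomial.C (MvPolynomial.C (g i)) * Polynomial.X ^ N

lemma natDegree_Z_le (N : ℕ) (g : Fin r → K) (i : Fin r) : (Z N g i).natDegree ≤ N := by
  unfold Z
  compute_degree

lemma coeff_Z {N : ℕ} (hN : 1 ≤ N) (g : Fin r → K) (i : Fin r) :
    (Z N g i).coeff N = MvPolynomial.C (g i) := by
  unfold Z
  rw [Polynomial.coeff_add, Polynomial.coeff_C_mul, Polynomial.coeff_X_pow_self, Polynomial.coeff_C_of_ne_zero (by omega)]
  simp

lemma natDegree_prod_le (N : ℕ) (g : Fin r → K) (m : Fin r → ℕ) (s : Finset (Fin r)) :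
    (∏ i ∈ s, Z N g i ^ m i).natDegree ≤ (∑ i ∈ s, m i) * N := by
  classical
  refine (Polynomial.natDegree_prod_le _ _).trans ?_
  rw [Finset.sum_mul]
  refine Finset.sum_le_sum fun i _ => ?_
  refine (Polynomial.natDegree_pow_le).trans ?_
  exact Nat.mul_le_mul_left _ (natDegree_Z_le N g i)

lemma coeff_prod {N : ℕ} (hN : 1 ≤ N) (g : Fin r → K) (m : Fin r → ℕ) (s : Finset (Fin r)) :
    (∏ i ∈ s, Z N g i ^ m i).coeff ((∑ i ∈ s, m i) * N) = MvPolynomial.C (∏ i ∈ s, g i ^ m i) := by
  classical
  induction s using Finset.induction_on with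
  | empty => simp
  | insert a s ha ih =>
    rw [Finset.prod_insert ha, Finset.sum_insert ha, add_mul,
      Polynomial.coeff_mul_add_eq_of_natDegree_le _ (natDegree_prod_le N g m s), ih,
      Polynomial.coeff_pow_of_natDegree_le (natDegree_Z_le N g a), coeff_Z hN, Finset.prod_insert ha]
    · simp
    · exact (Polynomial.natDegree_pow_le).trans (Nat.mul_le_mul_left _ (natDegree_Z_le N g a))

variable {k : Type u} [Field k] [Algebra k K]

/-- the twisted substitution on coefficients -/
noncomputable def phi (k : Type u) [Field k] [Algebra k K] (N : ℕ) (g : Fin r → K) :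
    MvPolynomial (Fin r) k →ₐ[k] Polynomial (MvPolynomial (Fin r) K) :=
  MvPolynomial.aeval (Z N g)

lemma phi_monomial (N : ℕ) (g : Fin r → K) (m : Fin r →₀ ℕ) (c : k) :
    phi k N g (MvPolynomial.monomial m c) =
      Polynomial.C (MvPolynomial.C (algebraMap k K c)) * ∏ i, Z N g i ^ m i := by
  unfold phi
  rw [MvPolynomial.aeval_monomial, Finsupp.prod_fintype _ _ (by simp)]
  rfl

lemma natDegree_phi_le (N : ℕ) (g : Fin r → K) (p : MvPolynomial (Fin r) k) (D : ℕ)
    (hD : p.totalDegree ≤ D) : (phi k N g p).natDegree ≤ D * N := by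
  classical
  conv_lhs => rw [p.as_sum, map_sum]
  refine Polynomial.natDegree_sum_le_of_forall_le _ _ fun m hm => ?_
  rw [phi_monomial]
  refine (Polynomial.natDegree_C_mul_le _ _).trans ((natDegree_prod_le N g m Finset.univ).trans ?_)
  refine Nat.mul_le_mul_right _ ?_
  have := MvPolynomial.le_totalDegree hm
  rw [Finsupp.sum_fintype _ _ (by simp)] at this
  exact this.trans hD

lemma coeff_phi {N : ℕ} (hN : 1 ≤ N) (g : Fin r → K) (p : MvPolynomial (Fin r) k) (D : ℕ)
    (hD : p.totalDegree ≤ D) :
    (phi k N g p).coeff (D * N) =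
      MvPolynomial.C (MvPolynomial.aeval g (MvPolynomial.homogeneousComponent D p)) := by
  classical
  conv_lhs => rw [p.as_sum, map_sum]
  rw [Polynomial.finsetSum_coeff, MvPolynomial.homogeneousComponent_apply, map_sum, map_sum,
    Finset.sum_filter]
  refine Finset.sum_congr rfl fun m hm => ?_
  rw [phi_monomial, Polynomial.coeff_C_mul]
  have h1 := MvPolynomial.le_totalDegree hm
  rw [Finsupp.sum_fintype _ _ (by simp)] at h1
  have hdeg : m.degree = ∑ i, m i := by
    rw [Finsupp.degree_eq_sum]
  split_ifs with h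
  · have hDm : D = ∑ i, m i := by rw [← h, hdeg]
    rw [hDm, coeff_prod hN, MvPolynomial.aeval_monomial, Finsupp.prod_fintype _ _ (by simp), map_mul]
  · rw [Polynomial.coeff_eq_zero_of_natDegree_lt, mul_zero]
    refine (natDegree_prod_le N g m Finset.univ).trans_lt ?_
    have : ∑ i, m i < D := by
      rw [hdeg] at h
      omega
    exact Nat.mul_lt_mul_of_pos_right this hN

/-- the twisted substitution on polynomials in `t` -/
noncomputable def Phi (k : Type u) [Field k] [Algebra k K] (N : ℕ) (g : Fin r → K) :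
    Polynomial (MvPolynomial (Fin r) k) →+* Polynomial (MvPolynomial (Fin r) K) :=
  Polynomial.eval₂RingHom (phi k N g).toRingHom Polynomial.X

lemma Phi_eq (N : ℕ) (g : Fin r → K) (f : Polynomial (MvPolynomial (Fin r) k)) :
    Phi k N g f = ∑ j ∈ f.support, phi k N g (f.coeff j) * Polynomial.X ^ j := by
  change Polynomial.eval₂ _ _ _ = _
  rw [Polynomial.eval₂_eq_sum, Polynomial.sum_def]
  rfl

end

/-- The main computation. -/
theorem main {k : Type u} [Field k] {r : ℕ} (f : Polynomial (MvPolynomial (Fin r) k)) (hf : f ≠ 0) :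
    ∃ h : MvPolynomial (Fin r) k, h ≠ 0 ∧ ∃ D j₀ : ℕ, (1 ≤ f.natDegree → 1 ≤ D + j₀) ∧
      ∀ N : ℕ, f.natDegree < N → ∀ (K : Type v) [Field K] [Algebra k K] (g : Fin r → K),
        MvPolynomial.aeval g h ≠ 0 →
        (Phi k N g f).natDegree = D * N + j₀ ∧
        (Phi k N g f).leadingCoeff = MvPolynomial.C (MvPolynomial.aeval g h) := by
  classical
  have hne : f.support.Nonempty := by
    rw [Polynomial.nonempty_support_iff]; exact hf
  obtain ⟨j₁, hj₁, hmax⟩ := Finset.exists_max_image f.support (fun j => (f.coeff j).totalDegree) hne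
  set D := (f.coeff j₁).totalDegree with hD
  have hne2 : (f.support.filter (fun j => (f.coeff j).totalDegree = D)).Nonempty :=
    ⟨j₁, by simp only [Finset.mem_filter]; exact ⟨hj₁, rfl⟩⟩
  obtain ⟨j₀, hj₀, hmax2⟩ := Finset.exists_max_image _ (fun j => j) hne2
  rw [Finset.mem_filter] at hj₀
  refine ⟨MvPolynomial.homogeneousComponent D (f.coeff j₀), ?_, D, j₀, ?_, ?_⟩
  · intro h0
    have hc : f.coeff j₀ ≠ 0 := Polynomial.mem_support_iff.mp hj₀.1
    obtain ⟨m, hm, hm2⟩ := Finset.exists_mem_eq_sup (f.coeff j₀).support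
      (MvPolynomial.support_nonempty.mpr hc) (fun s => s.sum fun _ e => e)
    have hm3 : m.degree = D := by
      rw [← hj₀.2, MvPolynomial.totalDegree, hm2, Finsupp.degree_eq_sum, Finsupp.sum_fintype _ _ (by simp)]
    have h2 := congrArg (MvPolynomial.coeff m) h0
    rw [MvPolynomial.coeff_homogeneousComponent, if_pos hm3, MvPolynomial.coeff_zero] at h2
    exact (MvPolynomial.mem_support_iff.mp hm) h2
  · intro h1
    by_contra hlt
    have hD0 : D = 0 := by omega
    have hj0 : j₀ = 0 := by omega
    have hnat : f.natDegree ∈ f.support := Polynomial.natDegree_mem_support_of_nonzero hf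
    have := hmax2 f.natDegree (by
      rw [Finset.mem_filter]
      refine ⟨hnat, ?_⟩
      have := hmax _ hnat
      omega)
    omega
  · intro N hN K _ _ g hg
    have hN1 : 1 ≤ N := by omega
    have hle : ∀ j ∈ f.support, j ≠ j₀ →
        (phi k N g (f.coeff j) * Polynomial.X ^ j).natDegree < D * N + j₀ := by
      intro j hj hjne
      have hjN : j ≤ f.natDegree := Polynomial.le_natDegree_of_mem_supp j hj
      refine (Polynomial.natDegree_mul_le).trans_lt ?_
      rw [Polynomial.natDegree_X_pow]
      by_cases hjD : (f.coeff j).totalDegree = D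
      · have h2 := hmax2 j (by rw [Finset.mem_filter]; exact ⟨hj, hjD⟩)
        have h3 := natDegree_phi_le N g (f.coeff j) D hjD.le
        have h4 : j < j₀ := lt_of_le_of_ne h2 hjne
        omega
      · have h2 := hmax j hj
        have h3 := natDegree_phi_le N g (f.coeff j) (f.coeff j).totalDegree le_rfl
        have h4 : (f.coeff j).totalDegree + 1 ≤ D := by
          have : (f.coeff j).totalDegree ≤ D := h2
          omega
        have h5 : ((f.coeff j).totalDegree + 1) * N ≤ D * N := Nat.mul_le_mul_right _ h4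
        rw [add_mul, one_mul] at h5
        omega
    have hcoeff : (Phi k N g f).coeff (D * N + j₀) =
        MvPolynomial.C (MvPolynomial.aeval g (MvPolynomial.homogeneousComponent D (f.coeff j₀))) := by
      rw [Phi_eq, Polynomial.finsetSum_coeff, Finset.sum_eq_single j₀]
      · rw [Polynomial.coeff_mul_X_pow, coeff_phi hN1 g _ D hj₀.2.le]
      · intro j hj hjne
        exact Polynomial.coeff_eq_zero_of_natDegree_lt (hle j hj hjne)
      · intro h; exact absurd hj₀.1 h
    have hnd : (Phi k N g f).natDegree ≤ D * N + j₀ := by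
      rw [Phi_eq]
      refine Polynomial.natDegree_sum_le_of_forall_le _ _ fun j hj => ?_
      by_cases hjj : j = j₀
      · subst hjj
        refine (Polynomial.natDegree_mul_le).trans ?_
        rw [Polynomial.natDegree_X_pow]
        have := natDegree_phi_le N g (f.coeff j) D hj₀.2.le
        omega
      · exact (hle j hj hjj).le
    have hnd2 : (Phi k N g f).natDegree = D * N + j₀ := by
      refine Polynomial.natDegree_eq_of_le_of_coeff_ne_zero hnd ?_
      rw [hcoeff]
      intro h0
      apply hg
      exact (MvPolynomial.C_injective (Fin r) K) (by rw [h0, MvPolynomial.C_0])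
    refine ⟨hnd2, ?_⟩
    rw [Polynomial.leadingCoeff, hnd2, hcoeff]

end K837.Twist
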